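import Cfsg.Agent.Lib.Invol.HJ.Uniq.Cert

/-! A homomorphism from a coset table: the graph is a subgroup of the product. -/

set_option autoImplicit false
set_option linter.unusedSectionVars false

namespace Cfsg.Agent.Invol.Cen192.AP

open Cfsg.Agent.Spor.Coset (ev)
open Cfsg.Agent.Invol.HJ.Uniq (Tab)

theorem ev_prod {G M : Type*} [Group G] [Group M] (a : ℕ → G) (b : ℕ → M) :
    ∀ w : List ℕ, ev (fun s => (a s, b s)) w = (ev a w, ev b w)
  | [] => rfl
  | s :: w => by rw [ev, ev_prod a b w]; rfl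

/-- Generators satisfying the relations of a table give a homomorphism from a group of the order the table allows. -/
theorem exists_hom {G M : Type*} [Group G] [Group M] [Finite G] [Finite M] (T : Tab) (hT : T.Checked) (ge : ℕ → G)
    (me : ℕ → M) (hinv : ∀ s < T.n, ge s * ge (T.iv s) = 1 ∧ me s * me (T.iv s) = 1)
    (hrels : ∀ w ∈ T.rels, ev ge w = 1 ∧ ev me w = 1) (HL : Subgroup (G × M))
    (hsub : ∀ w ∈ T.sub, (ev ge w, ev me w) ∈ HL) (hgen : Subgroup.closure {m | ∃ s < T.n, me s = m} = ⊤)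
    (hbound : T.N * Nat.card HL ≤ Nat.card M) :
    ∃ φ : M →* G, (∀ s < T.n, φ (me s) = ge s) ∧ ∀ x ∈ HL, φ x.2 = x.1 := by
  classical
  set p : ℕ → G × M := fun s => (ge s, me s) with hp
  have hpinv : ∀ s < T.n, p s * p (T.iv s) = 1 := fun s hs => Prod.ext (hinv s hs).1 (hinv s hs).2
  have hall := T.holds_all p hT hpinv (fun w hw => by rw [hp, ev_prod, (hrels w hw).1, (hrels w hw).2]; rfl)
    (H := HL) (fun w hw => by rw [hp, ev_prod]; exact hsub w hw)
  set D := Subgroup.closure {x | ∃ s < T.n, p s = x} with hD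
  let F : Fin T.N × HL → G × M := fun q => q.2.1 * T.rep p q.1
  have hU : ∀ x ∈ D, x ∈ Set.range F := by
    intro x hx
    have step : ∀ {y : G × M}, y ∈ Set.range F → ∀ s < T.n, y * p s ∈ Set.range F := by
      rintro _ ⟨⟨b, l⟩, rfl⟩ s hs
      have h1 := hall b b.2 s hs
      refine ⟨⟨⟨T.tgt b s, hT.lt b b.2 s hs⟩, ⟨_, mul_mem l.2 h1⟩⟩, ?_⟩
      simp only [F]
      group
    induction hx using Subgroup.closure_induction_right with
    | one => exact ⟨⟨⟨0, hT.pos⟩, 1⟩, by simp [F, T.rep_zero p]⟩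
    | mul_right y _ z hz ih => obtain ⟨s, hs, rfl⟩ := hz; exact step ih s hs
    | mul_inv_cancel y _ z hz ih =>
      obtain ⟨s, hs, rfl⟩ := hz
      rw [inv_eq_of_mul_eq_one_right (hpinv s hs)]
      exact step ih _ (hT.iv_lt s hs)
  have hrange : Nat.card (Set.range F) ≤ Nat.card M := by
    refine le_trans (Nat.card_le_card_of_surjective (Set.rangeFactorization F) Set.rangeFactorization_surjective) ?_
    rw [Nat.card_prod, Nat.card_fin]
    exact hbound
  set π : D →* M := (MonoidHom.snd G M).comp D.subtype with hπ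
  have hsurj : Function.Surjective π := by
    rw [← MonoidHom.range_eq_top, eq_top_iff, ← hgen, Subgroup.closure_le]
    rintro _ ⟨s, hs, rfl⟩
    exact ⟨⟨p s, Subgroup.subset_closure ⟨s, hs, rfl⟩⟩, rfl⟩
  have hsub' : (D : Set (G × M)) ⊆ Set.range F := hU
  have hDr : Nat.card D ≤ Nat.card (Set.range F) :=
    Nat.card_le_card_of_injective (fun d => (⟨d.1, hsub' d.2⟩ : Set.range F))
      (fun a b e => Subtype.ext (congrArg (fun t : Set.range F => t.1) e))
  have hbij : Function.Bijective π := by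
    have hMD : Nat.card M ≤ Nat.card D := Nat.card_le_card_of_surjective π hsurj
    exact hsurj.bijective_of_nat_card_le (hDr.trans hrange)
  have heq : (D : Set (G × M)) = Set.range F := by
    refine Set.eq_of_subset_of_ncard_le hsub' ?_ (Set.toFinite _)
    rw [← Nat.card_coe_set_eq, ← Nat.card_coe_set_eq]
    exact hrange.trans (Nat.card_le_card_of_surjective π hsurj)
  set ψ := MulEquiv.ofBijective π hbij with hψ
  refine ⟨((MonoidHom.fst G M).comp D.subtype).comp ψ.symm.toMonoidHom, fun s hs => ?_, fun x hx => ?_⟩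
  · have e : ψ ⟨p s, Subgroup.subset_closure ⟨s, hs, rfl⟩⟩ = me s := rfl
    show (ψ.symm (me s)).1.1 = ge s
    rw [← e, MulEquiv.symm_apply_apply]
  · have hxD : x ∈ D := by
      show x ∈ (D : Set (G × M))
      rw [heq]
      exact ⟨⟨⟨0, hT.pos⟩, ⟨x, hx⟩⟩, by simp [F, T.rep_zero p]⟩
    have e : ψ ⟨x, hxD⟩ = x.2 := rfl
    show (ψ.symm x.2).1.1 = x.1
    rw [← e, MulEquiv.symm_apply_apply]

end Cfsg.Agent.Invol.Cen192.AP
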