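import Cfsg.Agent.Lib.Invol.Cen192.AP.Pair
import Cfsg.Agent.Lib.Invol.Cen192.AP.Graph

/-! The table and two commuting rotations generate an alternating group of degree eight. -/

set_option autoImplicit false
set_option linter.unusedSectionVars false
set_option maxRecDepth 100000

namespace Cfsg.Agent.Invol.Cen192.AP

open Cfsg.Agent.Spor.Coset (ev fld)
open Cfsg.Agent.Invol.HJ.Uniq (Tab)

/-- the image of a point under a code -/
def dig (c : ℕ) (i : Fin 8) : Fin 8 := ⟨fld 3 c i.val % 8, Nat.mod_lt _ (by norm_num)⟩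

/-- a preimage of a point under a code -/
def idig (c : ℕ) (j : Fin 8) : Fin 8 := ((List.finRange 8).find? fun i => dig c i == j).getD 0

/-- the code is a permutation -/
def okCode (c : ℕ) : Prop := (∀ i, idig c (dig c i) = i) ∧ ∀ i, dig c (idig c i) = i

instance (c : ℕ) : Decidable (okCode c) := by unfold okCode; infer_instance

/-- the permutation of a code -/
def perm8 (c : ℕ) : Equiv.Perm (Fin 8) := if hc : okCode c then ⟨dig c, idig c, hc.1, hc.2⟩ else 1

theorem perm8_apply {c : ℕ} (hc : okCode c) (i : Fin 8) : perm8 c i = dig c i := by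
  rw [perm8, dif_pos hc]; rfl

/-- the even permutation of a code -/
def alt8 (c : ℕ) : alternatingGroup (Fin 8) :=
  if hs : Equiv.Perm.sign (perm8 c) = 1 then ⟨perm8 c, Equiv.Perm.mem_alternatingGroup.2 hs⟩ else 1

/-- the code of an element of the table -/
def pCode (i : ℕ) : ℕ := fld 24 permTbl i

/-- the table in the alternating group -/
def p8 (i : ℕ) : alternatingGroup (Fin 8) := alt8 (pCode i)

/-- the generators of the alternating group -/
def m8 (k : ℕ) : alternatingGroup (Fin 8) := alt8 (genCode.getD k 0)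

/-- a word on the points -/
def wdig : List ℕ → Fin 8 → Fin 8
  | [], i => i
  | s :: w, i => dig (genCode.getD s 0) (wdig w i)

theorem code_ok : ((List.range 192).all fun i => decide (okCode (pCode i) ∧ Equiv.Perm.sign (perm8 (pCode i)) = 1)) = true ∧
    ((List.range 12).all fun k => decide (okCode (genCode.getD k 0) ∧ Equiv.Perm.sign (perm8 (genCode.getD k 0)) = 1)) = true ∧
    ((List.range 192).all fun i => (List.range 192).all fun j => (List.finRange 8).all fun x =>
      dig (pCode (mA i j)) x == dig (pCode i) (dig (pCode j) x)) = true ∧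
    ((List.range 8).all fun k => genCode.getD k 0 == pCode (gi k)) = true := by
  decide +kernel

theorem model_ok : ((List.finRange 8).all fun x => eT.rels.all fun w => w.all (fun s => decide (s < 12)) &&
      wdig w x == x) = true ∧
    ((List.range 12).all fun s => (List.finRange 8).all fun x => wdig [s, giv s] x == x) = true ∧
    ((List.finRange 8).all fun a => (List.finRange 8).all fun b => (List.finRange 8).all fun c =>
      a == b || a == c || b == c || cycWords.any fun r => r.2.2.2.all (fun s => decide (s < 12)) &&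
        (List.finRange 8).all fun x => wdig r.2.2.2 x == Equiv.swap a b (Equiv.swap b c x)) = true := by
  decide +kernel

theorem eT_check : eT.check = true := by decide +kernel

theorem eT_data : eT.n = 12 ∧ eT.N = 105 ∧ eT.sub = (List.range 8).map fun k => [k] := ⟨rfl, rfl, by decide +kernel⟩

theorem p8_spec {i : ℕ} (hi : i < 192) (x : Fin 8) : (p8 i : Equiv.Perm (Fin 8)) x = dig (pCode i) x := by
  have := code_ok.1
  simp only [List.all_eq_true, List.mem_range, decide_eq_true_eq] at this
  obtain ⟨h1, h2⟩ := this i hi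
  rw [p8, alt8, dif_pos h2]; exact perm8_apply h1 x

theorem m8_spec {k : ℕ} (hk : k < 12) (x : Fin 8) : (m8 k : Equiv.Perm (Fin 8)) x = dig (genCode.getD k 0) x := by
  have := code_ok.2.1
  simp only [List.all_eq_true, List.mem_range, decide_eq_true_eq] at this
  obtain ⟨h1, h2⟩ := this k hk
  rw [m8, alt8, dif_pos h2]; exact perm8_apply h1 x

theorem ev_m8 : ∀ {w : List ℕ}, (∀ s ∈ w, s < 12) → ∀ x, ((ev m8 w : alternatingGroup (Fin 8)) : Equiv.Perm (Fin 8)) x = wdig w x := by
  intro w
  induction w with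
  | nil => intro _ x; simp [ev, wdig]
  | cons s w ih =>
    intro hw x
    rw [ev, Subgroup.coe_mul, Equiv.Perm.mul_apply, ih fun t ht => hw t (List.mem_cons_of_mem _ ht),
      m8_spec (hw s List.mem_cons_self), wdig]

theorem p8_mul {i j : ℕ} (hi : i < 192) (hj : j < 192) : p8 (mA i j) = p8 i * p8 j := by
  have := code_ok.2.2.1
  simp only [List.all_eq_true, List.mem_range, beq_iff_eq] at this
  refine Subtype.ext (Equiv.ext fun x => ?_)
  rw [p8_spec (mA_lt hi hj), Subgroup.coe_mul, Equiv.Perm.mul_apply, p8_spec hj, p8_spec hi]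
  exact this i hi j hj x (List.mem_finRange x)

theorem m8_table {k : ℕ} (hk : k < 8) : m8 k = p8 (gi k) := by
  have := code_ok.2.2.2
  simp only [List.all_eq_true, List.mem_range, beq_iff_eq] at this
  rw [m8, this k hk]; rfl

theorem gen_m8 : Subgroup.closure {m | ∃ s < 12, m8 s = m} = ⊤ := by
  rw [eq_top_iff, ← alternatingGroup.closure_isThreeCycles_eq_top, Subgroup.closure_le]
  intro σ hσ
  have h3 : Equiv.Perm.IsThreeCycle (σ : Equiv.Perm (Fin 8)) := hσ
  obtain ⟨a, ha⟩ := h3.isCycle.nonempty_support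
  have hnd := h3.nodup_iff_mem_support.mpr ha
  simp only [List.nodup_cons, List.mem_cons, List.not_mem_nil, or_false, not_or, List.nodup_nil, and_true,
    not_false_eq_true] at hnd
  have hc := model_ok.2.2
  simp only [List.all_eq_true, List.any_eq_true, Bool.or_eq_true, Bool.and_eq_true, beq_iff_eq,
    decide_eq_true_eq] at hc
  rcases hc a (List.mem_finRange _) ((σ : Equiv.Perm (Fin 8)) a) (List.mem_finRange _)
    ((σ : Equiv.Perm (Fin 8)) ((σ : Equiv.Perm (Fin 8)) a)) (List.mem_finRange _) with ((e | e) | e) | ⟨r, -, hr, he⟩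
  · exact absurd e hnd.1.1
  · exact absurd e hnd.1.2
  · exact absurd e hnd.2
  have hmem : ev m8 r.2.2.2 ∈ Subgroup.closure {m | ∃ s < 12, m8 s = m} := by
    clear he
    generalize r.2.2.2 = v at hr ⊢
    induction v with
    | nil => simp [ev]
    | cons s w ih =>
      rw [ev]
      exact mul_mem (Subgroup.subset_closure ⟨s, hr s List.mem_cons_self, rfl⟩)
        (ih fun t ht => hr t (List.mem_cons_of_mem _ ht))
  have : σ = ev m8 r.2.2.2 := by
    refine Subtype.ext (Equiv.ext fun x => ?_)
    rw [ev_m8 hr, he x (List.mem_finRange x)]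
    nth_rewrite 1 [h3.eq_swap_mul_swap_iff_mem_support.mpr ha]
    rfl
  rw [this]
  exact hmem

variable {G : Type*} [Group G] (h : St G)

/-- The table and the two rotations generate an alternating group of degree eight. -/
theorem exists_alt8 [Finite G] {g1 g3 : G} (n1 : Nm h g1) (n3 : Nm h.swap g3) (hc : g1 * g3 = g3 * g1) :
    ∃ φ : alternatingGroup (Fin 8) →* G, Function.Injective φ ∧ (∀ k < 12, φ (m8 k) = gens h g1 g3 k) ∧
      ∀ i < 192, φ (p8 i) = h.e i := by
  classical
  let HL : Subgroup (G × alternatingGroup (Fin 8)) := Subgroup.ofDiv {x | ∃ i < 192, x = (h.e i, p8 i)}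
    ⟨_, 0, by norm_num, rfl⟩ (by
      rintro _ ⟨i, hi, rfl⟩ _ ⟨j, hj, rfl⟩
      obtain ⟨hij, -⟩ := iA_spec hj
      have hl := mA_lt hi hij
      have e : mA (mA i (iA j)) j = i := h.inj _ (mA_lt hl hj) _ hi (by
        rw [h.mul _ hl _ hj, h.mul i hi _ hij, h.e_inv hj]; group)
      refine ⟨mA i (iA j), hl, Prod.ext ?_ ?_⟩
      · show h.e i * (h.e j)⁻¹ = _
        rw [h.mul i hi _ hij, h.e_inv hj]
      · show p8 i * (p8 j)⁻¹ = _
        nth_rewrite 1 [← e]
        rw [p8_mul hl hj, mul_inv_cancel_right])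
  have hHL : Nat.card HL ≤ 192 := by
    refine le_trans (Nat.card_le_card_of_surjective
      (fun i : Fin 192 => (⟨(h.e i, p8 i), i, i.2, rfl⟩ : HL)) ?_) (by simp)
    rintro ⟨x, i, hi, rfl⟩
    exact ⟨⟨i, hi⟩, rfl⟩
  have hrel8 : ∀ w ∈ eT.rels, ev m8 w = 1 := fun w hw => by
    have := model_ok.1
    simp only [List.all_eq_true, Bool.and_eq_true, decide_eq_true_eq, beq_iff_eq] at this
    refine Subtype.ext (Equiv.ext fun x => ?_)
    obtain ⟨h1, h2⟩ := this x (List.mem_finRange x) w hw
    rw [ev_m8 h1, h2]; rfl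
  have hinv8 : ∀ s < 12, m8 s * m8 (giv s) = 1 := fun s hs => by
    have := model_ok.2.1
    simp only [List.all_eq_true, List.mem_range, beq_iff_eq] at this
    have hg : giv s < 12 := by interval_cases s <;> decide
    refine Subtype.ext (Equiv.ext fun x => ?_)
    have h1 := ev_m8 (w := [s, giv s]) (by simp [hs, hg]) x
    rw [this s hs x (List.mem_finRange x)] at h1
    simpa [ev] using h1
  obtain ⟨φ, hφ, hφL⟩ := exists_hom eT (eT.checked eT_check) (gens h g1 g3) m8
    (fun s hs => ⟨gens_inv h g1 g3 (eT_data.1 ▸ hs), hinv8 s (eT_data.1 ▸ hs)⟩)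
    (fun w hw => ⟨pair_rels h n1 n3 hc w hw, hrel8 w hw⟩) HL
    (fun w hw => by
      rw [eT_data.2.2, List.mem_map] at hw
      obtain ⟨k, hk, rfl⟩ := hw
      rw [List.mem_range] at hk
      exact ⟨gi k, gi_lt hk, by simp [ev, m8_table hk, gens, hk]⟩)
    (by rw [eT_data.1]; exact gen_m8)
    (by
      rw [eT_data.2.1]
      have h8 : Nat.card (alternatingGroup (Fin 8)) = 20160 := by
        rw [nat_card_alternatingGroup, Nat.card_eq_fintype_card, Fintype.card_fin]; rfl
      omega)
  rw [eT_data.1] at hφ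
  have hL : ∀ i < 192, φ (p8 i) = h.e i := fun i hi => hφL (h.e i, p8 i) ⟨i, hi, rfl⟩
  refine ⟨φ, ?_, hφ, hL⟩
  haveI : IsSimpleGroup (alternatingGroup (Fin 8)) := alternatingGroup.isSimpleGroup (by simp)
  refine (MonoidHom.ker_eq_bot_iff φ).1 ((φ.normal_ker.eq_bot_or_eq_top).resolve_right fun e => ?_)
  have h1 : φ (p8 zI) = 1 := MonoidHom.mem_ker.1 (e ▸ Subgroup.mem_top _)
  rw [hL zI zI_lt] at h1
  exact h.z_ne h1

end Cfsg.Agent.Invol.Cen192.AP
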