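import Cfsg.Agent.Lib.Invol.Cen192.AP.Facts
import Cfsg.Agent.Lib.Invol.Sylow
import Cfsg.Agent.Lib.Invol.Basic

/-! A group with the centraliser of the table: first properties. -/

set_option autoImplicit false
set_option linter.unusedSectionVars false
set_option linter.style.haveILetI false

namespace Cfsg.Agent.Invol.Cen192.AP

open Cfsg.Agent.Invol

/-- The hypothesis: the centraliser of `e zI` is given by the table. -/
structure St (G : Type*) [Group G] where
  e : ℕ → G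
  inj : ∀ i < 192, ∀ j < 192, e i = e j → i = j
  mul : ∀ i < 192, ∀ j < 192, e (mA i j) = e i * e j
  cen : ∀ x : G, x * e zI = e zI * x ↔ ∃ i < 192, e i = x

variable {G : Type*} [Group G] (h : St G)

theorem mA_eq {i j : ℕ} (hi : i < 192) (hj : j < 192) : mA i j = fmul true 0 i j := by
  have := mul_ok
  simp only [List.all_eq_true, List.mem_range, beq_iff_eq] at this
  exact this i hi j hj

theorem mA_lt {i j : ℕ} (hi : i < 192) (hj : j < 192) : mA i j < 192 := by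
  rw [mA_eq hi hj]; exact fmul_lt

theorem iA_spec {i : ℕ} (hi : i < 192) : iA i < 192 ∧ mA i (iA i) = 0 := by
  have := inv_ok
  simp only [List.all_eq_true, List.mem_range, Bool.and_eq_true, decide_eq_true_eq, beq_iff_eq] at this
  exact this i hi

theorem cl_spec {i : ℕ} (hi : i < 192) : cl i < 8 ∧
    ((1 ≤ cl i ∧ cl i ≤ 6) ↔ (i ≠ 0 ∧ mA i i = 0)) ∧ (cl i = 1 ↔ i = zI) := by
  have := cls_ok
  simp only [List.all_eq_true, List.mem_range, Bool.and_eq_true, decide_eq_true_eq, beq_iff_eq] at this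
  obtain ⟨⟨h1, h2⟩, h3⟩ := this i hi
  have h2' := Bool.eq_iff_iff.mp h2
  have h3' := Bool.eq_iff_iff.mp h3
  simp only [Bool.and_eq_true, decide_eq_true_eq, beq_iff_eq, Bool.not_eq_true', beq_eq_false_iff_ne] at h2'
  simp only [beq_iff_eq] at h3'
  exact ⟨h1, h2', h3'⟩

theorem cj_lt {k i : ℕ} (hk : k < 192) (hi : i < 192) : cj k i < 192 :=
  mA_lt (mA_lt hk hi) (iA_spec hk).1

theorem zI_lt : zI < 192 := by decide

theorem SI_lt {i : ℕ} (hi : i ∈ SI) : i < 192 := List.mem_range.1 (List.mem_filter.1 hi).1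

namespace St

theorem e_zero : h.e 0 = 1 := by
  have h0 := h.mul 0 (by norm_num) 0 (by norm_num)
  rw [show mA 0 0 = 0 by decide +kernel] at h0
  simpa using h0

theorem e_inv {i : ℕ} (hi : i < 192) : h.e (iA i) = (h.e i)⁻¹ := by
  have h0 := h.mul i hi (iA i) (iA_spec hi).1
  rw [(iA_spec hi).2, h.e_zero] at h0
  exact eq_inv_of_mul_eq_one_right h0.symm

theorem e_eq_one {i : ℕ} (hi : i < 192) : h.e i = 1 ↔ i = 0 :=
  ⟨fun e => h.inj i hi 0 (by norm_num) (e.trans h.e_zero.symm), fun e => e ▸ h.e_zero⟩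

theorem e_eq_iff {i j : ℕ} (hi : i < 192) (hj : j < 192) : h.e i = h.e j ↔ i = j :=
  ⟨h.inj i hi j hj, fun e => e ▸ rfl⟩

theorem com_iff {i j : ℕ} (hi : i < 192) (hj : j < 192) :
    h.e i * h.e j = h.e j * h.e i ↔ com i j = true := by
  rw [← h.mul i hi j hj, ← h.mul j hj i hi, h.e_eq_iff (mA_lt hi hj) (mA_lt hj hi), com, beq_iff_eq]

theorem conj_e {k i : ℕ} (hk : k < 192) (hi : i < 192) : h.e k * h.e i * (h.e k)⁻¹ = h.e (cj k i) := by
  rw [cj, h.mul _ (mA_lt hk hi) _ (iA_spec hk).1, h.mul k hk i hi, h.e_inv hk]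

theorem mem_cent {x : G} (hx : x * h.e zI = h.e zI * x) : ∃ i < 192, h.e i = x := (h.cen x).1 hx

theorem e_comm_z {i : ℕ} (hi : i < 192) : h.e i * h.e zI = h.e zI * h.e i := (h.cen _).2 ⟨i, hi, rfl⟩

theorem sq_iff {i : ℕ} (hi : i < 192) : orderOf (h.e i) = 2 ↔ (1 ≤ cl i ∧ cl i ≤ 6) := by
  rw [Cfsg.Agent.Invol.orderOf_two_iff, (cl_spec hi).2.1, ← h.mul i hi i hi, h.e_eq_one (mA_lt hi hi), ne_eq, h.e_eq_one hi,
    and_comm]

theorem ord_z : orderOf (h.e zI) = 2 := by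
  refine (h.sq_iff zI_lt).2 ?_
  rw [(cl_spec zI_lt).2.2.2 rfl]; decide

theorem z_sq : h.e zI * h.e zI = 1 := (Cfsg.Agent.Invol.orderOf_two_iff.1 h.ord_z).1

theorem z_ne : h.e zI ≠ 1 := (Cfsg.Agent.Invol.orderOf_two_iff.1 h.ord_z).2

/-- Every involution of the table is conjugate in the table to a representative. -/
theorem isConj_rp {i : ℕ} (hi : i < 192) (h1 : 1 ≤ cl i) (h6 : cl i ≤ 6) : IsConj (h.e i) (h.e (rp (cl i))) := by
  have := rep_ok
  simp only [List.all_eq_true, List.any_eq_true, List.mem_range, Bool.or_eq_true, Bool.not_eq_true',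
    Bool.and_eq_false_iff, decide_eq_false_iff_not, beq_iff_eq] at this
  rcases this i hi with e | ⟨k, hk, e⟩
  · rcases e with e | e <;> omega
  · exact isConj_iff.2 ⟨h.e k, by rw [h.conj_e hk hi, e]⟩

theorem mem_cent_iff {x : G} : x ∈ Subgroup.centralizer ({h.e zI} : Set G) ↔ ∃ i < 192, h.e i = x := by
  rw [Subgroup.mem_centralizer_singleton_iff, h.cen x]

end St

/-- The Sylow 2-subgroup of the table. -/
def S0 : Subgroup G where
  carrier := {x | ∃ i ∈ SI, h.e i = x}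
  one_mem' := ⟨0, by decide +kernel, h.e_zero⟩
  mul_mem' := by
    rintro _ _ ⟨i, hi, rfl⟩ ⟨j, hj, rfl⟩
    have hs := sylow_ok.1
    simp only [List.all_eq_true, List.contains_eq_mem, decide_eq_true_eq] at hs
    have h0 : (0 : ℕ) ∈ SI := by decide +kernel
    have hj' := hs 0 h0 j hj
    refine ⟨_, hs i hi _ hj', ?_⟩
    have hl := SI_lt hj'
    rw [h.mul i (SI_lt hi) _ (iA_spec hl).1, h.e_inv hl, h.mul 0 (by norm_num) _ (iA_spec (SI_lt hj)).1,
      h.e_zero, one_mul, h.e_inv (SI_lt hj), inv_inv]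
  inv_mem' := by
    rintro _ ⟨i, hi, rfl⟩
    have hs := sylow_ok.1
    simp only [List.all_eq_true, List.contains_eq_mem, decide_eq_true_eq] at hs
    have h0 : (0 : ℕ) ∈ SI := by decide +kernel
    exact ⟨_, hs 0 h0 i hi, by rw [h.mul 0 (by norm_num) _ (iA_spec (SI_lt hi)).1, h.e_zero, one_mul,
      h.e_inv (SI_lt hi)]⟩

namespace St

/-- A set given by a list of indices has the length of the list. -/
theorem card_image {l : List ℕ} (hl : ∀ i ∈ l, i < 192) (hn : l.Nodup) {A : Set G}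
    (hA : ∀ x, x ∈ A ↔ ∃ i ∈ l, h.e i = x) : Nat.card A = l.length := by
  classical
  have he : A = (((l.toFinset).image h.e : Finset G) : Set G) := by
    ext x; simp [hA]
  rw [he, Nat.card_coe_set_eq, Set.ncard_coe_finset, Finset.card_image_of_injOn, List.toFinset_card_of_nodup hn]
  intro i hi j hj e
  simp only [List.coe_toFinset, Set.mem_ofPred] at hi hj
  exact h.inj i (hl i hi) j (hl j hj) e

theorem card_S0 : Nat.card (S0 h) = 64 := by
  rw [← SetLike.coe_sort_coe, h.card_image (l := SI) (fun i hi => SI_lt hi) (List.nodup_range.filter _)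
    (A := ((S0 h : Subgroup G) : Set G)) fun x => Iff.rfl]
  exact sylow_ok.2.1

theorem card_C : Nat.card (Subgroup.centralizer ({h.e zI} : Set G)) = 192 := by
  rw [← SetLike.coe_sort_coe, h.card_image (l := List.range 192) (fun i hi => List.mem_range.1 hi)
    List.nodup_range, List.length_range]
  intro x
  rw [SetLike.mem_coe, Subgroup.mem_centralizer_singleton_iff, h.cen x]
  simp [List.mem_range]

theorem isPGroup_S0 : IsPGroup 2 (S0 h) := IsPGroup.of_card (n := 6) (by rw [h.card_S0]; norm_num)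

variable [Finite G]

theorem S0_sylow : ∃ P : Sylow 2 G, (P : Subgroup G) = S0 h := by
  haveI : Fact (Nat.Prime 2) := ⟨Nat.prime_two⟩
  obtain ⟨P, hP⟩ := h.isPGroup_S0.exists_le_sylow
  refine ⟨P, le_antisymm ?_ hP⟩
  by_contra hne
  have hlt : (S0 h).subgroupOf (P : Subgroup G) < ⊤ := lt_top_iff_ne_top.2 fun e =>
    hne (Subgroup.subgroupOf_eq_top.1 e)
  haveI : Group.IsNilpotent (P : Subgroup G) := P.2.isNilpotent
  obtain ⟨x, hxN, hxS⟩ := SetLike.exists_of_lt (Group.normalizerCondition_of_isNilpotent _ hlt)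
  rw [Subgroup.mem_subgroupOf] at hxS
  have hnorm : ∀ s ∈ S0 h, (x : G) * s * (x : G)⁻¹ ∈ S0 h := fun s hs => by
    have := (Subgroup.mem_normalizer_iff.1 hxN ⟨s, hP hs⟩).1 (by rwa [Subgroup.mem_subgroupOf])
    rwa [Subgroup.mem_subgroupOf] at this
  have hnorm' : ∀ s ∈ S0 h, (x : G)⁻¹ * s * x ∈ S0 h := fun s hs => by
    have h1 := (Subgroup.mem_normalizer_iff.1 hxN (x⁻¹ * ⟨s, hP hs⟩ * x)).2 (by
      rw [show x * (x⁻¹ * (⟨s, hP hs⟩ : (P : Subgroup G)) * x) * x⁻¹ = ⟨s, hP hs⟩ by group,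
        Subgroup.mem_subgroupOf]
      exact hs)
    simpa [Subgroup.mem_subgroupOf] using h1
  have hzS : zI ∈ SI := by
    have := sylow_ok.2.2.1
    simpa [List.contains_eq_mem] using this
  obtain ⟨i, hi, hie⟩ := hnorm _ ⟨zI, hzS, rfl⟩
  have hic : ∀ j ∈ SI, com i j = true := fun j hj => by
    rw [← h.com_iff (SI_lt hi) (SI_lt hj), hie]
    obtain ⟨k, hk, hke⟩ := hnorm' _ ⟨j, hj, rfl⟩
    have h1 := h.e_comm_z (SI_lt hk)
    rw [hke] at h1
    calc (x : G) * h.e zI * (x : G)⁻¹ * h.e j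
        = (x : G) * (h.e zI * ((x : G)⁻¹ * h.e j * x)) * (x : G)⁻¹ := by group
      _ = h.e j * ((x : G) * h.e zI * (x : G)⁻¹) := by rw [← h1]; group
  have hcen := sylow_ok.2.2.2.1
  simp only [List.all_eq_true, Bool.or_eq_true, Bool.not_eq_true', beq_iff_eq] at hcen
  rcases hcen i hi with (e | e) | e
  · exact absurd (List.all_eq_true.2 hic) (by simp [e])
  · rw [e, h.e_zero] at hie
    exact h.z_ne (mul_eq_left.1 (mul_inv_eq_one.1 hie.symm))
  · rw [e] at hie
    have hxC : (x : G) ∈ Subgroup.centralizer ({h.e zI} : Set G) :=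
      Subgroup.mem_centralizer_singleton_iff.2 (mul_inv_eq_iff_eq_mul.1 hie.symm)
    set T := (P : Subgroup G) ⊓ Subgroup.centralizer ({h.e zI} : Set G) with hT
    have hST : S0 h ≤ T := le_inf hP fun s ⟨j, hj, hje⟩ =>
      Subgroup.mem_centralizer_singleton_iff.2 (hje ▸ h.e_comm_z (SI_lt hj))
    obtain ⟨n, hn⟩ := IsPGroup.iff_card.1 (P.2.to_le (inf_le_left (b := Subgroup.centralizer ({h.e zI} : Set G))))
    have hdvd : 2 ^ n ∣ 192 := by
      have := Subgroup.card_dvd_of_le (inf_le_right : T ≤ _)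
      rwa [hn, h.card_C] at this
    have hn6 : n ≤ 6 := by
      by_contra hlt'
      have : 2 ^ 7 ∣ 192 := (pow_dvd_pow 2 (by omega : 7 ≤ n)).trans hdvd
      norm_num at this
    refine hxS ((Subgroup.eq_of_le_of_card_ge hST ?_).symm ▸ (⟨x.2, hxC⟩ : (x : G) ∈ T))
    rw [h.card_S0, hn]
    calc 2 ^ n ≤ 2 ^ 6 := Nat.pow_le_pow_right (by norm_num) hn6
      _ = 64 := by norm_num

/-- Involutions of a subgroup containing the Sylow subgroup are fused into it. -/
theorem invol_conj_in {H : Subgroup G} (hH : S0 h ≤ H) {u : G} (hu : orderOf u = 2) (huH : u ∈ H) :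
    ∃ i ∈ SI, (1 ≤ cl i ∧ cl i ≤ 6) ∧ ∃ g ∈ H, g * u * g⁻¹ = h.e i := by
  haveI : Fact (Nat.Prime 2) := ⟨Nat.prime_two⟩
  obtain ⟨P, hP⟩ := h.S0_sylow
  let P' : Sylow 2 H := P.subtype (hP ▸ hH)
  have hu' : orderOf (⟨u, huH⟩ : H) = 2 ^ 1 := by
    rw [← Subgroup.orderOf_coe]; simpa using hu
  obtain ⟨Q, hQ⟩ := (IsPGroup.of_card (n := 1) (by rw [Nat.card_zpowers, hu']) :
    IsPGroup 2 (Subgroup.zpowers (⟨u, huH⟩ : H))).exists_le_sylow
  obtain ⟨c, hc⟩ := MulAction.exists_smul_eq H Q P'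
  have hm : c * ⟨u, huH⟩ * c⁻¹ ∈ (P' : Subgroup H) := by
    rw [← hc, Sylow.coe_subgroup_smul]
    exact ⟨_, hQ (Subgroup.mem_zpowers _), rfl⟩
  rw [Sylow.coe_subtype, Subgroup.mem_subgroupOf, hP] at hm
  obtain ⟨i, hi, hie⟩ := hm
  have hie' : h.e i = (c : G) * u * (c : G)⁻¹ := by simpa using hie
  refine ⟨i, hi, (h.sq_iff (SI_lt hi)).1 ?_, c, c.2, hie'.symm⟩
  rw [hie', orderOf_conj_eq, hu]

theorem invol_conj {u : G} (hu : orderOf u = 2) :
    ∃ i < 192, (1 ≤ cl i ∧ cl i ≤ 6) ∧ IsConj u (h.e i) := by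
  obtain ⟨i, hi, hc, g, -, hg⟩ := h.invol_conj_in (H := ⊤) le_top hu (Subgroup.mem_top u)
  exact ⟨i, SI_lt hi, hc, isConj_iff.2 ⟨g, hg⟩⟩

theorem card_cent {i : ℕ} (hi : i < 192) :
    Nat.card {x : G // x * h.e zI = h.e zI * x ∧ x * h.e i = h.e i * x} = (List.range 192).countP (com i) := by
  rw [List.countP_eq_length_filter]
  refine h.card_image (l := (List.range 192).filter (com i)) (fun j hj => List.mem_range.1 (List.mem_filter.1 hj).1)
    (List.nodup_range.filter _) (A := {x | x * h.e zI = h.e zI * x ∧ x * h.e i = h.e i * x}) fun x => ?_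
  simp only [Set.mem_ofPred, List.mem_filter, List.mem_range]
  constructor
  · rintro ⟨h1, h2⟩
    obtain ⟨j, hj, rfl⟩ := h.mem_cent h1
    exact ⟨j, ⟨hj, (h.com_iff hi hj).1 h2.symm⟩, rfl⟩
  · rintro ⟨j, ⟨hj, hc⟩, rfl⟩
    exact ⟨h.e_comm_z hj, ((h.com_iff hi hj).2 hc).symm⟩

/-- The setting composed with an automorphism. -/
def comp (f : ℕ → ℕ) (hf : autTest f = true) : St G where
  e i := h.e (f i)
  inj i hi j hj e := by
    simp only [autTest, Bool.and_eq_true, beq_iff_eq, List.all_eq_true, List.mem_range, decide_eq_true_eq,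
      List.any_eq_true] at hf
    obtain ⟨-, hf⟩ := hf
    have hsur : ∀ k < 192, ∃ j < 192, f j = k := fun k hk => (hf k hk).2
    choose g hg hge using hsur
    let F : Fin 192 → Fin 192 := fun j => ⟨f j, (hf j j.2).1.1⟩
    have hF : Function.Surjective F := fun k => ⟨⟨g k k.2, hg k k.2⟩, Fin.ext (hge k k.2)⟩
    exact congrArg Fin.val ((Finite.injective_iff_surjective.2 hF)
      (Fin.ext (h.inj _ (hf i hi).1.1 _ (hf j hj).1.1 e) : F ⟨i, hi⟩ = F ⟨j, hj⟩))
  mul i hi j hj := by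
    simp only [autTest, Bool.and_eq_true, beq_iff_eq, List.all_eq_true, List.mem_range, decide_eq_true_eq,
      List.any_eq_true] at hf
    rw [(hf.2 i hi).1.2 j hj, h.mul _ (hf.2 i hi).1.1 _ (hf.2 j hj).1.1]
  cen x := by
    simp only [autTest, Bool.and_eq_true, beq_iff_eq, List.all_eq_true, List.mem_range, decide_eq_true_eq,
      List.any_eq_true] at hf
    rw [hf.1, h.cen]
    constructor
    · rintro ⟨i, hi, rfl⟩
      obtain ⟨j, hj, e⟩ := (hf.2 i hi).2
      exact ⟨j, hj, by rw [e]⟩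
    · rintro ⟨i, hi, rfl⟩
      exact ⟨f i, (hf.2 i hi).1.1, rfl⟩

end St

end Cfsg.Agent.Invol.Cen192.AP
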