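import Cfsg.Agent.Lib.Invol.Cen192.AP.CaseI

/-! Not all classes of the table are fused with `z`. -/

set_option autoImplicit false
set_option linter.unusedSectionVars false
set_option linter.style.haveILetI false
set_option maxRecDepth 100000

namespace Cfsg.Agent.Invol.Cen192.AP

/-- the normaliser of the elementary sixteen in the table -/
def NAI : List ℕ := (List.range 192).filter fun l => AI.all fun i => AI.contains (cj l i)

/-- an involution of the table -/
def inv2 (i : ℕ) : Bool := !(i == 0) && mA i i == 0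

theorem sixteen_ok : AI.length = 16 ∧ AI.Nodup ∧ (∀ i ∈ AI, i < 192) ∧ 0 ∈ AI ∧ zI ∈ AI ∧
    (AI.all fun i => (AI.all fun j => AI.contains (mA i (iA j)) && com i j) && mA i i == 0) = true ∧
    ((List.range 192).all fun i => !(AI.all (com i)) || AI.contains i) = true ∧
    ((List.range 192).all fun i => !(i % 6 == 0 && inv2 i && !(i == zI)) ||
      decide ((List.range 192).countP (fun j => j % 6 == 0 && inv2 j && com i j) < 15)) = true ∧
    ((List.range 192).all fun i => !(!(i % 6 == 0) && inv2 i) || (List.range 192).any fun l =>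
      (List.range 192).all fun x => !(com i x) || AI.contains (cj l x)) = true ∧
    NAI.length = 64 ∧
    (NAI.all fun l => AI.contains l || !((AI.erase 0).countP (fun i => cj l i == i) % 5 == 0)) = true ∧
    (NAI.all fun l => AI.contains (mA l l)) = true := by
  decide +kernel

variable {G : Type*} [Group G] (h : St G)

/-- Not all classes are fused with `z`. -/
theorem all_false [Finite G] (hall : ∀ k, 2 ≤ k → k ≤ 6 → h.Zc k) : False := by
  classical
  obtain ⟨e16, en, el, e0, ez, ec, ecen, ecnt, eout, eN, efix, eNsq⟩ := sixteen_ok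
  simp only [List.all_eq_true, List.any_eq_true, List.mem_range, Bool.and_eq_true, List.contains_eq_mem,
    decide_eq_true_eq, beq_iff_eq, Bool.or_eq_true, Bool.not_eq_true', Bool.and_eq_false_iff,
    beq_eq_false_iff_ne] at ec ecen ecnt eout efix eNsq
  have hNl : ∀ {l : ℕ}, l ∈ NAI → l < 192 := fun hl => List.mem_range.1 (List.mem_filter.1 hl).1
  set E : Subgroup G := listSub h AI el e0 (fun i hi j hj => ((ec i hi).1 j hj).1) with hE
  have hmem : ∀ {i : ℕ}, i ∈ AI → h.e i ∈ E := fun {i} hi => ⟨i, hi, rfl⟩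
  set H := Subgroup.normalizer (E : Set G) with hH
  have hnorm : ∀ {a : G}, (∀ i ∈ AI, a * h.e i * a⁻¹ ∈ E) → a ∈ H := by
    intro a ha'
    have hle : E.map (MulAut.conj a).toMonoidHom ≤ E := by
      rintro _ ⟨y, ⟨i, hi, rfl⟩, rfl⟩; exact ha' i hi
    have heq := Subgroup.eq_of_le_of_card_ge hle
      (le_of_eq (Nat.card_congr (E.equivMapOfInjective _ (MulAut.conj a).injective).toEquiv))
    refine Subgroup.mem_normalizer_iff.2 fun y => ⟨fun hy => hle ⟨y, hy, rfl⟩, fun hy => ?_⟩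
    have hy' : a * y * a⁻¹ ∈ E.map (MulAut.conj a).toMonoidHom := by rw [heq]; exact hy
    obtain ⟨y', hy', e⟩ := hy'
    have e' : a * y' * a⁻¹ = a * y * a⁻¹ := e
    rwa [← mul_left_cancel (mul_right_cancel e')]
  have hsq : ∀ {i : ℕ}, i ∈ AI → h.e i * h.e i = 1 := fun hi => by
    rw [← h.mul _ (el _ hi) _ (el _ hi), (ec _ hi).2, h.e_zero]
  have hcomA : ∀ {i j : ℕ}, i ∈ AI → j ∈ AI → h.e i * h.e j = h.e j * h.e i := fun hi hj =>
    (h.com_iff (el _ hi) (el _ hj)).2 ((ec _ hi).1 _ hj).2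
  -- the normaliser is transitive
  have hnz : ∀ y : {i // i ∈ AI.erase 0}, y.1 ∈ AI ∧ y.1 ≠ 0 := fun y =>
    ⟨List.mem_of_mem_erase y.2, fun e => List.Nodup.not_mem_erase en (e ▸ y.2)⟩
  have horb : ∀ y : {i // i ∈ AI.erase 0}, ∃ t ∈ H, t * h.e zI * t⁻¹ = h.e y.1 := by
    intro y
    obtain ⟨hyA, hy0⟩ := hnz y
    have hyl := el _ hyA
    obtain ⟨h1, h6⟩ := (cl_spec hyl).2.1.2 ⟨hy0, (ec _ hyA).2⟩
    obtain ⟨k, hk⟩ : ∃ k : G, k * h.e zI * k⁻¹ = h.e y.1 := by
      rcases h1.eq_or_lt with e | e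
      · exact ⟨1, by rw [congrArg h.e ((cl_spec hyl).2.2.1 e.symm)]; group⟩
      · exact isConj_iff.1 ((h.zc_of hyl h1 h6).2 (hall _ e h6))
    have hpre : ∀ i : {i // i ∈ AI}, ∃ j < 192, h.e j = k⁻¹ * h.e i.1 * k := fun i => h.mem_cent (by
      calc k⁻¹ * h.e i.1 * k * h.e zI = k⁻¹ * (h.e i.1 * (k * h.e zI * k⁻¹)) * k := by group
        _ = k⁻¹ * (k * h.e zI * k⁻¹ * h.e i.1) * k := by rw [hk, hcomA i.2 hyA]
        _ = h.e zI * (k⁻¹ * h.e i.1 * k) := by group)
    choose φ hφl hφ using hpre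
    have hinj : ∀ i j, φ i = φ j → i = j := fun i j e => by
      have e' := congrArg h.e e
      rw [hφ, hφ, mul_left_inj, mul_right_inj] at e'
      exact Subtype.ext (h.inj _ (el _ i.2) _ (el _ j.2) e')
    have hinv : ∀ i : {i // i ∈ AI}, i.1 ≠ 0 → inv2 (φ i) = true := fun i hi => by
      simp only [inv2, Bool.and_eq_true, Bool.not_eq_true', beq_eq_false_iff_ne, beq_iff_eq]
      refine ⟨fun e => hi ?_, h.inj _ (mA_lt (hφl i) (hφl i)) _ (by norm_num) ?_⟩
      · have e' := hφ i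
        rw [e, h.e_zero, eq_comm, show k⁻¹ * h.e i.1 * k = k⁻¹ * h.e i.1 * k⁻¹⁻¹ by group,
          conj_eq_one_iff] at e'
        exact (h.e_eq_one (el _ i.2)).1 e'
      · rw [h.mul _ (hφl i) _ (hφl i), hφ, h.e_zero]
        calc k⁻¹ * h.e i.1 * k * (k⁻¹ * h.e i.1 * k) = k⁻¹ * (h.e i.1 * h.e i.1) * k := by group
          _ = 1 := by rw [hsq i.2]; group
    have hφcom : ∀ i j, com (φ i) (φ j) = true := fun i j => (h.com_iff (hφl i) (hφl j)).1 (by
      rw [hφ, hφ]
      calc k⁻¹ * h.e i.1 * k * (k⁻¹ * h.e j.1 * k) = k⁻¹ * (h.e i.1 * h.e j.1) * k := by group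
        _ = _ := by rw [hcomA i.2 j.2]; group)
    obtain ⟨a, ha0, ha6⟩ : ∃ a : {i // i ∈ AI}, a.1 ≠ 0 ∧ φ a % 6 ≠ 0 := by
      by_contra hcon
      push Not at hcon
      have hφy : φ ⟨y.1, hyA⟩ = zI := h.inj _ (hφl _) _ zI_lt (by rw [hφ, ← hk]; group)
      obtain ⟨a, ha0, hay⟩ : ∃ a : {i // i ∈ AI}, a.1 ≠ 0 ∧ a ≠ ⟨y.1, hyA⟩ := by
        have h3 : (3 : ℕ) ∈ AI ∧ (36 : ℕ) ∈ AI := by decide +kernel
        by_cases e : y.1 = 3
        · exact ⟨⟨36, h3.2⟩, by simp, fun e' => by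
            have := congrArg Subtype.val e'; simp only at this; omega⟩
        · exact ⟨⟨3, h3.1⟩, by simp, fun e' => e (congrArg Subtype.val e').symm⟩
      have hne : φ a ≠ zI := fun e => hay (hinj _ _ (e.trans hφy.symm))
      have hlt := (ecnt _ (hφl a)).resolve_left (by
        simp [hcon a ha0, hinv a ha0, hne])
      rw [List.countP_eq_length_filter] at hlt
      have hsub : (Finset.univ.filter fun i : {i // i ∈ AI} => i.1 ≠ 0).image φ ⊆
          ((List.range 192).filter fun j => j % 6 == 0 && inv2 j && com (φ a) j).toFinset := by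
        intro x hx
        obtain ⟨i, hi, rfl⟩ := Finset.mem_image.1 hx
        have hi0 := (Finset.mem_filter.1 hi).2
        simp [hφl i, hcon i hi0, hinv i hi0, hφcom a i]
      have hc := (Finset.card_le_card hsub).trans (List.toFinset_card_le _)
      rw [Finset.card_image_of_injective _ (fun i j e => hinj i j e)] at hc
      have h15 : (Finset.univ.filter fun i : {i // i ∈ AI} => i.1 ≠ 0).card = 15 := by decide +kernel
      omega
    obtain ⟨l, hl, hlA⟩ := (eout _ (hφl a)).resolve_left (by simp [ha6, hinv a ha0])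
    have hlz : h.e l * h.e zI = h.e zI * h.e l := h.e_comm_z hl
    refine ⟨k * (h.e l)⁻¹, ?_, ?_⟩
    · rw [← inv_mem_iff]
      refine hnorm fun i hi => ⟨_, (hlA _ (hφl ⟨i, hi⟩)).resolve_left (by simp [hφcom a ⟨i, hi⟩]), ?_⟩
      rw [← h.conj_e hl (hφl _), hφ]
      group
    · rw [← hk]
      calc k * (h.e l)⁻¹ * h.e zI * (k * (h.e l)⁻¹)⁻¹ = k * ((h.e l)⁻¹ * (h.e zI * h.e l)) * k⁻¹ := by group
        _ = k * h.e zI * k⁻¹ := by rw [← hlz]; group
  choose t htH ht using horb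
  -- the stabiliser
  set T := Subgroup.centralizer ({h.e zI} : Set G) ⊓ H with hT
  have memT : ∀ {x : G}, x ∈ T ↔ ∃ l ∈ NAI, h.e l = x := fun {x} => by
    rw [hT, Subgroup.mem_inf, h.mem_cent_iff]
    constructor
    · rintro ⟨⟨l, hl, rfl⟩, hx⟩
      refine ⟨l, List.mem_filter.2 ⟨List.mem_range.2 hl, ?_⟩, rfl⟩
      simp only [List.all_eq_true, List.contains_eq_mem, decide_eq_true_eq]
      intro i hi
      obtain ⟨j, hj, e⟩ := (Subgroup.mem_normalizer_iff.1 hx (h.e i)).1 (hmem hi)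
      rwa [← h.inj _ (el j hj) _ (cj_lt hl (el i hi)) (by rw [e, h.conj_e hl (el i hi)])]
    · rintro ⟨l, hl, rfl⟩
      refine ⟨⟨l, hNl hl, rfl⟩, hnorm fun i hi => ?_⟩
      rw [h.conj_e (hNl hl) (el i hi)]
      have := (List.mem_filter.1 hl).2
      simp only [List.all_eq_true, List.contains_eq_mem, decide_eq_true_eq] at this
      exact hmem (this i hi)
  have hT64 : Nat.card T = 64 := by
    rw [← SetLike.coe_sort_coe, h.card_image (l := NAI) (fun l hl => hNl hl) (List.nodup_range.filter _)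
      (A := (T : Set G)) fun x => memT, eN]
  have hH960 : Nat.card H = 15 * 64 := by
    rw [← hT64, show 15 = Nat.card {i // i ∈ AI.erase 0} by
      rw [Nat.card_eq_fintype_card]; decide +kernel, ← Nat.card_prod]
    refine (Nat.card_congr (Equiv.ofBijective (fun p : {i // i ∈ AI.erase 0} × T =>
      (⟨t p.1 * p.2.1, mul_mem (htH _) (Subgroup.mem_inf.1 p.2.2).2⟩ : H)) ⟨?_, ?_⟩)).symm
    · rintro ⟨i, u⟩ ⟨j, v⟩ e
      have e1 : ∀ (i : {i // i ∈ AI.erase 0}) (u : T), t i * u.1 * h.e zI * (t i * u.1)⁻¹ = h.e i.1 := fun i u => by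
        rw [← ht i]
        have := Subgroup.mem_centralizer_singleton_iff.1 (Subgroup.mem_inf.1 u.2).1
        calc t i * u.1 * h.e zI * (t i * u.1)⁻¹ = t i * (u.1 * h.e zI) * u.1⁻¹ * (t i)⁻¹ := by group
          _ = _ := by rw [this]; group
      have e2 := e1 i u
      have e' : t i * u.1 = t j * v.1 := congrArg Subtype.val e
      rw [e', e1 j v] at e2
      have hij : i = j := Subtype.ext (h.inj _ (el _ (hnz j).1) _ (el _ (hnz i).1) e2).symm
      subst hij
      exact Prod.ext rfl (Subtype.ext (mul_left_cancel e'))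
    · rintro ⟨x, hx⟩
      obtain ⟨i, hi, hie⟩ := (Subgroup.mem_normalizer_iff.1 hx (h.e zI)).1 (hmem ez)
      have hi0 : i ∈ AI.erase 0 := by
        refine (List.mem_erase_of_ne ?_).2 hi
        rintro rfl
        rw [h.e_zero, eq_comm, conj_eq_one_iff] at hie
        exact h.z_ne hie
      refine ⟨⟨⟨i, hi0⟩, ⟨(t ⟨i, hi0⟩)⁻¹ * x, Subgroup.mem_inf.2
        ⟨Subgroup.mem_centralizer_singleton_iff.2 ?_, mul_mem (inv_mem (htH _)) hx⟩⟩⟩, Subtype.ext (by simp)⟩
      have h1 := (ht ⟨i, hi0⟩).trans hie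
      calc (t ⟨i, hi0⟩)⁻¹ * x * h.e zI = (t ⟨i, hi0⟩)⁻¹ * (x * h.e zI * x⁻¹) * x := by group
        _ = h.e zI * ((t ⟨i, hi0⟩)⁻¹ * x) := by rw [← h1]; group
  -- the quotient
  have hTH : T ≤ H := inf_le_right
  have hET : E ≤ T := fun x ⟨i, hi, hie⟩ => memT.2 ⟨i, by
    refine List.mem_filter.2 ⟨List.mem_range.2 (el i hi), ?_⟩
    simp only [List.all_eq_true, List.contains_eq_mem, decide_eq_true_eq]
    intro j hj
    have hji : cj i j = j := h.inj _ (cj_lt (el i hi) (el j hj)) _ (el j hj) (by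
      rw [← h.conj_e (el i hi) (el j hj), hcomA hi hj, mul_inv_cancel_right])
    rwa [hji], hie⟩
  have hEH : E ≤ H := hET.trans hTH
  set E' : Subgroup H := E.subgroupOf H with hE'
  haveI hE'n : E'.Normal := Subgroup.normal_subgroupOf_of_le_normalizer le_rfl
  set T' : Subgroup H := T.subgroupOf H with hT'
  have hE'c : Nat.card E' = 16 := by
    rw [hE', Nat.card_congr (Subgroup.subgroupOfEquivOfLe hEH).toEquiv, hE, card_listSub h en, e16]
  have hq : Nat.card (H ⧸ E') = 60 := by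
    have := Subgroup.card_eq_card_quotient_mul_card_subgroup E'
    rw [hH960, hE'c] at this
    omega
  set π := QuotientGroup.mk' E' with hπ
  set Pb : Subgroup (H ⧸ E') := T'.map π with hPb
  have hE'T' : E' ≤ T' := fun x hx => hET hx
  have hPb4 : Nat.card Pb = 4 := by
    have h1 := Subgroup.card_eq_card_quotient_mul_card_subgroup (E'.subgroupOf T')
    have h2 : Nat.card (T' ⧸ E'.subgroupOf T') = Nat.card Pb := by
      refine Nat.card_congr (Equiv.ofBijective (fun q => Quotient.liftOn' q (fun x : T' => (⟨π x.1, x.1, x.2, rfl⟩ : Pb))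
        (fun a b hab => Subtype.ext ?_)) ⟨?_, ?_⟩)
      · have := QuotientGroup.leftRel_apply.1 hab
        exact (QuotientGroup.eq.2 (by simpa [Subgroup.mem_subgroupOf] using this))
      · rintro ⟨a⟩ ⟨b⟩ e
        refine Quotient.sound' (QuotientGroup.leftRel_apply.2 ?_)
        have := QuotientGroup.eq.1 (congrArg Subtype.val e : π a.1 = π b.1)
        simpa [Subgroup.mem_subgroupOf] using this
      · rintro ⟨_, x, hx, rfl⟩
        exact ⟨QuotientGroup.mk ⟨x, hx⟩, rfl⟩
    rw [h2, Nat.card_congr (Subgroup.subgroupOfEquivOfLe hE'T').toEquiv, hE'c, hT',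
      Nat.card_congr (Subgroup.subgroupOfEquivOfLe hTH).toEquiv, hT64] at h1
    omega
  haveI : Fact (Nat.Prime 2) := ⟨Nat.prime_two⟩
  haveI : Fact (Nat.Prime 5) := ⟨by norm_num⟩
  obtain ⟨P, hP⟩ : ∃ P : Sylow 2 (H ⧸ E'), (P : Subgroup (H ⧸ E')) = Pb := by
    have hp : IsPGroup 2 Pb := IsPGroup.of_card (n := 2) (by rw [hPb4]; rfl)
    have hi : Pb.index = 15 := by
      have := Pb.card_mul_index
      rw [hPb4, hq] at this
      omega
    exact ⟨hp.toSylow (by rw [hi]; decide), rfl⟩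
  have hsqP : ∀ x ∈ Pb, x * x = 1 := by
    rintro _ ⟨x, hx, rfl⟩
    obtain ⟨l, hl, hle⟩ := memT.1 hx
    replace hle : h.e l = (x : G) := hle
    rw [← map_mul, hπ, QuotientGroup.mk'_apply, QuotientGroup.eq_one_iff, hE', Subgroup.mem_subgroupOf,
      Subgroup.coe_mul, ← hle, ← h.mul l (hNl hl) l (hNl hl)]
    exact hmem (eNsq l hl)
  have hab : ∀ x ∈ Pb, ∀ y ∈ Pb, x * y = y * x := fun x hx y hy => by
    rw [← inv_eq_of_mul_eq_one_right (hsqP _ (mul_mem hx hy)), mul_inv_rev, inv_eq_of_mul_eq_one_right (hsqP x hx),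
      inv_eq_of_mul_eq_one_right (hsqP y hy)]
  -- the Sylow subgroup fixes only `z`
  have hnormT : Subgroup.normalizer (P : Set (H ⧸ E')) ≤ Pb := by
    intro x hx
    obtain ⟨u, rfl⟩ := QuotientGroup.mk'_surjective E' x
    refine ⟨u, ?_, rfl⟩
    show (u : G) ∈ T
    refine Subgroup.mem_inf.2 ⟨Subgroup.mem_centralizer_singleton_iff.2 ?_, u.2⟩
    have hconj : ∀ v ∈ T', u * v * u⁻¹ ∈ T' := fun v hv => by
      have h1 : π v ∈ (P : Subgroup (H ⧸ E')) := hP ▸ ⟨v, hv, rfl⟩
      have h2 := (Subgroup.mem_normalizer_iff.1 hx _).1 h1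
      have h2' : π u * π v * (π u)⁻¹ ∈ Pb := hP ▸ h2
      obtain ⟨w, hw, e⟩ := h2'
      rw [← map_inv, ← map_mul, ← map_mul] at e
      have := hE'T' (QuotientGroup.eq.1 e)
      simpa using mul_mem hw this
    obtain ⟨i, hi, hie⟩ := (Subgroup.mem_normalizer_iff.1 u.2 (h.e zI)).1 (hmem ez)
    have hieq : h.e i = (u : G) * h.e zI * (u : G)⁻¹ := hie
    have hcomT : ∀ l ∈ NAI, com i l = true := fun l hl => (h.com_iff (el i hi) (hNl hl)).1 (by
      have hlT : h.e l ∈ T := memT.2 ⟨l, hl, rfl⟩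
      let v : H := ⟨h.e l, hTH hlT⟩
      obtain ⟨w, hw, hwe⟩ : ∃ w ∈ T', u * w * u⁻¹ = v := by
        have hmap : T'.map (MulAut.conj u).toMonoidHom = T' := Subgroup.eq_of_le_of_card_ge
          (by rintro _ ⟨w, hw, rfl⟩; exact hconj w hw)
          (le_of_eq (Nat.card_congr (T'.equivMapOfInjective _ (MulAut.conj u).injective).toEquiv))
        have : v ∈ T'.map (MulAut.conj u).toMonoidHom := hmap.symm ▸ hlT
        obtain ⟨w, hw, e⟩ := this
        exact ⟨w, hw, e⟩
      have hwz : (w : G) * h.e zI = h.e zI * (w : G) :=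
        Subgroup.mem_centralizer_singleton_iff.1 (Subgroup.mem_inf.1 hw).1
      have hwe' : (u : G) * w * (u : G)⁻¹ = h.e l := congrArg Subtype.val hwe
      rw [hieq, ← hwe', ← conj_mul', ← conj_mul', hwz])
    have hiz : i = zI := by
      have : (AI.all fun i => !(NAI.all (com i)) || i == 0 || i == zI) = true := by decide +kernel
      simp only [List.all_eq_true, Bool.or_eq_true, Bool.not_eq_true', beq_iff_eq] at this
      rcases this i hi with (e | e) | e
      · exact absurd (List.all_eq_true.2 hcomT) (by simp [e])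
      · rw [e, h.e_zero, eq_comm, conj_eq_one_iff] at hieq; exact absurd hieq h.z_ne
      · exact e
    rw [hiz] at hieq
    exact mul_inv_eq_iff_eq_mul.1 hieq.symm
  have hle : Subgroup.normalizer (P : Set (H ⧸ E')) ≤ Subgroup.centralizer (P : Set (H ⧸ E')) := fun x hx =>
    Subgroup.mem_centralizer_iff.2 fun y hy => by
      have hy' : y ∈ Pb := hP ▸ hy
      exact hab y hy' x (hnormT hx)
  set K := (MonoidHom.transferSylow P hle).ker with hK
  have hK15 : Nat.card K = 15 := by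
    have := (MonoidHom.ker_transferSylow_isComplement' P hle).card_mul
    have h4 : Nat.card (P : Subgroup (H ⧸ E')) = 4 := by rw [hP, hPb4]
    rw [h4, hq, ← hK] at this
    omega
  obtain ⟨c0, hc0⟩ := exists_prime_orderOf_dvd_card' (G := K) 5 (by rw [hK15]; norm_num)
  set C := Subgroup.zpowers c0 with hC
  have hC5 : Nat.card C = 5 := by rw [hC, Nat.card_zpowers, hc0]
  obtain ⟨S, hS⟩ : ∃ S : Sylow 5 K, (S : Subgroup K) = C := by
    have hp : IsPGroup 5 C := IsPGroup.of_card (n := 1) (by rw [hC5]; rfl)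
    have hi : C.index = 3 := by
      have := C.card_mul_index
      rw [hC5, hK15] at this
      omega
    exact ⟨hp.toSylow (by rw [hi]; decide), rfl⟩
  have huniq : ∀ x : K, orderOf x = 5 → x ∈ C := by
    intro x hx
    have hn : Nat.card (Sylow 5 K) = 1 := by
      have h1 := card_sylow_modEq_one 5 K
      have h2 := S.card_dvd_index
      have hi : (S : Subgroup K).index = 3 := by
        rw [hS]
        have := C.card_mul_index
        rw [hC5, hK15] at this
        omega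
      rw [hi] at h2
      rcases (Nat.dvd_prime Nat.prime_three).1 h2 with e | e
      · exact e
      · rw [e] at h1; exact absurd h1 (by decide)
    haveI : Subsingleton (Sylow 5 K) := (Nat.card_eq_one_iff_unique.1 hn).1
    obtain ⟨Q, hQ⟩ := (IsPGroup.of_card (n := 1) (by rw [Nat.card_zpowers, hx, pow_one]) :
      IsPGroup 5 (Subgroup.zpowers x)).exists_le_sylow
    rw [← hS, show S = Q from Subsingleton.elim _ _]
    exact hQ (Subgroup.mem_zpowers x)
  -- some involution of the quotient centralises `c`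
  set c : H ⧸ E' := (c0 : H ⧸ E') with hcdef
  have hc5 : orderOf c = 5 := by rw [hcdef, Subgroup.orderOf_coe, hc0]
  have hact : ∀ v ∈ Pb, v * c * v⁻¹ = c ∨ v * c * v⁻¹ = c⁻¹ := by
    intro v hv
    have hmemK : v * c * v⁻¹ ∈ K := (MonoidHom.normal_ker _).conj_mem _ c0.2 v
    have ho : orderOf (⟨v * c * v⁻¹, hmemK⟩ : K) = 5 := by
      rw [← Subgroup.orderOf_coe]
      show orderOf (v * c * v⁻¹) = 5
      rw [orderOf_conj_eq, hc5]
    have hm := huniq _ ho
    rw [hC, mem_zpowers_iff_mem_range_orderOf, hc0, Finset.mem_image] at hm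
    obtain ⟨m, hm, e⟩ := hm
    have hme : v * c * v⁻¹ = c ^ m := by
      have := congrArg Subtype.val e.symm
      simpa [hcdef] using this
    have h2 : c ^ (m * m) = c := by
      rw [pow_mul, ← hme, conj_pow, ← hme]
      calc v * (v * c * v⁻¹) * v⁻¹ = v * v * c * (v * v)⁻¹ := by group
        _ = c := by rw [hsqP v hv]; group
    have hmod : m * m % 5 = 1 % 5 := by
      have h3 : c ^ (m * m) = c ^ 1 := by rw [h2, pow_one]
      rw [pow_inj_mod, hc5] at h3
      exact h3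
    have hm5 := Finset.mem_range.1 hm
    interval_cases m
    all_goals first
      | (left; rw [hme, pow_one])
      | (right; rw [hme]; exact eq_inv_of_mul_eq_one_left (by rw [← pow_succ, show 4 + 1 = orderOf c from hc5.symm]; exact pow_orderOf_eq_one c))
      | exact absurd hmod (by decide)
  obtain ⟨v, hv, hv1, hvc⟩ : ∃ v ∈ Pb, v ≠ 1 ∧ v * c * v⁻¹ = c := by
    by_contra hcon
    push Not at hcon
    haveI : Finite Pb := inferInstance
    obtain ⟨a, ha, b, hb, ha1, hb1, hne⟩ : ∃ a ∈ Pb, ∃ b ∈ Pb, a ≠ 1 ∧ b ≠ 1 ∧ a ≠ b := by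
      by_contra hsmall
      push Not at hsmall
      letI := Fintype.ofFinite Pb
      have : Fintype.card Pb ≤ 2 := by
        by_cases hb : ∃ a : Pb, a ≠ 1
        · obtain ⟨a, ha⟩ := hb
          refine le_trans (Finset.card_le_card (t := ({1, a} : Finset Pb)) fun x _ => ?_) Finset.card_le_two
          by_cases hx : x = 1
          · simp [hx]
          · have hxa : (a : H ⧸ E') = x := hsmall a a.2 x x.2 (fun e => ha (Subtype.ext e)) (fun e => hx (Subtype.ext e))
            simp [Subtype.ext hxa.symm]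
        · push Not at hb
          exact le_trans (le_of_eq (Fintype.card_eq_one_iff.2 ⟨1, hb⟩)) one_le_two
      rw [← Nat.card_eq_fintype_card, hPb4] at this
      omega
    have ea := (hact a ha).resolve_left (hcon a ha ha1)
    have eb := (hact b hb).resolve_left (hcon b hb hb1)
    refine hcon (a * b) (mul_mem ha hb) (fun e => hne ?_) ?_
    · rw [← inv_eq_of_mul_eq_one_right (hsqP b hb)]; exact eq_inv_of_mul_eq_one_left e
    · calc a * b * c * (a * b)⁻¹ = a * (b * c * b⁻¹) * a⁻¹ := by group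
        _ = (a * c * a⁻¹)⁻¹ := by rw [eb]; group
        _ = c := by rw [ea, inv_inv]
  -- lift
  obtain ⟨vv, hvv, rfl⟩ := hv
  obtain ⟨c1, hc1⟩ := QuotientGroup.mk'_surjective E' c
  set u : H := c1 ^ 16 with hu
  have hu5 : (u : G) ^ 5 = 1 := by
    have h1 : c1 ^ 5 ∈ E' := by
      rw [← QuotientGroup.eq_one_iff, ← QuotientGroup.mk'_apply, map_pow, hc1, ← hc5, pow_orderOf_eq_one]
    have h2 : (c1 ^ 5) ^ 16 = 1 := by
      have := Subgroup.orderOf_dvd_natCard E' h1
      rw [hE'c] at this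
      exact orderOf_dvd_iff_pow_eq_one.1 this
    rw [hu, ← Subgroup.coe_pow, ← pow_mul, show 16 * 5 = 5 * 16 by norm_num, pow_mul, h2, Subgroup.coe_one]
  have huc : π u = c := by
    rw [hu, map_pow, hc1, ← pow_mod_orderOf, hc5, show 16 % 5 = 1 from rfl, pow_one]
  have hu1 : (u : G) ≠ 1 := fun e => by
    have h1 : u = 1 := Subtype.ext e
    rw [h1, map_one] at huc
    rw [← huc, orderOf_one] at hc5
    omega
  obtain ⟨l, hl, hle'⟩ := memT.1 hvv
  replace hle' : h.e l = (vv : G) := hle'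
  have hlA : l ∉ AI := fun e => hv1 (by
    rw [hπ, QuotientGroup.mk'_apply, QuotientGroup.eq_one_iff, hE', Subgroup.mem_subgroupOf, ← hle']
    exact hmem e)
  have hcomm : (u : G)⁻¹ * h.e l * (u : G) * (h.e l)⁻¹ ∈ E := by
    have e2 : π (u⁻¹ * vv * u * vv⁻¹) = 1 := by
      rw [map_mul, map_mul, map_mul, map_inv, map_inv, huc]
      calc c⁻¹ * π vv * c * (π vv)⁻¹ = c⁻¹ * (π vv * c * (π vv)⁻¹) := by group
        _ = 1 := by rw [hvc, inv_mul_cancel]
    rw [hπ, QuotientGroup.mk'_apply, QuotientGroup.eq_one_iff, hE', Subgroup.mem_subgroupOf] at e2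
    simpa [← hle'] using e2
  set FA : Set G := {y | ∃ i ∈ (AI.erase 0).filter (fun i => cj l i == i), h.e i = y} with hFA
  have hcardF : Nat.card FA = (AI.erase 0).countP (fun i => cj l i == i) := by
    rw [List.countP_eq_length_filter]
    exact h.card_image (fun i hi => el i (List.mem_of_mem_erase (List.mem_filter.1 hi).1))
      ((en.erase 0).filter _) fun x => Iff.rfl
  have hmove : ∀ y ∈ FA, (u : G) * y * (u : G)⁻¹ ∈ FA := by
    rintro _ ⟨i, hi, rfl⟩
    obtain ⟨hiA, hfix⟩ := List.mem_filter.1 hi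
    have hiA' := List.mem_of_mem_erase hiA
    have hi0 : i ≠ 0 := fun e => List.Nodup.not_mem_erase en (e ▸ hiA)
    obtain ⟨j, hj, hje⟩ := (Subgroup.mem_normalizer_iff.1 u.2 (h.e i)).1 (hmem hiA')
    refine ⟨j, List.mem_filter.2 ⟨(List.mem_erase_of_ne ?_).2 hj, ?_⟩, hje⟩
    · rintro rfl
      rw [h.e_zero, eq_comm, conj_eq_one_iff] at hje
      exact hi0 ((h.e_eq_one (el i hiA')).1 hje)
    · rw [beq_iff_eq] at hfix ⊢
      refine h.inj _ (cj_lt (hNl hl) (el j hj)) _ (el j hj) ?_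
      obtain ⟨m, hm, hme⟩ := hcomm
      have hfx : h.e l * h.e i * (h.e l)⁻¹ = h.e i := by rw [h.conj_e (hNl hl) (el i hiA'), hfix]
      rw [← h.conj_e (hNl hl) (el j hj), hje]
      calc h.e l * ((u : G) * h.e i * (u : G)⁻¹) * (h.e l)⁻¹
          = (u : G) * (((u : G)⁻¹ * h.e l * (u : G) * (h.e l)⁻¹) * (h.e l * h.e i * (h.e l)⁻¹) *
              ((u : G)⁻¹ * h.e l * (u : G) * (h.e l)⁻¹)⁻¹) * (u : G)⁻¹ := by group
        _ = (u : G) * h.e i * (u : G)⁻¹ := by
          rw [hfx, ← hme, hcomA hm hiA', mul_inv_cancel_right]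
  let U := Subgroup.zpowers (u : G)
  have hU5 : Nat.card U = 5 := by
    rw [Nat.card_zpowers, orderOf_eq_prime hu5 hu1]
  have hUmove : ∀ w ∈ U, ∀ y ∈ FA, w * y * w⁻¹ ∈ FA := by
    intro w hw y hy
    rw [mem_zpowers_iff_mem_range_orderOf, orderOf_eq_prime hu5 hu1, Finset.mem_image] at hw
    obtain ⟨n, -, rfl⟩ := hw
    induction n with
    | zero => simpa using hy
    | succ n ih =>
      rw [pow_succ', show (u : G) * (u : G) ^ n * y * ((u : G) * (u : G) ^ n)⁻¹ =
        (u : G) * ((u : G) ^ n * y * ((u : G) ^ n)⁻¹) * (u : G)⁻¹ by group]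
      exact hmove _ ih
  letI : MulAction U FA :=
    { smul := fun w y => ⟨(w : G) * y * (w : G)⁻¹, hUmove w w.2 y y.2⟩
      one_smul := fun y => Subtype.ext (by show (1 : G) * y * (1 : G)⁻¹ = y; group)
      mul_smul := fun a b y => Subtype.ext (by
        show (a : G) * b * y * ((a : G) * b)⁻¹ = a * (b * y * (b : G)⁻¹) * (a : G)⁻¹; group) }
  have hempty : Nat.card (MulAction.fixedPoints U FA) = 0 := by
    rw [Nat.card_eq_zero]
    left
    constructor
    rintro ⟨⟨y, i, hi, rfl⟩, hfix⟩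
    obtain ⟨hiA, -⟩ := List.mem_filter.1 hi
    have hfx : (u : G) * h.e i * (u : G)⁻¹ = h.e i :=
      congrArg Subtype.val (hfix ⟨(u : G), Subgroup.mem_zpowers _⟩)
    have htu : (t ⟨i, hiA⟩)⁻¹ * (u : G) * t ⟨i, hiA⟩ ∈ T := by
      refine Subgroup.mem_inf.2 ⟨Subgroup.mem_centralizer_singleton_iff.2 ?_,
        mul_mem (mul_mem (inv_mem (htH _)) u.2) (htH _)⟩
      refine mul_inv_eq_iff_eq_mul.1 ?_
      calc (t ⟨i, hiA⟩)⁻¹ * (u : G) * t ⟨i, hiA⟩ * h.e zI * ((t ⟨i, hiA⟩)⁻¹ * (u : G) * t ⟨i, hiA⟩)⁻¹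
          = (t ⟨i, hiA⟩)⁻¹ * ((u : G) * (t ⟨i, hiA⟩ * h.e zI * (t ⟨i, hiA⟩)⁻¹) * (u : G)⁻¹) * t ⟨i, hiA⟩ := by group
        _ = h.e zI := by rw [ht, hfx]; nth_rewrite 1 [← ht ⟨i, hiA⟩]; group
    have hd := Subgroup.orderOf_dvd_natCard T htu
    have ho : orderOf ((t ⟨i, hiA⟩)⁻¹ * (u : G) * t ⟨i, hiA⟩) = 5 := by
      refine orderOf_eq_prime ?_ ?_
      · rw [show (t ⟨i, hiA⟩)⁻¹ * (u : G) * t ⟨i, hiA⟩ = (t ⟨i, hiA⟩)⁻¹ * (u : G) * (t ⟨i, hiA⟩)⁻¹⁻¹ by group,
          conj_pow, hu5]; group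
      · intro e
        apply hu1
        calc (u : G) = t ⟨i, hiA⟩ * ((t ⟨i, hiA⟩)⁻¹ * (u : G) * t ⟨i, hiA⟩) * (t ⟨i, hiA⟩)⁻¹ := by group
          _ = 1 := by rw [e]; group
    rw [ho, hT64] at hd
    norm_num at hd
  haveI : Finite FA := inferInstance
  have hmod := (IsPGroup.of_card (n := 1) (by rw [hU5, pow_one]) : IsPGroup 5 U).card_modEq_card_fixedPoints FA
  rw [hempty, hcardF] at hmod
  rcases efix l hl with e | e
  · exact hlA e
  · exact e hmod

end Cfsg.Agent.Invol.Cen192.AP
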