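import Cfsg.Agent.Lib.Invol.Cen192.AP.Classes
import Cfsg.Agent.Lib.Invol.Cen192.Quot8
import Cfsg.Agent.Lib.Invol.M12.Local
import Cfsg.Agent.Lib.Invol.StronglyEmbeddedCount
import Cfsg.Agent.S0215

/-! No further classes fused with `z`: a normal elementary eight. -/

set_option autoImplicit false
set_option linter.unusedSectionVars false
set_option linter.style.haveILetI false
set_option maxRecDepth 100000

namespace Cfsg.Agent.Invol.Cen192.AP

open Cfsg.Agent.Invol

theorem cent_a_ok : (rotL.all fun f => (List.range 32).all fun p => !(cl (mi p) == 2) ||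
      (cl (mi (f.getD (f.getD p 0) 0)) == 5 || cl (mi (f.getD (f.getD p 0) 0)) == 6)) = true ∧
    ((List.range 192).all fun y => !(cl y == 3 && com y aI) ||
      ((List.range 192).any fun l => cj l y == bI) && cl (mA y zI) == 3 && com (mA y zI) aI) = true ∧
    (List.range 192).countP (com aI) = 32 ∧ ((List.range 192).any fun y => cl y == 3 && com y aI) = true ∧
    ([aI, BI].all fun r => (List.range 192).all fun k => !(com r k && (cl k == 1 || cl k == 3)) || k == zI ||
      (List.range 192).any fun x => com r x && !(com k x)) = true := by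
  decide +kernel

theorem eight_ok : EI.length = 8 ∧ EI.Nodup ∧ (∀ i ∈ EI, i < 192) ∧ 0 ∈ EI ∧ zI ∈ EI ∧ bI ∈ EI ∧
    (EI.all fun i => (EI.all fun j => EI.contains (mA i (iA j))) && mA i i == 0) = true ∧
    ((List.range 192).all fun i => !(EI.all (com i)) || EI.contains i) = true ∧
    ((List.range 192).all fun i => EI.contains i == (i == 0 || cl i == 1 || cl i == 3)) = true ∧
    ((List.range 192).all fun k => EI.all fun i => EI.contains (cj k i)) = true ∧
    (rotL.all fun f => EI.all fun i => (List.range 32).any fun a => mi a == i && EI.contains (mi (f.getD a 0))) = true := by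
  decide +kernel

variable {G : Type*} [Group G] (h : St G)

/-- The subgroup with the given elements of the table. -/
def listSub (l : List ℕ) (hl : ∀ i ∈ l, i < 192) (h0 : 0 ∈ l) (hc : ∀ i ∈ l, ∀ j ∈ l, mA i (iA j) ∈ l) :
    Subgroup G :=
  Subgroup.ofDiv {x | ∃ i ∈ l, h.e i = x} ⟨1, 0, h0, h.e_zero⟩ (by
    rintro _ ⟨i, hi, rfl⟩ _ ⟨j, hj, rfl⟩
    exact ⟨_, hc i hi j hj, by rw [h.mul i (hl i hi) _ (iA_spec (hl j hj)).1, h.e_inv (hl j hj)]⟩)

theorem mem_listSub {l : List ℕ} {hl : ∀ i ∈ l, i < 192} {h0 : 0 ∈ l} {hc : ∀ i ∈ l, ∀ j ∈ l, mA i (iA j) ∈ l}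
    {x : G} : x ∈ listSub h l hl h0 hc ↔ ∃ i ∈ l, h.e i = x := Iff.rfl

theorem card_listSub {l : List ℕ} {hl : ∀ i ∈ l, i < 192} {h0 : 0 ∈ l} {hc : ∀ i ∈ l, ∀ j ∈ l, mA i (iA j) ∈ l}
    (hn : l.Nodup) : Nat.card (listSub h l hl h0 hc) = l.length := by
  rw [← SetLike.coe_sort_coe]
  exact h.card_image hl hn fun x => Iff.rfl

theorem card_pair_conj [Finite G] (g x y : G) :
    Nat.card {a : G // a * x = x * a ∧ a * y = y * a} =
      Nat.card {a : G // a * (g * x * g⁻¹) = g * x * g⁻¹ * a ∧ a * (g * y * g⁻¹) = g * y * g⁻¹ * a} :=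
  Nat.card_congr ((MulAut.conj g).toEquiv.subtypeEquiv fun a => by
    show _ ↔ (MulAut.conj g a) * MulAut.conj g x = MulAut.conj g x * MulAut.conj g a ∧
      (MulAut.conj g a) * MulAut.conj g y = MulAut.conj g y * MulAut.conj g a
    simp only [← map_mul, (MulAut.conj g).injective.eq_iff])

/-- In this case the classes conjugate to `z`. -/
theorem z_class [Finite G] (hb : h.Zc 3) (ha : ¬ h.Zc 2) (hB : ¬ h.Zc 4) {i : ℕ} (hi : i < 192)
    (hc : IsConj (h.e zI) (h.e i)) : cl i = 1 ∨ cl i = 3 := by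
  have ho : orderOf (h.e i) = 2 := by
    obtain ⟨c, hc⟩ := isConj_iff.1 hc
    rw [← hc, orderOf_conj_eq, h.ord_z]
  obtain ⟨h1, h6⟩ := (h.sq_iff hi).1 ho
  have hz := (h.zc_of hi h1 h6).1 hc
  by_contra hne
  push Not at hne
  have : cl i = 2 ∨ cl i = 4 ∨ cl i = 5 ∨ cl i = 6 := by omega
  rcases this with e | e | e | e <;> rw [e] at hz
  · exact ha hz
  · exact hB hz
  · rcases pattern h hb with ⟨-, e'⟩ | ⟨e', -⟩
    · exact ha (hz.trans e'.symm)
    · exact hB (hz.trans e'.symm)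
  · rcases pattern h hb with ⟨e', -⟩ | ⟨-, e'⟩
    · exact hB (hz.trans e'.symm)
    · exact ha (hz.trans e'.symm)

/-- The centraliser of `a` centralises `z`. -/
theorem cent_a [Finite G] (hb : h.Zc 3) (ha : ¬ h.Zc 2) (hB : ¬ h.Zc 4) {x : G} (hx : x * h.e aI = h.e aI * x) :
    x * h.e zI = h.e zI * x := by
  classical
  haveI : Fact (Nat.Prime 2) := ⟨Nat.prime_two⟩
  have hal : aI < 192 := by decide
  obtain ⟨c5, c1, c32, cex, ccen⟩ := cent_a_ok
  simp only [List.all_eq_true, List.any_eq_true, List.mem_range, Bool.and_eq_true, Bool.or_eq_true,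
    Bool.not_eq_true', beq_iff_eq, Bool.and_eq_false_iff, Bool.or_eq_false_iff, beq_eq_false_iff_ne] at c5 c1 cex ccen
  obtain ⟨g, r⟩ := exists_rot h hb
  obtain ⟨f, hf, himg⟩ := r.exists_img
  -- the centralisers of `a` and a conjugate of `z` in its centraliser
  have h16 : ∀ {y : ℕ}, y < 192 → cl y = 3 → com y aI = true →
      Nat.card {u : G // u * h.e y = h.e y * u ∧ u * h.e aI = h.e aI * u} = 16 := by
    intro y hy hyc hya
    obtain ⟨⟨⟨l, hl, hle⟩, -⟩, -⟩ := (c1 y hy).resolve_left (by simp [hyc, hya])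
    have hla : com (cj l aI) bI = true := by
      rw [← h.com_iff (cj_lt hl hal) (by decide), ← hle, ← h.conj_e hl hal, ← h.conj_e hl hy, ← conj_mul', ← conj_mul',
        (h.com_iff hy hal).2 hya]
    obtain ⟨p, hp, hpe⟩ := mi_complete (cj_lt hl hal) hla
    have hpc : cl (mi p) = 2 := by
      rw [hpe]
      have h2 : orderOf (h.e (cj l aI)) = 2 := by
        rw [← h.conj_e hl hal, orderOf_conj_eq]; exact (h.sq_iff hal).2 (by decide +kernel)
      have : ((List.range 192).all fun l => cl (cj l aI) == 2) = true := by decide +kernel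
      simp only [List.all_eq_true, List.mem_range, beq_iff_eq] at this
      exact this l hl
    obtain ⟨hp1, he1⟩ := himg p hp
    obtain ⟨hp2, he2⟩ := himg _ hp1
    rw [card_pair_conj (h.e l), h.conj_e hl hy, hle, h.conj_e hl hal, ← hpe, card_pair_conj g, r.gb,
      card_pair_conj g, r.gbz, ← he1, ← he2, h.card_cent (mi_spec hp2).1]
    have h56 := (c5 f hf p hp).resolve_left (fun e => e hpc)
    have h16 := cent_ok.1
    simp only [List.all_eq_true, List.mem_range, Bool.or_eq_true, Bool.not_eq_true', Bool.and_eq_false_iff,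
      decide_eq_false_iff_not, beq_iff_eq] at h16
    exact (h16 _ (mi_spec hp2).1).resolve_left (by omega)
  set K := Subgroup.centralizer ({h.e aI} : Set G) with hK
  set R := Subgroup.centralizer ({h.e zI} : Set G) ⊓ K with hR
  have memR : ∀ {u : G}, u ∈ R ↔ ∃ i < 192, com aI i = true ∧ h.e i = u := fun {u} => by
    rw [hR, Subgroup.mem_inf, hK, Subgroup.mem_centralizer_singleton_iff, Subgroup.mem_centralizer_singleton_iff]
    constructor
    · rintro ⟨h1, h2⟩
      obtain ⟨i, hi, rfl⟩ := h.mem_cent h1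
      exact ⟨i, hi, (h.com_iff hal hi).1 h2.symm, rfl⟩
    · rintro ⟨i, hi, hc, rfl⟩
      exact ⟨h.e_comm_z hi, ((h.com_iff hal hi).2 hc).symm⟩
  have hzu : Nat.card {u : G // u * h.e zI = h.e zI * u ∧ u * h.e aI = h.e aI * u} = 32 := by
    rw [h.card_cent hal, c32]
  have hR32 : Nat.card R = 32 := by
    rw [← hzu]
    exact Nat.card_congr (Equiv.subtypeEquivRight fun u => by
      simp [hR, hK, Subgroup.mem_inf, Subgroup.mem_centralizer_singleton_iff])
  have hRK : R ≤ K := inf_le_right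
  have hzR : h.e zI ∈ R := memR.2 ⟨zI, zI_lt, (h.com_iff hal zI_lt).1 (h.e_comm_z hal), rfl⟩
  -- it is a Sylow subgroup
  obtain ⟨P, hP⟩ := ((IsPGroup.of_card (n := 5) (by rw [hR32]; norm_num) : IsPGroup 2 R).of_equiv
    (Subgroup.subgroupOfEquivOfLe hRK).symm).exists_le_sylow
  have hPR : (P : Subgroup K) = R.subgroupOf K := by
    refine le_antisymm ?_ hP
    by_contra hne
    have hlt : (R.subgroupOf K).subgroupOf (P : Subgroup K) < ⊤ := lt_top_iff_ne_top.2 fun e =>
      hne (Subgroup.subgroupOf_eq_top.1 e)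
    haveI : Group.IsNilpotent (P : Subgroup K) := P.2.isNilpotent
    obtain ⟨u, huN, huR⟩ := SetLike.exists_of_lt (Group.normalizerCondition_of_isNilpotent _ hlt)
    simp only [Subgroup.mem_subgroupOf] at huR
    have hnorm : ∀ {v : G}, v ∈ R → (u : G) * v * (u : G)⁻¹ ∈ R ∧ (u : G)⁻¹ * v * u ∈ R := fun {v} hv => by
      have hv' : (⟨v, hRK hv⟩ : K) ∈ (P : Subgroup K) := hP (Subgroup.mem_subgroupOf.2 hv)
      constructor
      · have := (Subgroup.mem_normalizer_iff.1 huN ⟨_, hv'⟩).1 (by simp [Subgroup.mem_subgroupOf, hv])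
        simpa [Subgroup.mem_subgroupOf] using this
      · have := (Subgroup.mem_normalizer_iff.1 (inv_mem huN) ⟨_, hv'⟩).1 (by simp [Subgroup.mem_subgroupOf, hv])
        simpa [Subgroup.mem_subgroupOf] using this
    obtain ⟨i, hi, hia, hie⟩ := memR.1 (hnorm hzR).1
    have hcl := z_class h hb ha hB hi (isConj_iff.2 ⟨(u : G), hie.symm⟩)
    rcases (ccen aI (by simp) i hi) with ((e | e) | e) | ⟨w, hw, hwa, hiw⟩
    · simp [hia] at e
    · omega
    · apply huR
      refine Subgroup.mem_inf.2 ⟨Subgroup.mem_centralizer_singleton_iff.2 (mul_inv_eq_iff_eq_mul.1 ?_), (u : K).2⟩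
      rw [← hie, e]
    · obtain ⟨w', hw', hwa', hwe⟩ := memR.1 (hnorm (memR.2 ⟨w, hw, hwa, rfl⟩)).2
      have : h.e i * h.e w = h.e w * h.e i := by
        rw [hie]
        have hcw := h.e_comm_z hw'
        rw [hwe] at hcw
        calc (u : G) * h.e zI * (u : G)⁻¹ * h.e w = (u : G) * (h.e zI * ((u : G)⁻¹ * h.e w * u)) * (u : G)⁻¹ := by group
          _ = h.e w * ((u : G) * h.e zI * (u : G)⁻¹) := by rw [← hcw]; group
      rw [(h.com_iff hi hw).1 this] at hiw
      exact Bool.noConfusion hiw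
  -- `z` is isolated
  set zK : K := ⟨h.e zI, hRK hzR⟩ with hzK
  have hiso : ∀ k : K, k * zK * k⁻¹ ∈ (P : Subgroup K) → k * zK * k⁻¹ = zK := by
    intro k hk
    rw [hPR, Subgroup.mem_subgroupOf] at hk
    obtain ⟨i, hi, hia, hie⟩ := memR.1 hk
    have hie' : h.e i = (k : G) * h.e zI * (k : G)⁻¹ := by simpa [hzK] using hie
    rcases z_class h hb ha hB hi (isConj_iff.2 ⟨(k : G), hie'.symm⟩) with e | e
    · refine Subtype.ext ?_
      show (k : G) * h.e zI * (k : G)⁻¹ = h.e zI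
      rw [← hie', (cl_spec hi).2.2.1 e]
    · exfalso
      have h1 := h16 hi e ((h.com_iff hi hal).1 ((h.com_iff hal hi).2 hia).symm)
      rw [hie'] at h1
      have hka : (k : G) * h.e aI * (k : G)⁻¹ = h.e aI :=
        mul_inv_eq_iff_eq_mul.2 (Subgroup.mem_centralizer_singleton_iff.1 k.2)
      nth_rewrite 2 [← hka] at h1
      nth_rewrite 1 [← hka] at h1
      rw [← card_pair_conj (k : G) (h.e zI) (h.e aI), hzu] at h1
      omega
  obtain ⟨N, hN, hodd, hcomm⟩ := Cfsg.Agent.S0215.result P zK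
    (by rw [← Subgroup.orderOf_coe]; exact h.ord_z) (by
      show zK ∈ (P : Subgroup K)
      rw [hPR, Subgroup.mem_subgroupOf]; exact hzR) hiso
  set N' := N.map K.subtype with hN'
  have hodd' : Odd (Nat.card N') := by
    rwa [hN', Nat.card_congr (N.equivMapOfInjective _ Subtype.coe_injective).symm.toEquiv]
  have hN'le : N' ≤ K := Subgroup.map_subtype_le _
  have hnorm : ∀ u : G, u ∈ K → ∀ n ∈ N', u * n * u⁻¹ ∈ N' := by
    rintro u hu _ ⟨n, hn, rfl⟩
    exact ⟨_, hN.conj_mem n hn ⟨u, hu⟩, rfl⟩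
  have hfix : ∀ (y : G) (m : ℕ), Nat.card {u : G // u * y = y * u ∧ u * h.e aI = h.e aI * u} = m → m ∣ 32 →
      ∀ n ∈ N', y * n * y⁻¹ = n → n = 1 := by
    intro y m hm hm32 n hn e
    have hle : Subgroup.zpowers n ≤ Subgroup.centralizer ({y} : Set G) ⊓ K := by
      rw [Subgroup.zpowers_le, Subgroup.mem_inf, Subgroup.mem_centralizer_singleton_iff]
      exact ⟨(mul_inv_eq_iff_eq_mul.1 e).symm, hN'le hn⟩
    have hd : orderOf n ∣ 32 := by
      rw [← Nat.card_zpowers]
      refine (Subgroup.card_dvd_of_le hle).trans (dvd_trans (dvd_of_eq ?_) hm32)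
      rw [← hm]
      exact Nat.card_congr (Equiv.subtypeEquivRight fun u => by
        simp [hK, Subgroup.mem_inf, Subgroup.mem_centralizer_singleton_iff])
    have hd2 : orderOf n ∣ Nat.card N' := by
      rw [← Nat.card_zpowers]; exact Subgroup.card_dvd_of_le (by simpa using hn)
    have hco : Nat.Coprime 32 (Nat.card N') :=
      Nat.Coprime.pow_left 5 ((Nat.Prime.coprime_iff_not_dvd Nat.prime_two).2 fun h2 => by
        obtain ⟨a, ha⟩ := hodd'; omega)
    exact orderOf_eq_one_iff.1 (Nat.eq_one_of_dvd_coprimes hco hd hd2)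
  obtain ⟨y, hy, hyc, hya⟩ := cex
  obtain ⟨⟨-, hyzc⟩, hyza⟩ := (c1 y hy).resolve_left (by simp [hyc, hya])
  have hyz : mA y zI < 192 := mA_lt hy zI_lt
  have hsq : ∀ {i : ℕ}, i < 192 → cl i = 3 → h.e i * h.e i = 1 := fun hi hc =>
    (orderOf_two_iff.1 ((h.sq_iff hi).2 (by omega))).1
  have hKm : ∀ {i : ℕ}, i < 192 → com i aI = true → h.e i ∈ K := fun hi hc =>
    Subgroup.mem_centralizer_singleton_iff.2 ((h.com_iff hi hal).2 hc)
  have iz := M12.inverts h.z_sq (hnorm _ zK.2) hodd' (hfix _ _ hzu dvd_rfl)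
  have iy := M12.inverts (hsq hy hyc) (hnorm _ (hKm hy hya)) hodd' (hfix _ _ (h16 hy hyc hya) ⟨2, rfl⟩)
  have hN1 : ∀ n ∈ N', n = 1 := by
    intro n hn
    refine hfix _ _ (h16 hyz hyzc hyza) ⟨2, rfl⟩ n hn ?_
    rw [h.mul y hy _ zI_lt]
    calc h.e y * h.e zI * n * (h.e y * h.e zI)⁻¹ = h.e y * (h.e zI * n * (h.e zI)⁻¹) * (h.e y)⁻¹ := by group
      _ = n := by rw [iz n hn, iy _ (inv_mem hn), inv_inv]
  have h1 := hN1 _ ⟨_, hcomm ⟨x, Subgroup.mem_centralizer_singleton_iff.2 hx⟩, rfl⟩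
  have h1' : h.e zI * x * (h.e zI)⁻¹ * x⁻¹ = 1 := by simpa [hzK] using h1
  rw [mul_inv_eq_one, mul_inv_eq_iff_eq_mul] at h1'
  exact h1'.symm

/-- An element conjugating one representative to another centralises `z`. -/
theorem fix_z [Finite G] (hb : h.Zc 3) (ha : ¬ h.Zc 2) (hB : ¬ h.Zc 4) {x : G} {r r' : ℕ} (hr : r = aI ∨ r = BI)
    (hr' : r' = aI ∨ r' = BI) (e : x * h.e r * x⁻¹ = h.e r') : x * h.e zI = h.e zI * x := by
  have hcent : ∀ {r : ℕ}, (r = aI ∨ r = BI) → ∀ {u : G}, u * h.e r = h.e r * u → u * h.e zI = h.e zI * u := by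
    rintro r (rfl | rfl) u hu
    · exact cent_a h hb ha hB hu
    · obtain ⟨t, hperm⟩ := swaB_ok
      set h' := h.comp swaB t with hh'
      have hk : ∀ k, 1 ≤ k → k ≤ 6 → ∀ m, ([0, 1, 4, 3, 2, 5, 6] : List ℕ).getD k 0 = m → 1 ≤ m → m ≤ 6 →
          (h'.Zc k ↔ h.Zc m) := by
        intro k h1 h6 m hm hm1 hm6
        subst hm
        exact h.zc_comp t hperm h1 h6 hm1 hm6
      have hcl : cl (swaB aI) = 4 := map_get hperm (k := 2) (by norm_num)
      have hlt : swaB aI < 192 := by decide +kernel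
      obtain ⟨m, hm, hme⟩ : ∃ m < 192, cj m BI = swaB aI := by decide +kernel
      have h1 := cent_a h' ((hk 3 (by norm_num) (by norm_num) 3 rfl (by norm_num) (by norm_num)).2 hb)
        (fun e => hB ((hk 2 (by norm_num) (by norm_num) 4 rfl (by norm_num) (by norm_num)).1 e))
        (fun e => ha ((hk 4 (by norm_num) (by norm_num) 2 rfl (by norm_num) (by norm_num)).1 e))
        (x := h.e m * u * (h.e m)⁻¹) (by
          show h.e m * u * (h.e m)⁻¹ * h.e (swaB aI) = h.e (swaB aI) * (h.e m * u * (h.e m)⁻¹)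
          rw [← hme, ← h.conj_e hm (by decide), ← conj_mul', ← conj_mul', hu])
      have h2 : h.e m * u * (h.e m)⁻¹ * h.e zI = h.e zI * (h.e m * u * (h.e m)⁻¹) := by
        have e : h'.e zI = h.e zI := by show h.e (swaB zI) = _; rw [show swaB zI = zI by decide +kernel]
        rwa [e] at h1
      have hmz := h.e_comm_z hm
      calc u * h.e zI = (h.e m)⁻¹ * (h.e m * u * (h.e m)⁻¹ * h.e zI) * h.e m := by
            calc u * h.e zI = (h.e m)⁻¹ * (h.e m * u * (h.e m)⁻¹) * (h.e m * h.e zI) := by group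
              _ = _ := by rw [hmz]; group
        _ = h.e zI * u := by
            rw [h2]
            calc (h.e m)⁻¹ * (h.e zI * (h.e m * u * (h.e m)⁻¹)) * h.e m = (h.e m)⁻¹ * (h.e zI * h.e m) * u := by group
              _ = h.e zI * u := by rw [← hmz]; group
  have hrl : ∀ {r : ℕ}, (r = aI ∨ r = BI) → r < 192 := by rintro r (rfl | rfl) <;> decide
  obtain ⟨k, hk, hke⟩ := h.mem_cent (x := x * h.e zI * x⁻¹) (hcent hr' (by
    rw [← e, ← conj_mul', ← conj_mul', h.e_comm_z (hrl hr)]))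
  have ccen := cent_a_ok.2.2.2.2
  simp only [List.all_eq_true, List.any_eq_true, List.mem_range, Bool.and_eq_true, Bool.or_eq_true,
    Bool.not_eq_true', beq_iff_eq, Bool.and_eq_false_iff, Bool.or_eq_false_iff, beq_eq_false_iff_ne] at ccen
  have hkr : com r' k = true := by
    rw [← h.com_iff (hrl hr') hk, hke, ← e, ← conj_mul', ← conj_mul', h.e_comm_z (hrl hr)]
  rcases ccen r' (by simpa using hr') k hk with ((e' | e') | e') | ⟨w, hw, hwr, hkw⟩
  · simp [hkr] at e'
  · have := z_class h hb ha hB hk (isConj_iff.2 ⟨x, hke.symm⟩)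
    omega
  · refine mul_inv_eq_iff_eq_mul.1 ?_
    rw [← hke, e']
  · exfalso
    have hc : h.e w * h.e r' = h.e r' * h.e w := ((h.com_iff (hrl hr') hw).2 hwr).symm
    have h2 := hcent hr (u := x⁻¹ * h.e w * x) (by
      rw [← e] at hc
      calc x⁻¹ * h.e w * x * h.e r = x⁻¹ * (h.e w * (x * h.e r * x⁻¹)) * x := by group
        _ = h.e r * (x⁻¹ * h.e w * x) := by rw [hc]; group)
    have h3 : h.e k * h.e w = h.e w * h.e k := by
      rw [hke]
      calc x * h.e zI * x⁻¹ * h.e w = x * (h.e zI * (x⁻¹ * h.e w * x)) * x⁻¹ := by group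
        _ = h.e w * (x * h.e zI * x⁻¹) := by rw [← h2]; group
    rw [(h.com_iff hk hw).1 h3] at hkw
    exact Bool.noConfusion hkw

/-- The first alternative. -/
theorem case_one [Finite G] (hb : h.Zc 3) (ha : ¬ h.Zc 2) (hB : ¬ h.Zc 4) :
    ∃ (N : Subgroup G) (hN : N.Normal), IsMulCommutative N ∧ (∀ n ∈ N, n ^ 2 = 1) ∧ Nat.card N = 8 ∧
      Nonempty (G ⧸ N ≃* Matrix.ProjectiveSpecialLinearGroup (Fin 3) (ZMod 2)) := by
  classical
  obtain ⟨e8, en, el, e0, ez, eb, ec, ecen, ecl, ecj, erot⟩ := eight_ok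
  simp only [List.all_eq_true, List.any_eq_true, List.mem_range, Bool.and_eq_true, List.contains_eq_mem,
    decide_eq_true_eq, beq_iff_eq, Bool.or_eq_true, Bool.not_eq_true'] at ec ecen ecl ecj erot
  have ecl' : ∀ i < 192, (i ∈ EI ↔ (i = 0 ∨ cl i = 1 ∨ cl i = 3)) := fun i hi => by
    have := Bool.eq_iff_iff.1 (ecl i hi)
    simpa [or_assoc] using this
  set E : Subgroup G := listSub h EI el e0 (fun i hi j hj => (ec i hi).1 j hj) with hE
  have hmem : ∀ {i : ℕ}, i ∈ EI → h.e i ∈ E := fun {i} hi => ⟨i, hi, rfl⟩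
  set H := Subgroup.normalizer (E : Set G) with hH
  have hnorm : ∀ {a : G}, (∀ i ∈ EI, a * h.e i * a⁻¹ ∈ E) → a ∈ H := by
    intro a ha'
    have hle : E.map (MulAut.conj a).toMonoidHom ≤ E := by
      rintro _ ⟨y, ⟨i, hi, rfl⟩, rfl⟩; exact ha' i hi
    have heq := Subgroup.eq_of_le_of_card_ge hle
      (le_of_eq (Nat.card_congr (E.equivMapOfInjective _ (MulAut.conj a).injective).toEquiv))
    refine Subgroup.mem_normalizer_iff.2 fun y => ⟨fun hy => hle ⟨y, hy, rfl⟩, fun hy => ?_⟩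
    have hy' : a * y * a⁻¹ ∈ E.map (MulAut.conj a).toMonoidHom := by rw [heq]; exact hy
    obtain ⟨y', hy', e⟩ := hy'
    have e' : a * y' * a⁻¹ = a * y * a⁻¹ := e
    rwa [← mul_left_cancel (mul_right_cancel e')]
  have hLH : ∀ {l : ℕ}, l < 192 → h.e l ∈ H := fun {l} hl => hnorm fun i hi => by
    rw [h.conj_e hl (el i hi)]; exact hmem (ecj l hl i hi)
  have hCH : ∀ {x : G}, x * h.e zI = h.e zI * x → x ∈ H := fun {x} hx => by
    obtain ⟨l, hl, rfl⟩ := h.mem_cent hx; exact hLH hl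
  obtain ⟨g, r⟩ := exists_rot h hb
  obtain ⟨f, hf, himg⟩ := r.exists_img
  have hgH : g ∈ H := hnorm fun i hi => by
    obtain ⟨a, ha, hae, hfe⟩ := erot f hf i hi
    rw [← hae, ← (himg a ha).2]; exact hmem hfe
  have hrep : ∀ {i : ℕ}, i < 192 → 1 ≤ cl i → cl i ≤ 6 →
      ∃ c ∈ H, c * h.e i * c⁻¹ = h.e zI ∨ c * h.e i * c⁻¹ = h.e aI ∨ c * h.e i * c⁻¹ = h.e BI := by
    have step : ∀ {i : ℕ}, i < 192 → 1 ≤ cl i → cl i ≤ 6 → ∃ c ∈ H, c * h.e i * c⁻¹ = h.e (rp (cl i)) := by
      intro i hi h1 h6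
      have := rep_ok
      simp only [List.all_eq_true, List.any_eq_true, List.mem_range, Bool.or_eq_true, Bool.not_eq_true',
        Bool.and_eq_false_iff, decide_eq_false_iff_not, beq_iff_eq] at this
      obtain ⟨k, hk, e⟩ := (this i hi).resolve_left (by omega)
      exact ⟨h.e k, hLH hk, by rw [h.conj_e hk hi, e]⟩
    intro i hi h1 h6
    obtain ⟨c, hc, hce⟩ := step hi h1 h6
    have via : ∀ {k : ℕ}, cl i = k → (∃ d ∈ H, d * h.e (rp k) * d⁻¹ = h.e zI ∨ d * h.e (rp k) * d⁻¹ = h.e aI ∨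
        d * h.e (rp k) * d⁻¹ = h.e BI) →
        ∃ c ∈ H, c * h.e i * c⁻¹ = h.e zI ∨ c * h.e i * c⁻¹ = h.e aI ∨ c * h.e i * c⁻¹ = h.e BI := fun {k} hk hd => by
      obtain ⟨d, hd, e⟩ := hd
      refine ⟨d * c, mul_mem hd hc, ?_⟩
      rw [show d * c * h.e i * (d * c)⁻¹ = d * (c * h.e i * c⁻¹) * d⁻¹ by group, hce, hk]
      exact e
    have : cl i = 1 ∨ cl i = 2 ∨ cl i = 3 ∨ cl i = 4 ∨ cl i = 5 ∨ cl i = 6 := by omega
    rcases this with e | e | e | e | e | e
    · exact via e ⟨1, one_mem _, Or.inl (by simp [rp])⟩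
    · exact via e ⟨1, one_mem _, Or.inr (Or.inl (by simp [rp]))⟩
    · refine via e ⟨g⁻¹, inv_mem hgH, Or.inl ?_⟩
      show g⁻¹ * h.e bI * g⁻¹⁻¹ = h.e zI
      rw [← r.gz]; group
    · exact via e ⟨1, one_mem _, Or.inr (Or.inr (by simp [rp]))⟩
    all_goals
      refine via e ?_
      have hp := pattern_ok.2
      simp only [List.all_eq_true, Bool.or_eq_true, Bool.and_eq_true] at hp
      obtain ⟨h5, h6'⟩ := hp f hf
      first
        | (rcases h5 with h5 | h5 <;>
            (obtain ⟨-, u, hu, huc, v, hv, hvc, huv⟩ := r.link_iff h himg (by norm_num) (by norm_num) h5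
             obtain ⟨d, hd, hde⟩ := step hu (by omega) (by omega)
             obtain ⟨d', hd', hde'⟩ := step hv (by omega) (by omega)
             rw [huc] at hde; rw [hvc] at hde'
             refine ⟨d' * g * d⁻¹, mul_mem (mul_mem hd' hgH) (inv_mem hd), ?_⟩
             rw [← hde, show d' * g * d⁻¹ * (d * h.e u * d⁻¹) * (d' * g * d⁻¹)⁻¹ =
               d' * (g * h.e u * g⁻¹) * d'⁻¹ by group, huv, hde']
             simp [rp]))
        | (rcases h6' with h5 | h5 <;>
            (obtain ⟨-, u, hu, huc, v, hv, hvc, huv⟩ := r.link_iff h himg (by norm_num) (by norm_num) h5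
             obtain ⟨d, hd, hde⟩ := step hu (by omega) (by omega)
             obtain ⟨d', hd', hde'⟩ := step hv (by omega) (by omega)
             rw [huc] at hde; rw [hvc] at hde'
             refine ⟨d' * g * d⁻¹, mul_mem (mul_mem hd' hgH) (inv_mem hd), ?_⟩
             rw [← hde, show d' * g * d⁻¹ * (d * h.e u * d⁻¹) * (d' * g * d⁻¹)⁻¹ =
               d' * (g * h.e u * g⁻¹) * d'⁻¹ by group, huv, hde']
             simp [rp]))
  have hS0 : S0 h ≤ H := by rintro x ⟨i, hi, rfl⟩; exact hLH (SI_lt hi)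
  have hnza : ∀ {r : ℕ}, (r = aI ∨ r = BI) → ¬ IsConj (h.e zI) (h.e r) := by
    rintro r (rfl | rfl)
    exacts [ha, hB]
  have htop : H = ⊤ := by
    by_contra htop
    have hev : Even (Nat.card H) := by
      rw [even_iff_two_dvd]
      have := Subgroup.orderOf_dvd_natCard H (hLH zI_lt)
      rwa [h.ord_z] at this
    have hse : Cfsg.IsStronglyEmbedded H := by
      refine (isStronglyEmbedded_iff htop hev).2 fun t ht ht2 a ha' => ?_
      have getrep : ∀ t ∈ H, orderOf t = 2 →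
          ∃ c ∈ H, c * t * c⁻¹ = h.e zI ∨ c * t * c⁻¹ = h.e aI ∨ c * t * c⁻¹ = h.e BI := by
        intro t ht ht2
        obtain ⟨i, hi, ⟨h1, h6⟩, k, hk, hke⟩ := h.invol_conj_in hS0 ht2 ht
        obtain ⟨c, hc, hce⟩ := hrep (SI_lt hi) h1 h6
        refine ⟨c * k, mul_mem hc hk, ?_⟩
        rw [show c * k * t * (c * k)⁻¹ = c * (k * t * k⁻¹) * c⁻¹ by group, hke]
        exact hce
      obtain ⟨k, hk, hke⟩ := getrep t ht ht2
      obtain ⟨k', hk', hke'⟩ := getrep _ ha' (by
        have := orderOf_conj_eq a⁻¹ t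
        rw [inv_inv] at this
        rw [this, ht2])
      have hback : k' * a⁻¹ * k⁻¹ ∈ H → a ∈ H := fun e => by
        have := mul_mem (mul_mem (inv_mem hk') e) hk
        rwa [show k'⁻¹ * (k' * a⁻¹ * k⁻¹) * k = a⁻¹ by group, inv_mem_iff] at this
      have hkey : k' * a⁻¹ * k⁻¹ * (k * t * k⁻¹) * (k' * a⁻¹ * k⁻¹)⁻¹ = k' * (a⁻¹ * t * a) * k'⁻¹ := by group
      have mix : ∀ {u v : G}, k * t * k⁻¹ = u → k' * (a⁻¹ * t * a) * k'⁻¹ = v →
          k' * a⁻¹ * k⁻¹ * u * (k' * a⁻¹ * k⁻¹)⁻¹ = v := fun e1 e2 => by rw [← e1, hkey, e2]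
      refine hback (hCH ?_)
      rcases hke with e | e | e <;> rcases hke' with e' | e' | e'
      · exact mul_inv_eq_iff_eq_mul.1 (mix e e')
      · exact absurd (isConj_iff.2 ⟨_, mix e e'⟩) (hnza (Or.inl rfl))
      · exact absurd (isConj_iff.2 ⟨_, mix e e'⟩) (hnza (Or.inr rfl))
      · exact absurd (isConj_iff.2 ⟨_, mix e e'⟩ : IsConj _ _).symm (hnza (Or.inl rfl))
      · exact fix_z h hb ha hB (Or.inl rfl) (Or.inl rfl) (mix e e')
      · exact fix_z h hb ha hB (Or.inl rfl) (Or.inr rfl) (mix e e')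
      · exact absurd (isConj_iff.2 ⟨_, mix e e'⟩ : IsConj _ _).symm (hnza (Or.inr rfl))
      · exact fix_z h hb ha hB (Or.inr rfl) (Or.inl rfl) (mix e e')
      · exact fix_z h hb ha hB (Or.inr rfl) (Or.inr rfl) (mix e e')
    exact ha (isConj_involutions hse h.ord_z ((h.sq_iff (by decide : aI < 192)).2 (by decide +kernel)))
  have hEn : E.Normal := Subgroup.normalizer_eq_top_iff.1 htop
  haveI := hEn
  -- the order
  have horb : ∀ y : {i // i ∈ EI.erase 0}, ∃ t : G, t * h.e zI * t⁻¹ = h.e y.1 := by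
    rintro ⟨i, hi⟩
    have hi' := List.mem_of_mem_erase hi
    have hne : i ≠ 0 := by
      rintro rfl
      exact absurd hi (List.Nodup.not_mem_erase en)
    rcases (ecl' i (el i hi')).1 hi' with e | e | e
    · exact absurd e hne
    · refine ⟨1, ?_⟩
      show 1 * h.e zI * 1⁻¹ = h.e i
      rw [congrArg h.e ((cl_spec (el i hi')).2.2.1 e)]; group
    · obtain ⟨c, hc⟩ := isConj_iff.1 ((h.zc_of (el i hi') (by omega) (by omega)).2 (e ▸ hb))
      exact ⟨c, hc⟩
  choose t ht using horb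
  set L := Subgroup.centralizer ({h.e zI} : Set G) with hL
  have hcard : Nat.card G = 7 * 192 := by
    rw [← h.card_C, show 7 = Nat.card {i // i ∈ EI.erase 0} by
      rw [Nat.card_eq_fintype_card]; decide +kernel, ← Nat.card_prod]
    refine (Nat.card_congr (Equiv.ofBijective (fun p : {i // i ∈ EI.erase 0} × L => t p.1 * p.2.1) ⟨?_, ?_⟩)).symm
    · rintro ⟨i, u⟩ ⟨j, v⟩ e
      have e1 : ∀ (i : {i // i ∈ EI.erase 0}) (u : L), t i * u.1 * h.e zI * (t i * u.1)⁻¹ = h.e i.1 := fun i u => by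
        rw [← ht i]
        have := Subgroup.mem_centralizer_singleton_iff.1 u.2
        calc t i * u.1 * h.e zI * (t i * u.1)⁻¹ = t i * (u.1 * h.e zI) * u.1⁻¹ * (t i)⁻¹ := by group
          _ = _ := by rw [this]; group
      have e2 := e1 i u
      simp only at e
      rw [e, e1 j v] at e2
      have hij : i = j := Subtype.ext (h.inj _ (el _ (List.mem_of_mem_erase j.2)) _
        (el _ (List.mem_of_mem_erase i.2)) e2).symm
      subst hij
      exact Prod.ext rfl (Subtype.ext (mul_left_cancel e))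
    · intro x
      obtain ⟨i, hi, hie⟩ := hEn.conj_mem _ (hmem ez) x
      have hi0 : i ∈ EI.erase 0 := by
        refine (List.mem_erase_of_ne ?_).2 hi
        rintro rfl
        rw [h.e_zero, eq_comm, conj_eq_one_iff] at hie
        exact h.z_ne hie
      refine ⟨⟨⟨i, hi0⟩, ⟨(t ⟨i, hi0⟩)⁻¹ * x, Subgroup.mem_centralizer_singleton_iff.2 ?_⟩⟩, by simp⟩
      have h1 := (ht ⟨i, hi0⟩).trans hie
      calc (t ⟨i, hi0⟩)⁻¹ * x * h.e zI = (t ⟨i, hi0⟩)⁻¹ * (x * h.e zI * x⁻¹) * x := by group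
        _ = h.e zI * ((t ⟨i, hi0⟩)⁻¹ * x) := by rw [← h1]; group
  refine quot_psl3 E ((card_listSub h en).trans e8) (fun n hn => ?_) (fun a ha' => ?_) hcard
  · obtain ⟨i, hi, rfl⟩ := hn
    rw [← h.mul i (el i hi) i (el i hi), (ec i hi).2, h.e_zero]
  · obtain ⟨i, hi, rfl⟩ := h.mem_cent (ha' _ (hmem ez))
    refine hmem ((ecen i hi).resolve_left fun e => ?_)
    rw [List.all_eq_false] at e
    obtain ⟨j, hj, hje⟩ := e
    exact hje ((h.com_iff hi (el j hj)).1 (ha' _ (hmem hj)))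

end Cfsg.Agent.Invol.Cen192.AP
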