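import Cfsg.Agent.Lib.Invol.Cen192.AP.Rot

/-! The classes of the table, permuted by rotations and automorphisms. -/

set_option autoImplicit false
set_option linter.unusedSectionVars false
set_option maxRecDepth 100000

namespace Cfsg.Agent.Invol.Cen192.AP

/-- some position of class `k` is mapped to class `l` -/
def link (f : List ℕ) (k l : ℕ) : Bool :=
  (List.range 32).any fun a => cl (mi a) == k && cl (mi (f.getD a 0)) == l

theorem pattern_ok : (rotL.all fun f => (link f 4 6 && link f 2 5) || (link f 4 5 && link f 2 6)) = true ∧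
    (rotL.all fun f => (link f 5 2 || link f 5 4) && (link f 6 2 || link f 6 4)) = true := by
  decide +kernel

variable {G : Type*} [Group G] (h : St G)

/-- `z` is conjugate to the representative of the class -/
def St.Zc (k : ℕ) : Prop := IsConj (h.e zI) (h.e (rp k))

theorem St.zc_of {i : ℕ} (hi : i < 192) (h1 : 1 ≤ cl i) (h6 : cl i ≤ 6) : IsConj (h.e zI) (h.e i) ↔ h.Zc (cl i) :=
  ⟨fun e => e.trans (h.isConj_rp hi h1 h6), fun e => e.trans (h.isConj_rp hi h1 h6).symm⟩

theorem Rot.link_iff {g : G} (r : Rot h g) {f : List ℕ}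
    (hf : ∀ a < 32, f.getD a 0 < 32 ∧ h.e (mi (f.getD a 0)) = g * h.e (mi a) * g⁻¹) {k l : ℕ} (hk : 1 ≤ k ∧ k ≤ 6)
    (hl : 1 ≤ l ∧ l ≤ 6) (e : link f k l = true) :
    IsConj (h.e (rp k)) (h.e (rp l)) ∧ ∃ i < 192, cl i = k ∧
      ∃ j < 192, cl j = l ∧ g * h.e i * g⁻¹ = h.e j := by
  simp only [link, List.any_eq_true, List.mem_range, Bool.and_eq_true, beq_iff_eq] at e
  obtain ⟨a, ha, e1, e2⟩ := e
  have hi := (mi_spec ha).1
  have hj := (mi_spec (hf a ha).1).1
  refine ⟨?_, _, hi, e1, _, hj, e2, (hf a ha).2.symm⟩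
  have c1 := h.isConj_rp hi (by omega) (by omega)
  have c2 := h.isConj_rp hj (by omega) (by omega)
  rw [e1] at c1; rw [e2] at c2
  exact c1.symm.trans ((isConj_iff.2 ⟨g, (hf a ha).2.symm⟩).trans c2)

/-- The classes of `p` and `q` are those of `a` and `B`. -/
theorem pattern [Finite G] (hb : h.Zc 3) :
    (IsConj (h.e (rp 4)) (h.e (rp 6)) ∧ IsConj (h.e (rp 2)) (h.e (rp 5))) ∨
      (IsConj (h.e (rp 4)) (h.e (rp 5)) ∧ IsConj (h.e (rp 2)) (h.e (rp 6))) := by
  obtain ⟨g, r⟩ := exists_rot h hb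
  obtain ⟨f, hf, himg⟩ := r.exists_img
  have hp := pattern_ok.1
  simp only [List.all_eq_true, Bool.or_eq_true, Bool.and_eq_true] at hp
  rcases hp f hf with ⟨e1, e2⟩ | ⟨e1, e2⟩
  · exact Or.inl ⟨(r.link_iff h himg (by norm_num) (by norm_num) e1).1,
      (r.link_iff h himg (by norm_num) (by norm_num) e2).1⟩
  · exact Or.inr ⟨(r.link_iff h himg (by norm_num) (by norm_num) e1).1,
      (r.link_iff h himg (by norm_num) (by norm_num) e2).1⟩

theorem map_get {l : List ℕ} {F : ℕ → ℕ} (e : (List.range 7).map F = l) {k : ℕ} (hk : k < 7) : F k = l.getD k 0 := by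
  rw [← e, List.getD_eq_getElem _ _ (by simpa using hk), List.getElem_map, List.getElem_range]

/-- The classes in the composed setting. -/
theorem St.zc_comp {f : ℕ → ℕ} (hf : autTest f = true) {l : List ℕ}
    (hl : ((List.range 7).map fun k => cl (f (rp k))) = l) {k : ℕ} (h1 : 1 ≤ k) (h6 : k ≤ 6)
    (hl1 : 1 ≤ l.getD k 0) (hl6 : l.getD k 0 ≤ 6) :
    (h.comp f hf).Zc k ↔ h.Zc (l.getD k 0) := by
  have hrp := (rp_ok k (by omega) h1).1
  have hf' := hf
  simp only [autTest, Bool.and_eq_true, beq_iff_eq, List.all_eq_true, List.mem_range, decide_eq_true_eq,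
    List.any_eq_true] at hf'
  have hlt := (hf'.2 _ hrp).1.1
  have hc : cl (f (rp k)) = l.getD k 0 := map_get hl (by omega)
  show IsConj (h.e (f zI)) (h.e (f (rp k))) ↔ _
  rw [hf'.1, h.zc_of hlt (by omega) (by omega), hc]

end Cfsg.Agent.Invol.Cen192.AP
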