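import Cfsg.Agent.Lib.Invol.Cen192.AP.Data

/-! Facts about the tables, checked by the kernel. -/

set_option autoImplicit false
set_option maxRecDepth 100000

namespace Cfsg.Agent.Invol.Cen192.AP

/-- conjugation -/
def cj (k i : ℕ) : ℕ := mA (mA k i) (iA k)

/-- the two elements commute -/
def com (i j : ℕ) : Bool := mA i j == mA j i

/-- powers -/
def pwA (p : ℕ) : ℕ → ℕ
  | 0 => p
  | n + 1 => mA (pwA p n) p

/-- representatives of the classes -/
def rp (k : ℕ) : ℕ := [0, zI, aI, bI, BI, pI, qI].getD k 0

theorem mul_ok : ((List.range 192).all fun i => (List.range 192).all fun j => mA i j == fmul true 0 i j) = true := by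
  decide +kernel

theorem inv_ok : ((List.range 192).all fun i => decide (iA i < 192) && mA i (iA i) == 0) = true := by
  decide +kernel

theorem cls_ok : ((List.range 192).all fun i =>
    decide (cl i < 8) && ((decide (1 ≤ cl i) && decide (cl i ≤ 6)) == (!(i == 0) && mA i i == 0)) &&
      ((cl i == 1) == (i == zI))) = true := by
  decide +kernel

theorem rep_ok : ((List.range 192).all fun i =>
    !(decide (1 ≤ cl i) && decide (cl i ≤ 6)) || (List.range 192).any fun k => cj k i == rp (cl i)) = true := by
  decide +kernel

theorem rp_ok : ∀ k < 7, 1 ≤ k → rp k < 192 ∧ cl (rp k) = k := by decide +kernel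

/-- the map is an automorphism of the table fixing the centre -/
def autTest (f : ℕ → ℕ) : Bool :=
  (f zI == zI) && ((List.range 192).all fun i => decide (f i < 192) &&
    ((List.range 192).all fun j => f (mA i j) == mA (f i) (f j)) &&
      ((List.range 192).any fun j => f j == i))

theorem swbB_ok : autTest swbB = true ∧ ((List.range 7).map fun k => cl (swbB (rp k))) = [0, 1, 2, 4, 3, 5, 6] ∧
    swbB aI = aI := by
  decide +kernel

theorem swaB_ok : autTest swaB = true ∧ ((List.range 7).map fun k => cl (swaB (rp k))) = [0, 1, 4, 3, 2, 5, 6] := by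
  decide +kernel

theorem swpq_ok : autTest swpq = true ∧ ((List.range 7).map fun k => cl (swpq (rp k))) = [0, 1, 2, 3, 4, 6, 5] := by
  decide +kernel

theorem swab_ok : autTest swab = true ∧ cl (swab aI) = 3 := by
  decide +kernel

theorem sylow_ok : (SI.all fun i => SI.all fun j => SI.contains (mA i (iA j))) = true ∧ SI.length = 64 ∧
    SI.contains zI = true ∧ (SI.all fun i => !(SI.all (com i)) || i == 0 || i == zI) = true ∧
      (SI.all fun i => pwA i 3 == 0) = true := by
  decide +kernel

theorem jz_ok : ((List.range 192).all fun j => !(decide (2 ≤ cl j) && decide (cl j ≤ 4)) ||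
    (List.range 192).any fun t => cj t j == mA j zI) = true := by
  decide +kernel

theorem swapb_ok : ∃ k < 192, cj k bI = bzI ∧ cj k bzI = bI := by decide +kernel

theorem b_ok : cl bI = 3 ∧ cl bzI = 3 ∧ mA bI zI = bzI ∧ mA zI bI = bzI ∧ com zI bI = true := by decide +kernel

end Cfsg.Agent.Invol.Cen192.AP
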