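import Cfsg.Agent.Lib.Invol.Cen192.AP.Pair
import Cfsg.Agent.Lib.Invol.M12.Half

/-! Three transfers in the centraliser of `a`. -/

set_option autoImplicit false
set_option linter.unusedSectionVars false
set_option linter.style.haveILetI false
set_option maxRecDepth 100000

namespace Cfsg.Agent.Invol.Cen192.AP

open Cfsg.Agent.Invol

/-- A fixed-point-free involutive permutation of twice an odd number of points is odd. -/
theorem sign_free {α : Type*} [Fintype α] [DecidableEq α] {σ : Equiv.Perm α} (h2 : σ * σ = 1)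
    (hf : ∀ x, σ x ≠ x) {m : ℕ} (hm : Fintype.card α = 2 * m) (hodd : Odd m) : Equiv.Perm.sign σ = -1 := by
  haveI : Fact (Nat.Prime 2) := ⟨Nat.prime_two⟩
  have hne : σ ≠ 1 := fun e => by
    have hpos : 0 < Fintype.card α := by obtain ⟨t, rfl⟩ := hodd; omega
    obtain ⟨x⟩ := Fintype.card_pos_iff.1 hpos
    exact hf x (by rw [e]; rfl)
  have ho : orderOf σ = 2 := orderOf_eq_prime (by rw [pow_two]; exact h2) hne
  obtain ⟨n, hn⟩ := Equiv.Perm.cycleType_prime_order (ho.symm ▸ Nat.prime_two)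
  have hsum := Equiv.Perm.sum_cycleType σ
  have hs : σ.support = Finset.univ := by ext x; simp [hf x]
  rw [hs, Finset.card_univ, hn, ho, Multiset.sum_replicate, smul_eq_mul] at hsum
  rw [Equiv.Perm.sign_of_cycleType, hn, ho, Multiset.sum_replicate, Multiset.card_replicate, smul_eq_mul]
  obtain ⟨t, rfl⟩ := hodd
  obtain rfl : n = 2 * t := by omega
  exact Odd.neg_one_pow ⟨3 * t + 1, by ring⟩

variable {G : Type*} [Group G]

/-- The same transfer when only the square of `u` is central. -/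
theorem exists_half4 [Finite G] {K R Q : Subgroup G} {u : G} {m : ℕ} (hQ : Q ≤ R) (hR : R ≤ K)
    (hcard : Nat.card R = 2 * Nat.card Q) (hK : Nat.card K = Nat.card R * m) (hm : Odd m) (huK : u ∈ K)
    (hu2 : u * u ∈ Q) (hcen : ∀ k ∈ K, k * (u * u) = (u * u) * k) (hconj : ∀ k ∈ K, k * u * k⁻¹ ∉ Q) :
    ∃ M : Subgroup G, M12.Half K M u := by
  classical
  set Q' := Q.subgroupOf K with hQ'
  letI := Fintype.ofFinite (K ⧸ Q')
  set χ : K →* ℤˣ := Equiv.Perm.sign.comp (MulAction.toPermHom K (K ⧸ Q')) with hχ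
  have hcardq : Fintype.card (K ⧸ Q') = 2 * m := by
    have h1 := Subgroup.card_eq_card_quotient_mul_card_subgroup Q'
    rw [Nat.card_congr (Subgroup.subgroupOfEquivOfLe (hQ.trans hR)).toEquiv, hK, hcard,
      Nat.card_eq_fintype_card (α := K ⧸ Q')] at h1
    have hpos : 0 < Nat.card Q := Nat.card_pos
    exact Nat.eq_of_mul_eq_mul_right hpos (h1.symm.trans (by ring))
  have hact : ∀ (a k : K), MulAction.toPermHom K (K ⧸ Q') a (k : K ⧸ Q') = ((a * k : K) : K ⧸ Q') := fun a k => rfl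
  have hu : χ ⟨u, huK⟩ = -1 := by
    refine sign_free ?_ ?_ hcardq hm
    · rw [← map_mul]
      refine Equiv.ext fun x => ?_
      induction x using QuotientGroup.induction_on with
      | H k =>
        rw [hact, Equiv.Perm.one_apply, QuotientGroup.eq, hQ', Subgroup.mem_subgroupOf]
        show (u * u * (k : G))⁻¹ * (k : G) ∈ Q
        rw [← hcen k k.2, mul_inv_rev, inv_mul_cancel_right]
        exact inv_mem hu2
    · intro x
      induction x using QuotientGroup.induction_on with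
      | H k =>
        rw [hact]
        intro e
        rw [QuotientGroup.eq, hQ', Subgroup.mem_subgroupOf] at e
        have e' : (u * (k : G))⁻¹ * (k : G) ∈ Q := e
        refine hconj (k : G)⁻¹ (inv_mem k.2) ?_
        have := inv_mem e'
        rwa [mul_inv_rev, inv_inv, ← mul_assoc, ← inv_inv (k : G), inv_inv (k : G)⁻¹] at this
  have hmem : ∀ {x : G}, x ∈ χ.ker.map K.subtype ↔ ∃ hx : x ∈ K, χ ⟨x, hx⟩ = 1 := fun {x} =>
    ⟨fun ⟨y, hy, e⟩ => e ▸ ⟨y.2, MonoidHom.mem_ker.1 hy⟩, fun ⟨hx, e⟩ => ⟨_, MonoidHom.mem_ker.2 e, rfl⟩⟩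
  refine ⟨χ.ker.map K.subtype, Subgroup.map_subtype_le _, ?_, huK, ?_, fun x hx y hy => ?_⟩
  · rintro x hx _ ⟨y, hy, rfl⟩
    exact ⟨_, (inferInstance : χ.ker.Normal).conj_mem y hy ⟨x, hx⟩, rfl⟩
  · rw [hmem]
    rintro ⟨_, e⟩
    exact absurd (hu.symm.trans e) (by decide)
  · simp only [hmem, hx, hy, mul_mem hx hy, exists_true_left]
    rw [show (⟨x * y, mul_mem hx hy⟩ : K) = ⟨x, hx⟩ * ⟨y, hy⟩ from rfl, map_mul]
    rcases Int.units_eq_one_or (χ ⟨x, hx⟩) with e | e <;> rcases Int.units_eq_one_or (χ ⟨y, hy⟩) with e' | e' <;>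
      simp [e, e']

/-- the centraliser of `a` in the table -/
def PI : List ℕ := (List.range 192).filter fun i => com i aI

def T1 : List ℕ := [0, 21, 30, 39, 57, 60, 75, 90, 96, 117, 126, 135, 153, 156, 171, 186]
def T1' : List ℕ := [0, 18, 33, 39, 57, 63, 72, 90, 96, 114, 129, 135, 153, 159, 168, 186]
def T2 : List ℕ := [0, 21, 39, 57, 60, 75, 126, 186]
def T2' : List ℕ := [0, 39, 57, 90, 96, 135, 153, 186]
def V2I : List ℕ := [0, 39, 57, 186]

def Q1 : List ℕ := [0, 21, 33, 36, 54, 63, 75, 90, 96, 117, 129, 132, 150, 159, 171, 186]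
def Q2 : List ℕ := [0, 39, 57, 90, 96, 135, 153, 186]
def Q2' : List ℕ := [0, 18, 72, 90, 96, 114, 168, 186]
def Q3 : List ℕ := [0, 39, 57, 186]
def Q3' : List ℕ := [0, 57, 96, 153]

/-- elements forced into a subgroup of index two -/
def scOf (l : List ℕ) : List ℕ :=
  0 :: (l.map fun i => mA i i) ++ ((l.filter AI.contains).map fun i => mA (F1 (F3 (F3 i))) (iA i))

/-- the next subgroup is determined by one element -/
def stepOk (l T : List ℕ) (u v : ℕ) : Bool :=
  let D := l.filter fun i => (scOf l).any fun x => (scOf l).any fun y => mA x y == i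
  l.contains u && l.contains v && l.all fun i =>
    if T.contains i then D.contains i || D.contains (mA (iA v) i)
    else D.contains (mA (iA u) i) || D.contains (mA (iA (mA u v)) i)

/-- a subgroup list -/
def grpOk (l : List ℕ) : Bool :=
  l.contains 0 && decide l.Nodup && l.all fun i => PI.contains i && l.all fun j => l.contains (mA i (iA j))

theorem halve_ok : ([PI, T1, T1', T2, T2', V2I, Q1, Q2, Q2', Q3, Q3'].all grpOk) = true ∧
    (stepOk PI T1' 3 18 && stepOk PI T1 3 (mA 3 18) && stepOk T1 T2 30 21 && stepOk T1 T2' 30 (mA 30 21) &&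
      stepOk T1' T2' 33 0 && stepOk T2 V2I 60 0 && stepOk T2' V2I 90 0) = true ∧
    ([(PI, Q1, 3), (T1, Q2, 30), (T2, Q3, 60)].all fun p => !(p.2.1.contains p.2.2) &&
      ((cl p.2.2 == 2 || cl p.2.2 == 5) && (cl (mA p.2.2 aI) == 2 || cl (mA p.2.2 aI) == 5)) &&
      p.2.1.all fun q => p.1.contains q && (q == 0 || !(mA q q == 0) || q == aI ||
        [1, 3, 4, 6].contains (cl q) || [1, 3, 4, 6].contains (cl (mA q aI)))) = true ∧
    (mA 33 33 = aI ∧ aI ∈ Q2' ∧ (Q2'.all fun q => T1'.contains q && !(mA q q == aI)) = true ∧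
      aI ∉ Q3' ∧ (Q3'.all fun q => T2'.contains q) = true) ∧
    (PI.length = 32 ∧ T1.length = 16 ∧ T1'.length = 16 ∧ T2.length = 8 ∧ T2'.length = 8 ∧ V2I.length = 4) ∧
    (Q1.length = 16 ∧ Q2.length = 8 ∧ Q2'.length = 8 ∧ Q3.length = 4 ∧ Q3'.length = 4) ∧
    (F1 (F3 (F3 aI)) = aI ∧ (PI.all fun i => !(AI.contains i) || AI.contains i) = true) ∧
    ((List.range 192).all fun i => !(PI.all (com i)) || i == 0 || i == zI || cl i == 2) = true ∧
    PI.contains zI = true := by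
  decide +kernel

variable (h : St G)

/-- Two commuting rotations, `a` and `p` not fused with `z`. -/
structure Cfg (g1 g3 : G) : Prop where
  n1 : Nm h g1
  n3 : Nm h.swap g3
  comm : g1 * g3 = g3 * g1
  zb : h.Zc 3
  zB : h.Zc 4
  zq : h.Zc 6
  na : ¬ h.Zc 2
  np : ¬ h.Zc 5

/-- the centraliser of `a` -/
def XC : Subgroup G := Subgroup.centralizer ({h.e aI} : Set G)

theorem mem_XC {x : G} : x ∈ XC h ↔ x * h.e aI = h.e aI * x := Subgroup.mem_centralizer_singleton_iff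

theorem PI_spec {i : ℕ} (hi : i ∈ PI) : i < 192 ∧ com i aI = true := by
  simpa [PI] using hi

theorem grp_spec {l : List ℕ} (hl : l ∈ [PI, T1, T1', T2, T2', V2I, Q1, Q2, Q2', Q3, Q3']) :
    0 ∈ l ∧ l.Nodup ∧ (∀ i ∈ l, i ∈ PI) ∧ ∀ i ∈ l, ∀ j ∈ l, mA i (iA j) ∈ l := by
  have := halve_ok.1
  rw [List.all_eq_true] at this
  have := this l hl
  simp only [grpOk, Bool.and_eq_true, List.contains_eq_mem, decide_eq_true_eq, List.all_eq_true] at this
  exact ⟨this.1.1, this.1.2, fun i hi => (this.2 i hi).1, fun i hi j hj => (this.2 i hi).2 j hj⟩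

/-- the subgroup of a list -/
def lS (l : List ℕ) (hl : l ∈ [PI, T1, T1', T2, T2', V2I, Q1, Q2, Q2', Q3, Q3']) : Subgroup G :=
  listSub h l (fun i hi => (PI_spec ((grp_spec hl).2.2.1 i hi)).1) (grp_spec hl).1 (grp_spec hl).2.2.2

theorem card_lS {l : List ℕ} (hl : l ∈ [PI, T1, T1', T2, T2', V2I, Q1, Q2, Q2', Q3, Q3']) :
    Nat.card (lS h l hl) = l.length := card_listSub h (grp_spec hl).2.1

variable {h} {g1 g3 : G} (c : Cfg h g1 g3)
include c

theorem Cfg.act13 {i : ℕ} (hi : i ∈ AI) :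
    F1 (F3 (F3 i)) < 192 ∧ g1 * g3⁻¹ * h.e i * (g1 * g3⁻¹)⁻¹ = h.e (F1 (F3 (F3 i))) := by
  have h1 := (AI_spec hi).2.2.2.2.1
  have h2 := (AI_spec h1).2.2.2.2.1
  refine ⟨(AI_spec (AI_spec h2).2.2.2.1).1, ?_⟩
  have e : g3⁻¹ * h.e i * g3 = h.e (F3 (F3 i)) := by
    rw [← (act3 h c.n3 (AI_spec h1).1 (AI_spec h1).2.2.1).2, ← (act3 h c.n3 (AI_spec hi).1 (AI_spec hi).2.2.1).2,
      show g3 * (g3 * h.e i * g3⁻¹) * g3⁻¹ = g3 * g3 * h.e i * (g3 * g3)⁻¹ by group,
      ← inv_eq_of_mul_eq_one_left c.n3.rot.g3, inv_inv]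
  rw [← c.n1.act _ (AI_spec h2).1 (AI_spec h2).2.1, ← e]
  group

theorem Cfg.g13_cube : g1 * g3⁻¹ * (g1 * g3⁻¹) * (g1 * g3⁻¹) = 1 := by
  have hc : Commute g1 g3⁻¹ := (show Commute g1 g3 from c.comm).inv_right
  have := hc.mul_pow 3
  simp only [pow_succ, pow_zero, one_mul] at this
  rw [this, c.n1.rot.g3, show g3⁻¹ * g3⁻¹ * g3⁻¹ = (g3 * g3 * g3)⁻¹ by group, c.n3.rot.g3, inv_one, one_mul]

theorem Cfg.g13_XC : g1 * g3⁻¹ ∈ XC h := by
  rw [mem_XC, ← mul_inv_eq_iff_eq_mul]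
  rw [(c.act13 (i := aI) (by decide)).2, halve_ok.2.2.2.2.2.2.1.1]

theorem Cfg.class_not {i q : ℕ} (hi : i < 192) (hq : q < 192) (h1 : cl i = 2 ∨ cl i = 5)
    (h2 : cl q = 1 ∨ cl q = 3 ∨ cl q = 4 ∨ cl q = 6) : ¬ IsConj (h.e i) (h.e q) := fun e => by
  have hz : IsConj (h.e zI) (h.e q) := by
    rcases h2 with e | e | e | e
    · rw [(cl_spec hq).2.2.1 e]
    all_goals refine (h.zc_of hq (by omega) (by omega)).2 ?_; rw [e]
    exacts [c.zb, c.zB, c.zq]
  have := (h.zc_of hi (by omega) (by omega)).1 (hz.trans e.symm)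
  rcases h1 with e' | e' <;> rw [e'] at this
  exacts [c.na this, c.np this]

/-- the Sylow subgroup of the centraliser of `a` -/
theorem Cfg.sylow [Finite G] : ∃ m, Odd m ∧ Nat.card (XC h) = 32 * m := by
  haveI : Fact (Nat.Prime 2) := ⟨Nat.prime_two⟩
  obtain ⟨hg, -, -, -, ⟨h32, -⟩, -, -, hcen, hz⟩ := halve_ok
  have hl : PI ∈ [PI, T1, T1', T2, T2', V2I, Q1, Q2, Q2', Q3, Q3'] := by simp
  simp only [List.contains_eq_mem, decide_eq_true_eq] at hz
  set R := lS h PI hl with hR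
  set K := XC h with hK
  have hRK : R ≤ K := by
    rintro x ⟨i, hi, rfl⟩
    exact (mem_XC h).2 ((h.com_iff (PI_spec hi).1 (by decide)).2 (PI_spec hi).2)
  have hR32 : Nat.card R = 2 ^ 5 := by rw [hR, card_lS, h32]; rfl
  obtain ⟨P, hP⟩ := ((IsPGroup.of_card (n := 5) hR32).of_equiv
    (Subgroup.subgroupOfEquivOfLe hRK).symm).exists_le_sylow
  have hPR : (P : Subgroup K) = R.subgroupOf K := by
    refine le_antisymm ?_ hP
    by_contra hne
    have hlt : (R.subgroupOf K).subgroupOf (P : Subgroup K) < ⊤ := lt_top_iff_ne_top.2 fun e =>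
      hne (Subgroup.subgroupOf_eq_top.1 e)
    haveI : Group.IsNilpotent (P : Subgroup K) := P.2.isNilpotent
    obtain ⟨u, huN, huR⟩ := SetLike.exists_of_lt (Group.normalizerCondition_of_isNilpotent _ hlt)
    simp only [Subgroup.mem_subgroupOf] at huR
    have hnorm : ∀ {v : G}, v ∈ R → (u : G) * v * (u : G)⁻¹ ∈ R ∧ (u : G)⁻¹ * v * u ∈ R := fun {v} hv => by
      have hv' : (⟨v, hRK hv⟩ : K) ∈ (P : Subgroup K) := hP (Subgroup.mem_subgroupOf.2 hv)
      constructor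
      · have := (Subgroup.mem_normalizer_iff.1 huN ⟨_, hv'⟩).1 (by simp [Subgroup.mem_subgroupOf, hv])
        simpa [Subgroup.mem_subgroupOf] using this
      · have := (Subgroup.mem_normalizer_iff.1 (inv_mem huN) ⟨_, hv'⟩).1 (by simp [Subgroup.mem_subgroupOf, hv])
        simpa [Subgroup.mem_subgroupOf] using this
    obtain ⟨i, hi, hie⟩ := (hnorm ⟨zI, hz, rfl⟩).1
    have hil := (PI_spec hi).1
    have hall : PI.all (com i) = true := by
      rw [List.all_eq_true]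
      intro w hw
      obtain ⟨w', hw', hwe⟩ := (hnorm ⟨w, hw, rfl⟩).2
      rw [← h.com_iff hil (PI_spec hw).1, hie]
      have hcw := h.e_comm_z (PI_spec hw').1
      rw [hwe] at hcw
      calc (u : G) * h.e zI * (u : G)⁻¹ * h.e w = (u : G) * (h.e zI * ((u : G)⁻¹ * h.e w * u)) * (u : G)⁻¹ := by group
        _ = h.e w * ((u : G) * h.e zI * (u : G)⁻¹) := by rw [← hcw]; group
    simp only [List.all_eq_true, List.mem_range, Bool.or_eq_true, Bool.not_eq_true', beq_iff_eq] at hcen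
    rcases hcen i hil with ((e | e) | e) | e
    · rw [hall] at e; exact Bool.noConfusion e
    · rw [e, h.e_zero, eq_comm, conj_eq_one_iff] at hie
      exact h.z_ne hie
    · apply huR
      rw [e] at hie
      obtain ⟨j, hj, hje⟩ := h.mem_cent (mul_inv_eq_iff_eq_mul.1 hie.symm)
      refine ⟨j, List.mem_filter.2 ⟨List.mem_range.2 hj, (h.com_iff hj (by decide)).1 ?_⟩, hje⟩
      rw [hje]; exact (mem_XC h).1 (u : K).2
    · exact c.class_not hil zI_lt (Or.inl e) (Or.inl (by decide +kernel))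
        (isConj_iff.2 ⟨(u : G)⁻¹, by rw [hie]; group⟩)
  refine ⟨(P : Subgroup K).index, Nat.not_even_iff_odd.1 fun e => P.not_dvd_index e.two_dvd, ?_⟩
  have := (P : Subgroup K).card_mul_index
  rw [hPR, Nat.card_congr (Subgroup.subgroupOfEquivOfLe hRK).toEquiv, hR32] at this
  rw [hPR]; omega

omit c

variable (h) in
/-- A stage of the transfers. -/
structure Lvl (g1 g3 : G) (m : ℕ) (K : Subgroup G) (l : List ℕ) : Prop where
  le : K ≤ XC h
  mem : ∀ i ∈ PI, (h.e i ∈ K ↔ i ∈ l)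
  g13 : g1 * g3⁻¹ ∈ K
  three : ∀ x ∈ XC h, x * x * x = 1 → x ∈ K
  card : Nat.card K = l.length * m

include c

/-- A transfer step. -/
theorem Cfg.next [Finite G] {m : ℕ} {K M : Subgroup G} {l T : List ℕ} {u v : ℕ} (L : Lvl h g1 g3 m K l)
    (hl : ∀ i ∈ l, i ∈ PI) (hT : ∀ i ∈ T, i ∈ l) (hlen : l.length = 2 * T.length)
    (H : M12.Half K M (h.e u)) (hst : stepOk l T u v = true) (hv : h.e v ∈ M) : Lvl h g1 g3 m M T := by
  simp only [stepOk, Bool.and_eq_true, List.contains_eq_mem, decide_eq_true_eq, List.all_eq_true] at hst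
  obtain ⟨⟨hu, hvl⟩, hst⟩ := hst
  have hel : ∀ {i : ℕ}, i ∈ l → h.e i ∈ K := fun {i} hi => (L.mem i (hl i hi)).2 hi
  have hlt : ∀ {i : ℕ}, i ∈ l → i < 192 := fun {i} hi => (PI_spec (hl i hi)).1
  have hg : g1 * g3⁻¹ ∈ M := H.cube L.g13 c.g13_cube
  have hSC : ∀ x ∈ scOf l, x < 192 ∧ h.e x ∈ M := by
    intro x hx
    simp only [scOf, List.cons_append, List.mem_cons, List.mem_append, List.mem_map, List.mem_filter,
      List.contains_eq_mem, decide_eq_true_eq] at hx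
    rcases hx with rfl | ⟨i, hi, rfl⟩ | ⟨i, ⟨hi, hiA⟩, rfl⟩
    · exact ⟨by norm_num, h.e_zero ▸ one_mem _⟩
    · exact ⟨mA_lt (hlt hi) (hlt hi), by rw [h.mul _ (hlt hi) _ (hlt hi)]; exact H.mul_self (hel hi)⟩
    · obtain ⟨h1, h2⟩ := c.act13 hiA
      refine ⟨mA_lt h1 (iA_spec (hlt hi)).1, ?_⟩
      rw [h.mul _ h1 _ (iA_spec (hlt hi)).1, ← h2, h.e_inv (hlt hi),
        show g1 * g3⁻¹ * h.e i * (g1 * g3⁻¹)⁻¹ * (h.e i)⁻¹ =
          g1 * g3⁻¹ * (h.e i * (g1 * g3⁻¹)⁻¹ * (h.e i)⁻¹) by group]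
      exact mul_mem hg (H.norm _ (hel hi) _ (inv_mem hg))
  have hD : ∀ x ∈ l.filter (fun i => (scOf l).any fun x => (scOf l).any fun y => mA x y == i), h.e x ∈ M := by
    intro x hx
    simp only [List.mem_filter, List.any_eq_true, beq_iff_eq] at hx
    obtain ⟨-, a, ha, b, hb, rfl⟩ := hx
    rw [h.mul _ (hSC a ha).1 _ (hSC b hb).1]
    exact mul_mem (hSC a ha).2 (hSC b hb).2
  have hmem : ∀ i ∈ l, (h.e i ∈ M ↔ i ∈ T) := by
    intro i hi
    have h1 := hst i hi
    have key : ∀ {w : ℕ}, w ∈ l → mA (iA w) i ∈ l.filter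
        (fun i => (scOf l).any fun x => (scOf l).any fun y => mA x y == i) → (h.e i ∈ M ↔ h.e w ∈ M) := by
      intro w hw hd
      have e : h.e i = h.e w * h.e (mA (iA w) i) := by
        rw [h.mul _ (iA_spec (hlt hw)).1 _ (hlt hi), h.e_inv (hlt hw)]; group
      rw [e, H.mul_iff _ (hel hw) _ (hel (List.mem_filter.1 hd).1)]
      exact ⟨fun e' => e'.2 (hD _ hd), fun e' => iff_of_true e' (hD _ hd)⟩
    split_ifs at h1 with hiT
    · refine iff_of_true ?_ hiT
      simp only [Bool.or_eq_true, List.contains_eq_mem, decide_eq_true_eq] at h1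
      rcases h1 with h1 | h1
      exacts [hD _ h1, (key hvl h1).2 hv]
    · refine iff_of_false ?_ hiT
      simp only [Bool.or_eq_true, List.contains_eq_mem, decide_eq_true_eq] at h1
      rcases h1 with h1 | h1
      · exact fun e => H.u_not ((key hu h1).1 e)
      · intro e
        have hd := List.mem_filter.1 h1
        have huv := mA_lt (hlt hu) (hlt hvl)
        have e1 : h.e i = h.e u * h.e v * h.e (mA (iA (mA u v)) i) := by
          rw [h.mul _ (iA_spec huv).1 _ (hlt hi), h.e_inv huv, h.mul _ (hlt hu) _ (hlt hvl)]; group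
        rw [e1, H.mul_iff _ (mul_mem (hel hu) (hel hvl)) _ (hel hd.1), H.mul_iff _ (hel hu) _ (hel hvl)] at e
        exact H.u_not ((e.2 (hD _ h1)).2 hv)
  refine ⟨H.le.trans L.le, fun i hi => ?_, hg, fun x hx h3 => H.cube (L.three x hx h3) h3, ?_⟩
  · by_cases hil : i ∈ l
    · exact hmem i hil
    · exact iff_of_false (fun e => hil ((L.mem i hi).1 (H.le e))) (fun e => hil (hT i e))
  · have := H.card_top
    rw [L.card, hlen, mul_assoc] at this
    omega

/-- A transfer with an involution. -/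
theorem Cfg.half2 [Finite G] {m : ℕ} (hm : Odd m) {K : Subgroup G} {l Q : List ℕ} {u n : ℕ} (L : Lvl h g1 g3 m K l)
    (hl : l ∈ [PI, T1, T1', T2, T2', V2I, Q1, Q2, Q2', Q3, Q3'])
    (hQ : Q ∈ [PI, T1, T1', T2, T2', V2I, Q1, Q2, Q2', Q3, Q3']) (hn : l.length = 2 ^ n)
    (hlen : l.length = 2 * Q.length) (hu : u ∈ l) (hmem : (l, Q, u) ∈ [(PI, Q1, 3), (T1, Q2, 30), (T2, Q3, 60)]) :
    ∃ M, M12.Half K M (h.e u) := by
  have hq := halve_ok.2.2.1
  rw [List.all_eq_true] at hq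
  have hq := hq _ hmem
  simp only [Bool.and_eq_true, Bool.or_eq_true, Bool.not_eq_true', List.contains_eq_mem, decide_eq_false_iff_not,
    decide_eq_true_eq, List.all_eq_true, beq_iff_eq, beq_eq_false_iff_ne, List.mem_cons, List.not_mem_nil,
    or_false] at hq
  obtain ⟨⟨huQ, hu2, hua⟩, hq⟩ := hq
  have hul : u < 192 := (PI_spec ((grp_spec hl).2.2.1 u hu)).1
  have hR : lS h l hl ≤ K := by
    rintro x ⟨i, hi, rfl⟩
    exact (L.mem i ((grp_spec hl).2.2.1 i hi)).2 hi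
  obtain ⟨P, hP⟩ := M12.sylow_of hR (n := n) (by rw [card_lS, hn]) (by rw [card_lS]; exact L.card) hm
  have ho : orderOf (h.e u) = 2 := (h.sq_iff hul).2 (by omega)
  refine M12.exists_half P hP hR (Q := lS h Q hQ) ?_ (by rw [card_lS, card_lS, hlen]) ho ⟨u, hu, rfl⟩ ?_ ?_
  · rintro x ⟨i, hi, rfl⟩; exact ⟨i, (hq i hi).1, rfl⟩
  · rintro ⟨i, hi, e⟩
    exact huQ (h.inj i (PI_spec ((grp_spec hQ).2.2.1 i hi)).1 u hul e ▸ hi)
  · rintro k hk ⟨i, hi, e⟩
    have hiP := PI_spec ((grp_spec hQ).2.2.1 i hi)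
    have hconj : IsConj (h.e u) (h.e i) := isConj_iff.2 ⟨k, e.symm⟩
    have hka : k * h.e aI * k⁻¹ = h.e aI := mul_inv_eq_iff_eq_mul.2 ((mem_XC h).1 (L.le hk))
    rcases (hq i hi).2 with (((e' | e') | e') | e') | e'
    · rw [e', h.e_zero, eq_comm, conj_eq_one_iff] at e
      exact absurd e (orderOf_two_iff.1 ho).2
    · refine e' ((h.e_eq_one (mA_lt hiP.1 hiP.1)).1 ?_)
      rw [h.mul _ hiP.1 _ hiP.1, e]
      calc k * h.e u * k⁻¹ * (k * h.e u * k⁻¹) = k * (h.e u * h.e u) * k⁻¹ := by group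
        _ = 1 := by rw [(orderOf_two_iff.1 ho).1]; group
    · have hau : h.e u = h.e aI := by
        rw [e'] at e
        exact mul_left_cancel (mul_right_cancel (e.symm.trans hka.symm))
      have hu0 := h.inj _ hul _ (by decide) hau
      rw [hu0] at hua
      have : mA aI aI = 0 := by decide +kernel
      rw [this] at hua
      exact absurd hua (by decide +kernel)
    · exact c.class_not hul hiP.1 hu2 e' hconj
    · refine c.class_not (mA_lt hul (by decide : aI < 192)) (mA_lt hiP.1 (by decide)) hua e'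
        (isConj_iff.2 ⟨k, ?_⟩)
      rw [h.mul _ hul _ (by decide), h.mul _ hiP.1 _ (by decide), e, conj_mul', hka]

/-- The centraliser of `a` has a subgroup of index eight with the four-group as Sylow subgroup. -/
theorem Cfg.exists_K [Finite G] : ∃ (m : ℕ) (K : Subgroup G), Odd m ∧ Nat.card (XC h) = 32 * m ∧
    Lvl h g1 g3 m K V2I := by
  obtain ⟨m, hm, hX⟩ := c.sylow
  obtain ⟨-, hst, -, ⟨h33, haQ, hQ2, haQ3, hQ3⟩, ⟨l0, l1, l1', l2, l2', l3⟩, ⟨q1, q2, q2', q3, q3'⟩, -, -, -⟩ := halve_ok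
  simp only [Bool.and_eq_true] at hst
  obtain ⟨⟨⟨⟨⟨⟨s1', s1⟩, s2⟩, s2'⟩, s2''⟩, s3⟩, s3'⟩ := hst
  have hsub : ∀ l ∈ [PI, T1, T1', T2, T2', V2I, Q1, Q2, Q2', Q3, Q3'], ∀ i ∈ l, i ∈ PI := fun l hl =>
    (grp_spec hl).2.2.1
  have L0 : Lvl h g1 g3 m (XC h) PI := ⟨le_rfl, fun i hi => iff_of_true
    ((mem_XC h).2 ((h.com_iff (PI_spec hi).1 (by decide)).2 (PI_spec hi).2)) hi, c.g13_XC, fun x hx _ => hx,
    by rw [hX, l0]⟩
  obtain ⟨M1, H1⟩ := c.half2 hm L0 (l := PI) (Q := Q1) (u := 3) (n := 5) (by simp) (by simp) l0 (by rw [l0, q1])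
    (by decide +kernel) (by simp)
  have third : ∀ {K : Subgroup G}, Lvl h g1 g3 m K T2' → ∃ K', Lvl h g1 g3 m K' V2I := fun {K} L => by
    have hl : T2' ∈ [PI, T1, T1', T2, T2', V2I, Q1, Q2, Q2', Q3, Q3'] := by simp
    have hR : lS h T2' hl ≤ K := by
      rintro x ⟨i, hi, rfl⟩; exact (L.mem i (hsub _ hl i hi)).2 hi
    obtain ⟨P, hP⟩ := M12.sylow_of hR (n := 3) (by rw [card_lS, l2']; rfl) (by rw [card_lS]; exact L.card) hm
    simp only [List.all_eq_true, List.contains_eq_mem, decide_eq_true_eq] at hQ3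
    obtain ⟨M, H⟩ := M12.exists_half P hP hR (Q := lS h Q3' (by simp)) (u := h.e aI)
      (by rintro x ⟨i, hi, rfl⟩; exact ⟨i, hQ3 i hi, rfl⟩) (by rw [card_lS, card_lS, l2', q3'])
      ((h.sq_iff (by decide)).2 (by decide +kernel)) ⟨aI, by decide, rfl⟩
      (by
        rintro ⟨i, hi, e⟩
        exact haQ3 (h.inj i (PI_spec (hsub Q3' (by simp) i hi)).1 _ (by decide) e ▸ hi))
      (fun k hk => by
        rw [mul_inv_eq_iff_eq_mul.2 ((mem_XC h).1 (L.le hk))]
        rintro ⟨i, hi, e⟩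
        exact haQ3 (h.inj i (PI_spec (hsub Q3' (by simp) i hi)).1 _ (by decide) e ▸ hi))
    exact ⟨M, c.next L (hsub _ hl) (by decide) (by rw [l2', l3]) H s3' (h.e_zero ▸ one_mem _)⟩
  by_cases h18 : h.e 18 ∈ M1
  · have L1 := c.next L0 (fun i hi => hi) (hsub T1' (by simp)) (by rw [l0, l1']) H1 s1' h18
    have hl : T1' ∈ [PI, T1, T1', T2, T2', V2I, Q1, Q2, Q2', Q3, Q3'] := by simp
    simp only [List.all_eq_true, Bool.and_eq_true, List.contains_eq_mem, decide_eq_true_eq, Bool.not_eq_true',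
      beq_eq_false_iff_ne] at hQ2
    have e33 : h.e 33 * h.e 33 = h.e aI := by rw [← h.mul _ (by norm_num) _ (by norm_num), h33]
    obtain ⟨M2, H2⟩ := exists_half4 (Q := lS h Q2' (by simp)) (R := lS h T1' hl) (u := h.e 33) (m := m)
      (by rintro x ⟨i, hi, rfl⟩; exact ⟨i, (hQ2 i hi).1, rfl⟩)
      (by rintro x ⟨i, hi, rfl⟩; exact (L1.mem i (hsub _ hl i hi)).2 hi)
      (by rw [card_lS, card_lS, l1', q2']) (by rw [card_lS]; exact L1.card) hm
      ((L1.mem 33 (by decide +kernel)).2 (by decide)) (by rw [e33]; exact ⟨aI, haQ, rfl⟩)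
      (fun k hk => by rw [e33]; exact (mem_XC h).1 (L1.le hk))
      (fun k hk => by
        rintro ⟨i, hi, e⟩
        have hil := (PI_spec (hsub Q2' (by simp) i hi)).1
        refine (hQ2 i hi).2 (h.inj _ (mA_lt hil hil) _ (by decide) ?_)
        rw [h.mul _ hil _ hil, e, ← conj_mul', e33]
        exact mul_inv_eq_iff_eq_mul.2 ((mem_XC h).1 (L1.le hk)))
    obtain ⟨K, L3⟩ := third (c.next L1 (hsub _ hl) (by decide) (by rw [l1', l2']) H2 s2'' (h.e_zero ▸ one_mem _))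
    exact ⟨m, K, hm, hX, L3⟩
  · have hv : h.e (mA 3 18) ∈ M1 := by
      have h3 := (L0.mem 3 (by decide +kernel)).2 (by decide +kernel)
      have h18' := (L0.mem 18 (by decide +kernel)).2 (by decide +kernel)
      rw [h.mul 3 (by norm_num) 18 (by norm_num), H1.mul_iff _ h3 _ h18']
      exact iff_of_false H1.u_not h18
    have L1 := c.next L0 (fun i hi => hi) (hsub T1 (by simp)) (by rw [l0, l1]) H1 s1 hv
    obtain ⟨M2, H2⟩ := c.half2 hm L1 (l := T1) (Q := Q2) (u := 30) (n := 4) (by simp) (by simp) l1 (by rw [l1, q2])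
      (by decide) (by simp)
    by_cases h21 : h.e 21 ∈ M2
    · have L2 := c.next L1 (hsub T1 (by simp)) (by decide) (by rw [l1, l2]) H2 s2 h21
      obtain ⟨M3, H3⟩ := c.half2 hm L2 (l := T2) (Q := Q3) (u := 60) (n := 3) (by simp) (by simp) l2 (by rw [l2, q3])
        (by decide) (by simp)
      exact ⟨m, M3, hm, hX, c.next L2 (hsub T2 (by simp)) (by decide) (by rw [l2, l3]) H3 s3
        (h.e_zero ▸ one_mem _)⟩
    · have hv2 : h.e (mA 30 21) ∈ M2 := by
        have h30 := (L1.mem 30 (by decide +kernel)).2 (by decide)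
        have h21' := (L1.mem 21 (by decide +kernel)).2 (by decide)
        rw [h.mul 30 (by norm_num) 21 (by norm_num), H2.mul_iff _ h30 _ h21']
        exact iff_of_false H2.u_not h21
      obtain ⟨K, L3⟩ := third (c.next L1 (hsub T1 (by simp)) (by decide) (by rw [l1, l2']) H2 s2' hv2)
      exact ⟨m, K, hm, hX, L3⟩

end Cfsg.Agent.Invol.Cen192.AP
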