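import Cfsg.Agent.Lib.Invol.Cen192.AP.XK
import Cfsg.Agent.Lib.Invol.Cen192.AP.NineData

/-! A group with two commuting rotations is alternating of degree eight or nine. -/

set_option autoImplicit false
set_option linter.unusedSectionVars false
set_option linter.style.haveILetI false
set_option maxRecDepth 100000

namespace Cfsg.Agent.Invol.Cen192.AP

open Cfsg.Agent.Invol
open Cfsg.Agent.Spor.Coset (ev ev_append fld)
open Cfsg.Agent.Invol.HJ.Uniq (Tab)

/-- the image of a point -/
def dig9 (c : ℕ) (i : Fin 9) : Fin 9 := ⟨fld 4 c i.val % 9, Nat.mod_lt _ (by norm_num)⟩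

/-- a preimage of a point -/
def idig9 (c : ℕ) (j : Fin 9) : Fin 9 := ((List.finRange 9).find? fun i => dig9 c i == j).getD 0

/-- the code is a permutation -/
def okCode9 (c : ℕ) : Prop := (∀ i, idig9 c (dig9 c i) = i) ∧ ∀ i, dig9 c (idig9 c i) = i

instance (c : ℕ) : Decidable (okCode9 c) := by unfold okCode9; infer_instance

/-- the permutation of a code -/
def perm9 (c : ℕ) : Equiv.Perm (Fin 9) := if hc : okCode9 c then ⟨dig9 c, idig9 c, hc.1, hc.2⟩ else 1

/-- the even permutation of a code -/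
def alt9 (c : ℕ) : alternatingGroup (Fin 9) :=
  if hs : Equiv.Perm.sign (perm9 c) = 1 then ⟨perm9 c, Equiv.Perm.mem_alternatingGroup.2 hs⟩ else 1

/-- a code on eight points read on nine -/
def upCode (c : ℕ) : ℕ := ((List.range 8).map fun x => fld 3 c x * 16 ^ x).sum + 8 * 16 ^ 8

/-- the table in the alternating group -/
def p9 (i : ℕ) : alternatingGroup (Fin 9) := alt9 (upCode (pCode i))

/-- the generators of the alternating group -/
def m9 (k : ℕ) : alternatingGroup (Fin 9) := alt9 (code9.getD k 0)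

/-- an extension of a map to a further point -/
def up9 (f : Fin 8 → Fin 8) (x : Fin 9) : Fin 9 :=
  if hx : x.val < 8 then (f ⟨x.val, hx⟩).castSucc else x

/-- a word on the points -/
def wdig9 : List ℕ → Fin 9 → Fin 9
  | [], i => i
  | s :: w, i => dig9 (code9.getD s 0) (wdig9 w i)

/-- free reduction -/
def red : List ℕ → List ℕ
  | [] => []
  | s :: w =>
    match red w with
    | [] => [s]
    | t :: r => if t == giv s then r else s :: t :: r

/-- the inverse word -/
def iw (w : List ℕ) : List ℕ := w.reverse.map giv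

/-- a word in the generators of the centraliser of `a` -/
def expand (A : List ℕ) : List ℕ := (A.map fun k => abW.getD k []).flatten

/-- the image of a token -/
def tokF (k : ℕ) : Fin 5 → Fin 5 :=
  if k < 4 then thP (cgI.getD k 0)
  else if k = 4 then th13 else if k = 5 then th13.symm else if k = 6 then thq else thq.symm

/-- the table part of a token -/
def tokP (k : ℕ) : ℕ := if k < 4 then cgI.getD k 0 else 0

/-- the image of a word -/
def tokW : List ℕ → Fin 5 → Fin 5
  | [], p => p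
  | k :: A, p => tokF k (tokW A p)

/-- the table part of a word -/
def tokA : List ℕ → ℕ
  | [] => 0
  | k :: A => mA (tokP k) (tokA A)

theorem code9_ok : ((List.range 192).all fun i => decide (okCode9 (upCode (pCode i)) ∧
      Equiv.Perm.sign (perm9 (upCode (pCode i))) = 1 ∧ ∀ x, dig9 (upCode (pCode i)) x = up9 (dig (pCode i)) x)) = true ∧
    ((List.range 14).all fun k => decide (okCode9 (code9.getD k 0) ∧ Equiv.Perm.sign (perm9 (code9.getD k 0)) = 1)) = true ∧
    ((List.range 8).all fun k => code9.getD k 0 == upCode (pCode (gi k))) = true ∧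
    ((List.finRange 9).all fun x => rels9.all fun w => w.all (fun s => decide (s < 14)) && wdig9 w x == x) = true ∧
    ((List.range 14).all fun s => (List.finRange 9).all fun x => wdig9 [s, giv s] x == x) = true := by
  decide +kernel

theorem cyc9_ok : ((List.finRange 9).all fun a => (List.finRange 9).all fun b => (List.finRange 9).all fun c =>
    a == b || a == c || b == c || cyc9.any fun w => w.all (fun s => decide (s < 14)) &&
      (List.finRange 9).all fun x => wdig9 w x == Equiv.swap a b (Equiv.swap b c x)) = true := by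
  decide +kernel

theorem nine_ok : (abW.length = 8 ∧ cgI.length = 4) ∧
    ((List.range 4).all fun k => (abW.getD k []).all (fun s => decide (s < 8)) &&
      evA (abW.getD k []) == cgI.getD k 0 && PI.contains (cgI.getD k 0)) = true ∧
    (abW.getD 4 [] = [8, 11] ∧ abW.getD 5 [] = [10, 9] ∧ abW.getD 6 [] = [12] ∧ abW.getD 7 [] = [13]) ∧
    (rels9.all fun w => (eT.rels.contains w && w.all fun s => decide (s < 12)) || [[12, 13], [13, 12]].contains w ||
      w == tW ++ 12 :: (iw tW ++ [13]) || rel9.any fun p => w == red (expand p.1 ++ iw (expand p.2))) = true ∧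
    (rel9.all fun p => p.1.all (fun k => decide (k < 8)) && p.2.all (fun k => decide (k < 8)) &&
      ((List.finRange 5).all fun i => tokW p.1 i == tokW p.2 i) &&
      PI.contains (tokA p.1) && PI.contains (tokA p.2) && V2I.contains (mA (tokA p.1) (iA (tokA p.2)))) = true ∧
    (tW.all (fun s => decide (s < 8)) = true ∧ evA tW = 1 ∧ cj 2 aI ∈ PI ∧ cj (iA 2) 1 ∈ PI ∧
      (∀ i : Fin 5, thP (cj 2 aI) (thq i) = thq (thP (cj 2 aI) i)) ∧
      (∀ i : Fin 5, thP (cj (iA 2) 1) i = i) ∧ thq * thq * thq = 1 ∧ 0 ∈ PI) := by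
  decide +kernel

theorem nT_check : nT.check = true := by decide +kernel

theorem nT_data : nT.n = 14 ∧ nT.N = 945 ∧ nT.sub = (List.range 8).map fun k => [k] := ⟨rfl, rfl, by decide +kernel⟩

theorem perm9_apply {c : ℕ} (hc : okCode9 c) (i : Fin 9) : perm9 c i = dig9 c i := by
  rw [perm9, dif_pos hc]; rfl

theorem alt9_apply {c : ℕ} (h1 : okCode9 c) (h2 : Equiv.Perm.sign (perm9 c) = 1) (x : Fin 9) :
    (alt9 c : Equiv.Perm (Fin 9)) x = dig9 c x := by
  rw [alt9, dif_pos h2]; exact perm9_apply h1 x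

theorem p9_eq (i : ℕ) : p9 i = alt9 (upCode (pCode i)) := by rw [p9]

theorem p9_dig {i : ℕ} (h1 : okCode9 (upCode (pCode i))) (h2 : Equiv.Perm.sign (perm9 (upCode (pCode i))) = 1)
    (x : Fin 9) : (p9 i : Equiv.Perm (Fin 9)) x = dig9 (upCode (pCode i)) x := by
  rw [p9_eq]; exact alt9_apply h1 h2 x

theorem code9_row {i : ℕ} (hi : i < 192) : okCode9 (upCode (pCode i)) ∧
    Equiv.Perm.sign (perm9 (upCode (pCode i))) = 1 ∧ ∀ x, dig9 (upCode (pCode i)) x = up9 (dig (pCode i)) x :=
  of_decide_eq_true (List.all_eq_true.1 code9_ok.1 i (List.mem_range.2 hi))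

theorem p9_spec {i : ℕ} (hi : i < 192) (x : Fin 9) : (p9 i : Equiv.Perm (Fin 9)) x = up9 (dig (pCode i)) x :=
  (p9_dig (code9_row hi).1 (code9_row hi).2.1 x).trans ((code9_row hi).2.2 x)

theorem p9_mul {i j : ℕ} (hi : i < 192) (hj : j < 192) : p9 (mA i j) = p9 i * p9 j := by
  have := code_ok.2.2.1
  simp only [List.all_eq_true, List.mem_range, beq_iff_eq] at this
  refine Subtype.ext (Equiv.ext fun x => ?_)
  rw [p9_spec (mA_lt hi hj), Subgroup.coe_mul, Equiv.Perm.mul_apply, p9_spec hj, p9_spec hi]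
  by_cases hx : x.val < 8
  · simp only [up9, dif_pos hx, Fin.val_castSucc, Fin.is_lt, dite_true]
    rw [this i hi j hj _ (List.mem_finRange _)]
  · simp only [up9, dif_neg hx]

theorem m9_spec {k : ℕ} (hk : k < 14) (x : Fin 9) : (m9 k : Equiv.Perm (Fin 9)) x = dig9 (code9.getD k 0) x := by
  have := code9_ok.2.1
  simp only [List.all_eq_true, List.mem_range, decide_eq_true_eq] at this
  obtain ⟨h1, h2⟩ := this k hk
  exact alt9_apply h1 h2 x

theorem ev_m9 : ∀ {w : List ℕ}, (∀ s ∈ w, s < 14) → ∀ x,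
    ((ev m9 w : alternatingGroup (Fin 9)) : Equiv.Perm (Fin 9)) x = wdig9 w x := by
  intro w
  induction w with
  | nil => intro _ x; simp [ev, wdig9]
  | cons s w ih =>
    intro hw x
    rw [ev, Subgroup.coe_mul, Equiv.Perm.mul_apply, ih fun t ht => hw t (List.mem_cons_of_mem _ ht),
      m9_spec (hw s List.mem_cons_self), wdig9]

theorem m9_table {k : ℕ} (hk : k < 8) : m9 k = p9 (gi k) := by
  have := code9_ok.2.2.1
  simp only [List.all_eq_true, List.mem_range, beq_iff_eq] at this
  rw [m9, this k hk]; rfl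

theorem gen_m9 : Subgroup.closure {m | ∃ s < 14, m9 s = m} = ⊤ := by
  rw [eq_top_iff, ← alternatingGroup.closure_isThreeCycles_eq_top, Subgroup.closure_le]
  intro σ hσ
  have h3 : Equiv.Perm.IsThreeCycle (σ : Equiv.Perm (Fin 9)) := hσ
  obtain ⟨a, ha⟩ := h3.isCycle.nonempty_support
  have hnd := h3.nodup_iff_mem_support.mpr ha
  simp only [List.nodup_cons, List.mem_cons, List.not_mem_nil, or_false, not_or, List.nodup_nil, and_true,
    not_false_eq_true] at hnd
  have hc := cyc9_ok
  simp only [List.all_eq_true, List.any_eq_true, Bool.or_eq_true, Bool.and_eq_true, beq_iff_eq,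
    decide_eq_true_eq] at hc
  rcases hc a (List.mem_finRange _) ((σ : Equiv.Perm (Fin 9)) a) (List.mem_finRange _)
    ((σ : Equiv.Perm (Fin 9)) ((σ : Equiv.Perm (Fin 9)) a)) (List.mem_finRange _) with ((e | e) | e) | ⟨w, -, hr, he⟩
  · exact absurd e hnd.1.1
  · exact absurd e hnd.1.2
  · exact absurd e hnd.2
  have hmem : ev m9 w ∈ Subgroup.closure {m | ∃ s < 14, m9 s = m} := by
    clear he
    induction w with
    | nil => simp [ev]
    | cons s w ih =>
      rw [ev]
      exact mul_mem (Subgroup.subset_closure ⟨s, hr s List.mem_cons_self, rfl⟩)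
        (ih fun t ht => hr t (List.mem_cons_of_mem _ ht))
  have : σ = ev m9 w := by
    refine Subtype.ext (Equiv.ext fun x => ?_)
    rw [ev_m9 hr, he x (List.mem_finRange x)]
    nth_rewrite 1 [h3.eq_swap_mul_swap_iff_mem_support.mpr ha]
    rfl
  rw [this]
  exact hmem

theorem giv_invol : ∀ s < 14, giv (giv s) = s ∧ giv s < 14 := by decide

variable {G : Type*} [Group G]

theorem ev_red (f : ℕ → G) (hinv : ∀ s < 14, f s * f (giv s) = 1) :
    ∀ {w : List ℕ}, (∀ s ∈ w, s < 14) → ev f (red w) = ev f w := by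
  intro w
  induction w with
  | nil => intro _; rfl
  | cons s w ih =>
    intro hw
    have hs := hw s List.mem_cons_self
    have h := ih fun t ht => hw t (List.mem_cons_of_mem _ ht)
    rw [ev, ← h, red]
    cases hred : red w with
    | nil => simp [ev]
    | cons t r =>
      by_cases ht : t = giv s
      · simp only [ht, beq_self_eq_true, if_true, ev]
        rw [← mul_assoc, hinv s hs, one_mul]
      · simp [ht, ev]

theorem ev_iw (f : ℕ → G) (hinv : ∀ s < 14, f s * f (giv s) = 1) :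
    ∀ {w : List ℕ}, (∀ s ∈ w, s < 14) → ev f (iw w) = (ev f w)⁻¹ := by
  intro w
  induction w with
  | nil => intro _; simp [iw, ev]
  | cons s w ih =>
    intro hw
    have h : ev f (iw w) = (ev f w)⁻¹ := ih fun t ht => hw t (List.mem_cons_of_mem _ ht)
    simp only [iw, List.reverse_cons, List.map_append, List.map_cons, List.map_nil] at h ⊢
    rw [ev_append, h, ev, ev, ev, mul_one, mul_inv_rev,
      inv_eq_of_mul_eq_one_right (hinv s (hw s List.mem_cons_self))]

variable (h : St G)

/-- all fourteen generators -/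
def gens9 (g1 g3 q : G) (k : ℕ) : G := if k < 12 then gens h g1 g3 k else if k = 12 then q else q⁻¹

theorem gens9_inv (g1 g3 q : G) : ∀ s < 14, gens9 h g1 g3 q s * gens9 h g1 g3 q (giv s) = 1 := by
  intro s hs
  rcases lt_or_ge s 12 with h12 | h12
  · have : giv s < 12 := by interval_cases s <;> decide
    rw [gens9, if_pos h12, gens9, if_pos this]
    exact gens_inv h g1 g3 h12
  · interval_cases s <;> simp [gens9, giv]

theorem ev_gens9 (g1 g3 q : G) : ∀ {w : List ℕ}, (∀ s ∈ w, s < 12) →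
    ev (gens9 h g1 g3 q) w = ev (gens h g1 g3) w := by
  intro w
  induction w with
  | nil => intro _; rfl
  | cons s w ih =>
    intro hw
    rw [ev, ev, ih fun t ht => hw t (List.mem_cons_of_mem _ ht), gens9, if_pos (hw s List.mem_cons_self)]

variable {h} {g1 g3 : G}

/-- The group is alternating of degree eight or nine. -/
theorem Cfg.final [Finite G] (c : Cfg h g1 g3) :
    Nonempty (G ≃* alternatingGroup (Fin 8)) ∨ Nonempty (G ≃* alternatingGroup (Fin 9)) := by
  classical
  obtain ⟨φ, hφi, hφ, hφL⟩ := exists_alt8 h c.n1 c.n3 c.comm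
  obtain ⟨m, K, hm, hX, L⟩ := c.exists_K
  have B : Big c m K := ⟨hm, hX, L⟩
  have h8 : φ (m8 8) = g1 := by rw [hφ 8 (by norm_num)]; simp [gens]
  have h10 : φ (m8 10) = g3 := by rw [hφ 10 (by norm_num)]; simp [gens]
  rcases B.cases with h12 | h60
  · left
    have htop : φ.range = ⊤ := c.top_of_XC (fun i hi => ⟨_, hφL i hi⟩) ⟨_, h8⟩ ⟨_, h10⟩
      (B.small h12 (fun i hi => ⟨_, hφL i hi⟩) ⟨_, h8⟩ ⟨_, h10⟩)
    exact ⟨(MulEquiv.ofBijective φ ⟨hφi, MonoidHom.range_eq_top.1 htop⟩).symm⟩
  right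
  obtain ⟨θ, hker, hθP, hθg, hsur⟩ := B.exists_theta h60 hφ hφL
  obtain ⟨-, -, -, -, ⟨-, hsq, -, hq4⟩, -⟩ := xk_ok
  obtain ⟨qX, hqK, hθq⟩ := hsur thq hsq
  set q : G := (qX : G) with hq
  obtain ⟨⟨hab, hcgl⟩, hcg, ⟨a4, a5, a6, a7⟩, hrels, hrel9, ⟨htw, htv, ha2, hv2, hθa, hθv, hthq3, h0P⟩⟩ := nine_ok
  simp only [List.all_eq_true, List.any_eq_true, List.mem_range, Bool.and_eq_true, Bool.or_eq_true, beq_iff_eq,
    List.contains_eq_mem, decide_eq_true_eq, List.mem_finRange, true_implies] at hcg hrels hrel9 htw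
  have hPX : ∀ {i : ℕ}, i ∈ PI → h.e i ∈ XC h := fun hi => (hθP _ hi).1
  -- commuting
  have hcomm : ∀ (x k : XC h), (k : G) ∈ K → θ x * θ k = θ k * θ x → (x : G) * k = k * x := by
    intro x k hk e
    have := hker (x * k * x⁻¹ * k⁻¹) (mul_mem (B.norm h60 x.2 hk) (inv_mem hk)) (by
      rw [map_mul, map_mul, map_mul, map_inv, map_inv, e, mul_inv_cancel_right, mul_inv_cancel])
    have h1 : (x : G) * k * (x : G)⁻¹ * (k : G)⁻¹ = 1 := congrArg Subtype.val this
    rwa [mul_inv_eq_one, mul_inv_eq_iff_eq_mul] at h1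
  have hq3 : q * q * q = 1 := congrArg Subtype.val (hker (qX * qX * qX) (mul_mem (mul_mem hqK hqK) hqK)
    (by rw [map_mul, map_mul, hθq, hthq3]))
  have h2 : (2 : ℕ) < 192 := by norm_num
  have hqa : q * h.e (cj 2 aI) = h.e (cj 2 aI) * q := by
    obtain ⟨hx, he⟩ := hθP _ ha2
    refine (hcomm ⟨_, hx⟩ qX hqK (Equiv.ext fun i => ?_)).symm
    simp only [Equiv.Perm.mul_apply, he, hθq]
    exact hθa i
  have hqt : q * h.e 1 = h.e 1 * q := by
    set q' := (h.e 2)⁻¹ * q * h.e 2 with hq'
    have hq'X : q' ∈ XC h := (mem_XC h).2 (by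
      rw [← h.conj_e h2 (by decide)] at hqa
      calc (h.e 2)⁻¹ * q * h.e 2 * h.e aI = (h.e 2)⁻¹ * (q * (h.e 2 * h.e aI * (h.e 2)⁻¹)) * h.e 2 := by group
        _ = h.e aI * ((h.e 2)⁻¹ * q * h.e 2) := by rw [hqa]; group)
    have hq'K : q' ∈ K := L.three _ hq'X (by
      calc (h.e 2)⁻¹ * q * h.e 2 * ((h.e 2)⁻¹ * q * h.e 2) * ((h.e 2)⁻¹ * q * h.e 2)
          = (h.e 2)⁻¹ * (q * q * q) * h.e 2 := by group
        _ = 1 := by rw [hq3]; group)
    obtain ⟨hx, he⟩ := hθP _ hv2
    have h1 := hcomm ⟨_, hx⟩ ⟨q', hq'X⟩ hq'K (by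
      rw [show θ ⟨_, hx⟩ = 1 from Equiv.ext fun i => (he i).trans (hθv i), one_mul, mul_one])
    simp only at h1
    rw [← h.conj_e (iA_spec h2).1 (by norm_num), h.e_inv h2, inv_inv, hq'] at h1
    calc q * h.e 1 = h.e 2 * (((h.e 2)⁻¹ * q * h.e 2) * ((h.e 2)⁻¹ * h.e 1 * h.e 2)) * (h.e 2)⁻¹ := by group
      _ = h.e 1 * q := by rw [← h1]; group
  have hi := gens9_inv h g1 g3 q
  -- tokens
  have htok : ∀ A : List ℕ, (∀ k ∈ A, k < 8) → tokA A < 192 ∧ (∀ s ∈ expand A, s < 14) ∧
      ∃ y : XC h, (y : G) = ev (gens9 h g1 g3 q) (expand A) ∧ (∀ i, θ y i = tokW A i) ∧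
        (y : G) * (h.e (tokA A))⁻¹ ∈ K := by
    intro A
    induction A with
    | nil =>
      intro _
      exact ⟨by norm_num [tokA], by simp [expand], 1, by simp [expand, ev], fun i => by simp [tokW],
        by simp [tokA, h.e_zero, one_mem]⟩
    | cons k A ih =>
      intro hA
      obtain ⟨hl, hlt, y, hy, hyθ, hyK⟩ := ih fun t ht => hA t (List.mem_cons_of_mem _ ht)
      obtain ⟨hpl, hwl, t, ht, htθ, htK, htX⟩ : tokP k < 192 ∧ (∀ s ∈ abW.getD k [], s < 14) ∧ ∃ t : XC h,
          (t : G) = ev (gens9 h g1 g3 q) (abW.getD k []) ∧ (∀ i, θ t i = tokF k i) ∧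
            (t : G) * (h.e (tokP k))⁻¹ ∈ K ∧ h.e (tokP k) ∈ XC h := by
        have hk := hA k List.mem_cons_self
        rcases lt_or_ge k 4 with h4 | h4
        · obtain ⟨⟨hw, he⟩, hP⟩ := hcg k h4
          obtain ⟨hx, hθx⟩ := hθP _ hP
          refine ⟨by simpa [tokP, h4] using (PI_spec hP).1, fun s hs => (hw s hs).trans (by norm_num),
            ⟨_, hx⟩, ?_, fun i => by rw [hθx, tokF, if_pos h4], ?_, by simpa [tokP, h4] using hx⟩
          · rw [ev_gens9 h g1 g3 q fun s hs => (hw s hs).trans (by norm_num), (ev_table h g1 g3 hw).2, he]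
          · simp [tokP, h4, one_mem]
        · have hP0 : tokP k = 0 := by rw [tokP, if_neg (by omega)]
          rw [hP0, h.e_zero, inv_one]
          refine ⟨by norm_num, ?_, ?_⟩
          · interval_cases k <;> simp only [a4, a5, a6, a7] <;> decide
          have hg := c.g13_XC
          interval_cases k
          · exact ⟨⟨_, hg⟩, by rw [a4]; simp [ev, gens9, gens], fun i => by rw [hθg]; simp [tokF],
              by simpa using L.g13, one_mem _⟩
          · refine ⟨⟨_, hg⟩⁻¹, ?_, fun i => by rw [map_inv, hθg]; simp [tokF], by simpa using inv_mem L.g13,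
              one_mem _⟩
            rw [a5]; simp [ev, gens9, gens]
          · exact ⟨qX, by rw [a6]; simp [ev, gens9, hq], fun i => by rw [hθq]; simp [tokF], by simpa using hqK,
              one_mem _⟩
          · exact ⟨qX⁻¹, by rw [a7]; simp [ev, gens9, hq], fun i => by rw [map_inv, hθq]; simp [tokF],
              by simpa using hqK, one_mem _⟩
      refine ⟨mA_lt hpl hl, ?_, t * y, ?_, fun i => by rw [map_mul, Equiv.Perm.mul_apply, hyθ, htθ, tokW], ?_⟩
      · intro s hs
        simp only [expand, List.map_cons, List.flatten_cons, List.mem_append] at hs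
        exact hs.elim (hwl s) (hlt s)
      · simp only [expand, List.map_cons, List.flatten_cons] at hy ⊢
        rw [ev_append, Subgroup.coe_mul, ht, hy]
      · rw [tokA, h.mul _ hpl _ hl, Subgroup.coe_mul,
          show (t : G) * y * (h.e (tokP k) * h.e (tokA A))⁻¹ = (t : G) * (h.e (tokP k))⁻¹ *
            (h.e (tokP k) * ((y : G) * (h.e (tokA A))⁻¹) * (h.e (tokP k))⁻¹) by group]
        exact mul_mem htK (B.norm h60 htX hyK)
  have hrel : ∀ w ∈ rels9, ev (gens9 h g1 g3 q) w = 1 := by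
    intro w hw
    rcases hrels w hw with ((⟨e, e'⟩ | e) | e) | ⟨p, hp, e⟩
    · rw [ev_gens9 h g1 g3 q e']; exact pair_rels h c.n1 c.n3 c.comm w e
    · simp only [List.mem_cons, List.not_mem_nil, or_false] at e
      rcases e with e | e <;> rw [e] <;> simp [ev, gens9]
    · rw [e, ev_append, ev, ev_append, ev_iw _ hi fun s hs => (htw s hs).trans (by norm_num),
        ev_gens9 h g1 g3 q fun s hs => (htw s hs).trans (by norm_num), (ev_table h g1 g3 htw).2, htv]
      show h.e 1 * (q * ((h.e 1)⁻¹ * (q⁻¹ * 1))) = 1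
      rw [← mul_assoc (h.e 1), ← hqt]; group
    · obtain ⟨⟨⟨⟨⟨p1, p2⟩, pθ⟩, pP1⟩, pP2⟩, pV⟩ := hrel9 p hp
      obtain ⟨l1, w1, y, hy, hyθ, hyK⟩ := htok p.1 p1
      obtain ⟨l2, w2, z, hz, hzθ, hzK⟩ := htok p.2 p2
      rw [e, ev_red _ hi (fun s hs => ?_), ev_append, ev_iw _ hi w2, ← hy, ← hz]
      · have hmem : (y : G) * (z : G)⁻¹ ∈ K := by
          have hv : h.e (tokA p.1) * (h.e (tokA p.2))⁻¹ ∈ K := by
            rw [← h.e_inv l2, ← h.mul _ l1 _ (iA_spec l2).1]; exact B.vK pV
          have := mul_mem (mul_mem hyK hv) (inv_mem hzK)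
          rwa [show (y : G) * (h.e (tokA p.1))⁻¹ * (h.e (tokA p.1) * (h.e (tokA p.2))⁻¹) *
            ((z : G) * (h.e (tokA p.2))⁻¹)⁻¹ = (y : G) * (z : G)⁻¹ by group] at this
        have e1 : θ y = θ z := Equiv.ext fun i => by rw [hyθ, hzθ, pθ i]
        exact congrArg Subtype.val (hker (y * z⁻¹) hmem (by rw [map_mul, map_inv, e1, mul_inv_cancel]))
      · rcases List.mem_append.1 hs with hs | hs
        · exact w1 s hs
        · simp only [iw, List.mem_map, List.mem_reverse] at hs
          obtain ⟨u, hu, rfl⟩ := hs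
          exact (giv_invol u (w2 u hu)).2
  -- the isomorphism
  let HL : Subgroup (G × alternatingGroup (Fin 9)) := Subgroup.ofDiv {x | ∃ i < 192, x = (h.e i, p9 i)}
    ⟨_, 0, by norm_num, rfl⟩ (by
      rintro _ ⟨i, hi, rfl⟩ _ ⟨j, hj, rfl⟩
      obtain ⟨hij, -⟩ := iA_spec hj
      have hl := mA_lt hi hij
      have e : mA (mA i (iA j)) j = i := h.inj _ (mA_lt hl hj) _ hi (by
        rw [h.mul _ hl _ hj, h.mul i hi _ hij, h.e_inv hj]; group)
      refine ⟨mA i (iA j), hl, Prod.ext ?_ ?_⟩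
      · show h.e i * (h.e j)⁻¹ = _
        rw [h.mul i hi _ hij, h.e_inv hj]
      · show p9 i * (p9 j)⁻¹ = _
        nth_rewrite 1 [← e]
        rw [p9_mul hl hj, mul_inv_cancel_right])
  have hHL : Nat.card HL ≤ 192 := by
    refine le_trans (Nat.card_le_card_of_surjective
      (fun i : Fin 192 => (⟨(h.e i, p9 i), i, i.2, rfl⟩ : HL)) ?_) (by simp)
    rintro ⟨x, i, hi, rfl⟩
    exact ⟨⟨i, hi⟩, rfl⟩
  obtain ⟨ψ, hψ, hψL⟩ := exists_hom nT (nT.checked nT_check) (gens9 h g1 g3 q) m9
    (fun s hs => ⟨hi s (nT_data.1 ▸ hs), by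
      have := code9_ok.2.2.2.2
      simp only [List.all_eq_true, List.mem_range, beq_iff_eq] at this
      have hs' : s < 14 := nT_data.1 ▸ hs
      refine Subtype.ext (Equiv.ext fun x => ?_)
      have h1 := ev_m9 (w := [s, giv s]) (by simp [hs', (giv_invol s hs').2]) x
      rw [this s hs' x (List.mem_finRange x)] at h1
      simpa [ev, show nT.iv s = giv s from rfl] using h1⟩)
    (fun w hw => ⟨hrel w hw, by
      have := code9_ok.2.2.2.1
      simp only [List.all_eq_true, Bool.and_eq_true, decide_eq_true_eq, beq_iff_eq] at this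
      refine Subtype.ext (Equiv.ext fun x => ?_)
      obtain ⟨h1, h2⟩ := this x (List.mem_finRange x) w hw
      rw [ev_m9 h1, h2]; rfl⟩) HL
    (fun w hw => by
      rw [nT_data.2.2, List.mem_map] at hw
      obtain ⟨k, hk, rfl⟩ := hw
      rw [List.mem_range] at hk
      exact ⟨gi k, gi_lt hk, by simp [ev, m9_table hk, gens9, gens, hk, show k < 12 by omega]⟩)
    (by rw [nT_data.1]; exact gen_m9)
    (by
      rw [nT_data.2.1]
      have h9 : Nat.card (alternatingGroup (Fin 9)) = 181440 := by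
        rw [nat_card_alternatingGroup, Nat.card_eq_fintype_card, Fintype.card_fin]; rfl
      omega)
  rw [nT_data.1] at hψ
  have hL : ∀ i < 192, ψ (p9 i) = h.e i := fun i hi => hψL (h.e i, p9 i) ⟨i, hi, rfl⟩
  haveI : IsSimpleGroup (alternatingGroup (Fin 9)) := alternatingGroup.isSimpleGroup (by simp)
  have hinj : Function.Injective ψ := by
    refine (MonoidHom.ker_eq_bot_iff ψ).1 ((ψ.normal_ker.eq_bot_or_eq_top).resolve_right fun e => ?_)
    have h1 : ψ (p9 zI) = 1 := MonoidHom.mem_ker.1 (e ▸ Subgroup.mem_top _)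
    rw [hL zI zI_lt] at h1
    exact h.z_ne h1
  have hr8 : g1 ∈ ψ.range := ⟨m9 8, by rw [hψ 8 (by norm_num)]; simp [gens9, gens]⟩
  have hr10 : g3 ∈ ψ.range := ⟨m9 10, by rw [hψ 10 (by norm_num)]; simp [gens9, gens]⟩
  have hrq : q ∈ ψ.range := ⟨m9 12, by rw [hψ 12 (by norm_num)]; simp [gens9]⟩
  have hXle : XC h ≤ ψ.range := by
    set H' := XC h ⊓ ψ.range with hH'
    have hP : lS h PI (by simp) ≤ H' := by
      rintro x ⟨i, hi, rfl⟩
      exact Subgroup.mem_inf.2 ⟨hPX hi, ⟨_, hL i (PI_spec hi).1⟩⟩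
    set A := K ⊓ ψ.range with hA
    have hgA : g1 * g3⁻¹ ∈ A := Subgroup.mem_inf.2 ⟨L.g13, mul_mem hr8 (inv_mem hr10)⟩
    have hVA : V2S h ≤ A := by
      rintro x ⟨i, hi, rfl⟩
      exact Subgroup.mem_inf.2 ⟨B.vK hi, ⟨_, hL i (V2_spec hi).1⟩⟩
    have hd4 : 4 ∣ Nat.card A := by
      have := Subgroup.card_dvd_of_le hVA
      rwa [V2S, card_lS, show V2I.length = 4 from rfl] at this
    have hd3 : 3 ∣ Nat.card A := B.rot_order ▸ Subgroup.orderOf_dvd_natCard _ hgA
    have hA60 : 60 ∣ Nat.card A := by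
      obtain ⟨n, hn⟩ := Nat.Coprime.mul_dvd_of_dvd_of_dvd (by norm_num : Nat.Coprime 4 3) hd4 hd3
      have hd : Nat.card A ∣ 60 := h60 ▸ Subgroup.card_dvd_of_le (inf_le_left : A ≤ K)
      rw [hn] at hd ⊢
      have hn5 : n ∣ 5 := Nat.dvd_of_mul_dvd_mul_left (by norm_num : 0 < 12) (show 12 * n ∣ 12 * 5 from hd)
      rcases (Nat.dvd_prime (by norm_num : Nat.Prime 5)).1 hn5 with e | e <;> subst e
      · exfalso
        have hA12 : Nat.card A = 12 := by simpa using hn
        have hAX : A ≤ XC h := inf_le_left.trans L.le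
        let θA : A →* Equiv.Perm (Fin 5) := θ.comp (Subgroup.inclusion hAX)
        have hinjA : Function.Injective θA := (injective_iff_map_eq_one θA).2 fun a ha => by
          have := hker ⟨a, hAX a.2⟩ (Subgroup.mem_inf.1 a.2).1 ha
          exact Subtype.ext (congrArg (fun t : XC h => (t : G)) this)
        have hc12 : Nat.card θA.range = 12 :=
          (Nat.card_congr (MonoidHom.ofInjective hinjA).toEquiv).symm.trans hA12
        let W : Subgroup (Equiv.Perm (Fin 5)) := MulAction.stabilizer (Equiv.Perm (Fin 5)) (4 : Fin 5)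
        have hdv : 12 ∣ Nat.card (θA.range ⊓ W : Subgroup (Equiv.Perm (Fin 5))) := by
          have hmem : ∀ {a : A}, θA a 4 = 4 → θA a ∈ θA.range ⊓ W := fun {a} e =>
            Subgroup.mem_inf.2 ⟨⟨a, rfl⟩, e⟩
          have hr3 : 3 ∣ Nat.card (θA.range ⊓ W : Subgroup (Equiv.Perm (Fin 5))) := by
            have e : θA ⟨_, hgA⟩ = th13 := hθg
            have h1 := Subgroup.orderOf_dvd_natCard _ (hmem (a := ⟨_, hgA⟩) (by rw [e]; decide))
            rwa [orderOf_injective θA hinjA, ← Subgroup.orderOf_coe, B.rot_order] at h1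
          have hr4 : 4 ∣ Nat.card (θA.range ⊓ W : Subgroup (Equiv.Perm (Fin 5))) := by
            have hle : ((V2S h).subgroupOf A).map θA ≤ θA.range ⊓ W := by
              rintro _ ⟨a, ha, rfl⟩
              obtain ⟨i, hi, e⟩ := Subgroup.mem_subgroupOf.1 ha
              refine hmem ?_
              obtain ⟨hx, he⟩ := hθP i (V2_spec hi).2.2.1
              have : θA a = θ ⟨h.e i, hx⟩ := congrArg θ (Subtype.ext e.symm)
              rw [this, he, thP]
              exact if_pos rfl
            have h1 := Subgroup.card_dvd_of_le hle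
            rwa [← Nat.card_congr (((V2S h).subgroupOf A).equivMapOfInjective θA hinjA).toEquiv,
              Nat.card_congr (Subgroup.subgroupOfEquivOfLe hVA).toEquiv, V2S, card_lS,
              show V2I.length = 4 from rfl] at h1
          exact Nat.Coprime.mul_dvd_of_dvd_of_dvd (by norm_num : Nat.Coprime 3 4) hr3 hr4
        have heq := Subgroup.eq_of_le_of_card_ge (inf_le_left : θA.range ⊓ W ≤ θA.range)
          (by rw [hc12]; exact Nat.le_of_dvd Nat.card_pos hdv)
        have hqm : θA ⟨q, Subgroup.mem_inf.2 ⟨hqK, hrq⟩⟩ ∈ θA.range ⊓ W := heq.symm ▸ ⟨_, rfl⟩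
        have : θ qX 4 = 4 := (Subgroup.mem_inf.1 hqm).2
        rw [hθq] at this
        exact hq4 this
      · norm_num
    have h32 : 32 ∣ Nat.card H' := by
      have := Subgroup.card_dvd_of_le hP
      rwa [card_lS, halve_ok.2.2.2.2.1.1] at this
    have h15 : 15 ∣ Nat.card H' :=
      ((Dvd.intro_left 4 rfl).trans hA60).trans (Subgroup.card_dvd_of_le (inf_le_inf_right _ L.le : A ≤ H'))
    have h480 : 480 ∣ Nat.card H' := Nat.Coprime.mul_dvd_of_dvd_of_dvd (by norm_num : Nat.Coprime 32 15) h32 h15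
    have hX480 : Nat.card (XC h) = 480 := by
      have := L.card
      rw [h60, show V2I.length = 4 from rfl] at this
      rw [hX]; omega
    have heq := Subgroup.eq_of_le_of_card_ge (inf_le_left : H' ≤ XC h)
      (by rw [hX480]; exact Nat.le_of_dvd Nat.card_pos h480)
    exact heq ▸ inf_le_right
  have htop : ψ.range = ⊤ := c.top_of_XC (fun i hi => ⟨_, hL i hi⟩) hr8 hr10 hXle
  exact ⟨(MulEquiv.ofBijective ψ ⟨hinj, MonoidHom.range_eq_top.1 htop⟩).symm⟩

end Cfsg.Agent.Invol.Cen192.AP
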