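import Cfsg.Agent.Lib.Invol.Cen192.AP.CaseAll
import Cfsg.Agent.Lib.Invol.Cen192.AP.Nine

/-! The centraliser with interchanged factors. -/

set_option autoImplicit false
set_option linter.unusedSectionVars false

namespace Cfsg.Agent.Invol.Cen192.AP

variable {G : Type*} [Group G] [Finite G] (h : St G)

/-- `z` fused with `b` and `B`, not with `a` and `p`. -/
theorem case_two (hb : h.Zc 3) (hB : h.Zc 4) (hq : h.Zc 6) (ha : ¬ h.Zc 2) (hp : ¬ h.Zc 5) :
    Nonempty (G ≃* alternatingGroup (Fin 8)) ∨ Nonempty (G ≃* alternatingGroup (Fin 9)) := by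
  obtain ⟨g1, g3, n1, n3, hc⟩ := exists_pair h hb hB hq ha hp
  exact Cfg.final ⟨n1, n3, hc, hb, hB, hq, ha, hp⟩

/-- `z` is fused with a further class. -/
theorem rest (hb : h.Zc 3) (hB : h.Zc 4) (ha : ¬ h.Zc 2) :
    Nonempty (G ≃* alternatingGroup (Fin 8)) ∨ Nonempty (G ≃* alternatingGroup (Fin 9)) := by
  obtain ⟨t, hperm⟩ := swpq_ok
  rcases pattern h hb with ⟨e46, e25⟩ | ⟨e45, e26⟩
  · exact case_two h hb hB (hB.trans e46) ha fun e => ha (e.trans e25.symm)
  · have hk : ∀ k, 1 ≤ k → k ≤ 6 → ∀ m, ([0, 1, 2, 3, 4, 6, 5] : List ℕ).getD k 0 = m → 1 ≤ m → m ≤ 6 →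
        ((h.comp swpq t).Zc k ↔ h.Zc m) := by
      intro k h1 h6 m hm hm1 hm6
      subst hm
      exact h.zc_comp t hperm h1 h6 hm1 hm6
    exact case_two (h.comp swpq t)
      ((hk 3 (by norm_num) (by norm_num) 3 rfl (by norm_num) (by norm_num)).2 hb)
      ((hk 4 (by norm_num) (by norm_num) 4 rfl (by norm_num) (by norm_num)).2 hB)
      ((hk 6 (by norm_num) (by norm_num) 5 rfl (by norm_num) (by norm_num)).2 (hB.trans e45))
      (fun e => ha ((hk 2 (by norm_num) (by norm_num) 2 rfl (by norm_num) (by norm_num)).1 e))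
      (fun e => ha (((hk 5 (by norm_num) (by norm_num) 6 rfl (by norm_num) (by norm_num)).1 e).trans e26.symm))

/-- `z` is fused with `b`. -/
theorem of_b (hb : h.Zc 3) :
    (∃ (N : Subgroup G) (hN : N.Normal), IsMulCommutative N ∧ (∀ n ∈ N, n ^ 2 = 1) ∧ Nat.card N = 8 ∧
        Nonempty (G ⧸ N ≃* Matrix.ProjectiveSpecialLinearGroup (Fin 3) (ZMod 2))) ∨
      Nonempty (G ≃* alternatingGroup (Fin 8)) ∨ Nonempty (G ≃* alternatingGroup (Fin 9)) := by
  by_cases ha : h.Zc 2 <;> by_cases hB : h.Zc 4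
  · refine (all_false h fun k h2 h6 => ?_).elim
    interval_cases k
    · exact ha
    · exact hb
    · exact hB
    · rcases pattern h hb with ⟨-, e⟩ | ⟨e, -⟩
      exacts [ha.trans e, hB.trans e]
    · rcases pattern h hb with ⟨e, -⟩ | ⟨-, e⟩
      exacts [hB.trans e, ha.trans e]
  · obtain ⟨t, hperm⟩ := swaB_ok
    have hk : ∀ k, 1 ≤ k → k ≤ 6 → ∀ m, ([0, 1, 4, 3, 2, 5, 6] : List ℕ).getD k 0 = m → 1 ≤ m → m ≤ 6 →
        ((h.comp swaB t).Zc k ↔ h.Zc m) := by
      intro k h1 h6 m hm hm1 hm6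
      subst hm
      exact h.zc_comp t hperm h1 h6 hm1 hm6
    exact Or.inr (rest (h.comp swaB t)
      ((hk 3 (by norm_num) (by norm_num) 3 rfl (by norm_num) (by norm_num)).2 hb)
      ((hk 4 (by norm_num) (by norm_num) 2 rfl (by norm_num) (by norm_num)).2 ha)
      (fun e => hB ((hk 2 (by norm_num) (by norm_num) 4 rfl (by norm_num) (by norm_num)).1 e)))
  · exact Or.inr (rest h hb hB ha)
  · exact Or.inl (case_one h hb ha hB)

/-- All cases with a conjugate of `z` among the first three classes. -/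
theorem main {k : ℕ} (h2 : 2 ≤ k) (h4 : k ≤ 4) (hk : h.Zc k) :
    (∃ (N : Subgroup G) (hN : N.Normal), IsMulCommutative N ∧ (∀ n ∈ N, n ^ 2 = 1) ∧ Nat.card N = 8 ∧
        Nonempty (G ⧸ N ≃* Matrix.ProjectiveSpecialLinearGroup (Fin 3) (ZMod 2))) ∨
      Nonempty (G ≃* alternatingGroup (Fin 8)) ∨ Nonempty (G ≃* alternatingGroup (Fin 9)) := by
  obtain ⟨tb, pb, -⟩ := swbB_ok
  obtain ⟨ta, pa⟩ := swaB_ok
  interval_cases k
  · refine of_b ((h.comp swaB ta).comp swbB tb) ?_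
    exact ((h.comp swaB ta).zc_comp tb pb (k := 3) (by norm_num) (by norm_num) (by norm_num) (by norm_num)).2
      ((h.zc_comp ta pa (k := 4) (by norm_num) (by norm_num) (by norm_num) (by norm_num)).2 hk)
  · exact of_b h hk
  · exact of_b (h.comp swbB tb) ((h.zc_comp tb pb (k := 3) (by norm_num) (by norm_num) (by norm_num) (by norm_num)).2 hk)

end Cfsg.Agent.Invol.Cen192.AP
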