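import Cfsg.Agent.Lib.Invol.Cen192.AP.CaseI
import Cfsg.Agent.Lib.Invol.Cen192.AP.PairData

/-! A normalised rotation. -/

set_option autoImplicit false
set_option linter.unusedSectionVars false
set_option maxRecDepth 100000

namespace Cfsg.Agent.Invol.Cen192.AP

open Cfsg.Agent.Invol
open Cfsg.Agent.Spor.Coset (ev ev_append)

/-- a flipping element -/
abbrev rI : ℕ := 6

theorem norm_ok : ((List.range 192).all fun i => !(com i bI) || (decide (F1 i < 192) && com (F1 i) bI)) = true ∧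
    ((List.range 16).all fun n => let f := rotL.getD n []
      if n / 4 == 1 then (List.range 32).any fun m => (List.range 192).all fun i => !(com i bI) ||
        (List.range 32).any fun a => cj (mi m) (mi a) == i && cj (mi m) (mi (f.getD a 0)) == F1 i
      else link f 2 4 || link f 2 6 || link f 5 4 || link f 5 6 || link f 4 2 || link f 6 2 || link f 4 5 ||
        link f 6 5) = true ∧
    rotL.length = 16 ∧
    mA rI rI = zI ∧ cj rI bI = bzI ∧ cj rI bzI = bI ∧ mA zI bI = bzI ∧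
    ((List.range 192).all fun i => !(com i bI) || com (cj rI i) bI && com (cj (iA rI) i) bI) = true ∧
    ((List.range 192).all fun m => !(com m bI && (cj rI m == mA (F1 m) bzI) && (List.range 192).all fun i =>
        !(com i bI) || cj m i == cj rI (F1 (cj (iA rI) (F1 i)))) ||
      [0, zI, bI, bzI].any fun v => mA (mA (mA (cj rI v) m) (F1 (F1 (mA (iA (cj rI v)) v)))) (iA v) == 3) = true ∧
    ([0, zI, bI, bzI].all fun v => decide (v < 192) && com v bI && (List.range 192).all fun i =>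
      !(com i bI) || com v i) = true := by
  decide +kernel

variable {G : Type*} [Group G] (h : St G)

/-- A normalised rotation. -/
structure Nm (g : G) : Prop where
  rot : Rot h g
  act : ∀ i < 192, com i bI = true → g * h.e i * g⁻¹ = h.e (F1 i)
  inv6 : h.e rI * g * (h.e rI)⁻¹ * g = h.e 3

theorem F1_lt {i : ℕ} (hi : i < 192) (hc : com i bI = true) : F1 i < 192 ∧ com (F1 i) bI = true := by
  have := norm_ok.1
  simp only [List.all_eq_true, List.mem_range, Bool.or_eq_true, Bool.not_eq_true', Bool.and_eq_true,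
    decide_eq_true_eq] at this
  exact (this i hi).resolve_left (by simp [hc])

/-- A rotation moved by an element centralising `z` and `b`. -/
theorem Rot.conj {g : G} (r : Rot h g) {m : G} (hz : m * h.e zI = h.e zI * m) (hb : m * h.e bI = h.e bI * m) :
    Rot h (m * g * m⁻¹) := by
  have c1 : m⁻¹ * h.e zI * m = h.e zI := by rw [mul_assoc, ← hz]; group
  have c2 : m⁻¹ * h.e bI * m = h.e bI := by rw [mul_assoc, ← hb]; group
  have c3 : m * h.e bzI * m⁻¹ = h.e bzI := by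
    rw [h.bz_eq.1, conj_mul', mul_inv_eq_iff_eq_mul.2 hz, mul_inv_eq_iff_eq_mul.2 hb]
  refine ⟨?_, ?_, ?_⟩
  · calc m * g * m⁻¹ * h.e zI * (m * g * m⁻¹)⁻¹ = m * (g * (m⁻¹ * h.e zI * m) * g⁻¹) * m⁻¹ := by group
      _ = h.e bI := by rw [c1, r.gz, mul_inv_eq_iff_eq_mul.2 hb]
  · calc m * g * m⁻¹ * h.e bI * (m * g * m⁻¹)⁻¹ = m * (g * (m⁻¹ * h.e bI * m) * g⁻¹) * m⁻¹ := by group
      _ = h.e bzI := by rw [c2, r.gb, c3]
  · calc m * g * m⁻¹ * (m * g * m⁻¹) * (m * g * m⁻¹) = m * (g * g * g) * m⁻¹ := by group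
      _ = 1 := by rw [r.g3]; group

/-- A rotation can be normalised. -/
theorem exists_norm [Finite G] (hb : h.Zc 3) (hB : h.Zc 4) (hq : h.Zc 6) (ha : ¬ h.Zc 2) (hp : ¬ h.Zc 5) :
    ∃ g, Nm h g := by
  obtain ⟨-, hcand, hlen, hrr, hrb, hrbz, hzb, hrM, hmu, hV⟩ := norm_ok
  simp only [List.all_eq_true, List.any_eq_true, List.mem_range, Bool.or_eq_true, Bool.not_eq_true',
    Bool.and_eq_true, beq_iff_eq, decide_eq_true_eq] at hrM hV
  have hr : rI < 192 := by decide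
  have hb0 : bI < 192 := by decide
  obtain ⟨g0, r0⟩ := exists_rot h hb
  obtain ⟨f, hf, himg⟩ := r0.exists_img
  obtain ⟨n, hn0, hfn⟩ := List.getElem_of_mem hf
  have hn : n < 16 := hlen ▸ hn0
  have hgd : rotL.getD n [] = f := (List.getD_eq_getElem _ _ hn0).trans hfn
  simp only [List.all_eq_true, List.mem_range] at hcand
  have hc := hcand n hn
  simp only [hgd] at hc
  have nolink : ∀ {k l : ℕ}, (k = 2 ∨ k = 5) → (l = 4 ∨ l = 6) → link f k l = true ∨ link f l k = true →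
      False := fun {k l} hk hl e => by
    have hl' : h.Zc l := by rcases hl with rfl | rfl <;> assumption
    have : IsConj (h.e (rp l)) (h.e (rp k)) := by
      rcases e with e | e
      · exact (r0.link_iff h himg (by omega) (by omega) e).1.symm
      · exact (r0.link_iff h himg (by omega) (by omega) e).1
    have hk' : h.Zc k := IsConj.trans hl' this
    rcases hk with rfl | rfl
    · exact ha hk'
    · exact hp hk'
  split_ifs at hc with h4
  swap
  · simp only [Bool.or_eq_true] at hc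
    rcases hc with ((((((e | e) | e) | e) | e) | e) | e) | e
    · exact (nolink (Or.inl rfl) (Or.inl rfl) (Or.inl e)).elim
    · exact (nolink (Or.inl rfl) (Or.inr rfl) (Or.inl e)).elim
    · exact (nolink (Or.inr rfl) (Or.inl rfl) (Or.inl e)).elim
    · exact (nolink (Or.inr rfl) (Or.inr rfl) (Or.inl e)).elim
    · exact (nolink (Or.inl rfl) (Or.inl rfl) (Or.inr e)).elim
    · exact (nolink (Or.inl rfl) (Or.inr rfl) (Or.inr e)).elim
    · exact (nolink (Or.inr rfl) (Or.inl rfl) (Or.inr e)).elim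
    · exact (nolink (Or.inr rfl) (Or.inr rfl) (Or.inr e)).elim
  simp only [List.any_eq_true, List.all_eq_true, List.mem_range, Bool.or_eq_true, Bool.not_eq_true',
    Bool.and_eq_true, beq_iff_eq] at hc
  obtain ⟨m, hm, hm'⟩ := hc
  obtain ⟨hml, hmb, -⟩ := mi_spec hm
  set g1 := h.e (mi m) * g0 * (h.e (mi m))⁻¹ with hg1
  have r1 : Rot h g1 := r0.conj h (h.e_comm_z hml) ((h.com_iff hml hb0).2 hmb)
  have act1 : ∀ i < 192, com i bI = true → g1 * h.e i * g1⁻¹ = h.e (F1 i) := fun i hi hib => by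
    obtain ⟨a, ha', e1, e2⟩ := (hm' i hi).resolve_left (by simp [hib])
    obtain ⟨hfa, hfe⟩ := himg a ha'
    rw [← e2, ← e1, ← h.conj_e hml (mi_spec ha').1, ← h.conj_e hml (mi_spec hfa).1, hfe, hg1]
    group
  have rz : h.e rI * h.e rI = h.e zI := by rw [← h.mul _ hr _ hr, hrr]
  have cz : h.e rI * h.e zI * (h.e rI)⁻¹ = h.e zI := mul_inv_eq_iff_eq_mul.2 (h.e_comm_z hr)
  have cz' : (h.e rI)⁻¹ * h.e zI * h.e rI = h.e zI := by rw [mul_assoc, ← h.e_comm_z hr]; group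
  have cb : h.e rI * h.e bI * (h.e rI)⁻¹ = h.e bzI := by rw [h.conj_e hr hb0, hrb]
  have cbz : h.e rI * h.e bzI * (h.e rI)⁻¹ = h.e bI := by rw [h.conj_e hr (by decide), hrbz]
  have cb' : (h.e rI)⁻¹ * h.e bI * h.e rI = h.e bzI := by rw [← cbz]; group
  have cbz' : (h.e rI)⁻¹ * h.e bzI * h.e rI = h.e bI := by rw [← cb]; group
  set u := h.e rI * g1 * (h.e rI)⁻¹ * g1 with hu
  have uz : u * h.e zI = h.e zI * u := mul_inv_eq_iff_eq_mul.1 (by
    calc u * h.e zI * u⁻¹ = h.e rI * (g1 * ((h.e rI)⁻¹ * (g1 * h.e zI * g1⁻¹) * h.e rI) * g1⁻¹) * (h.e rI)⁻¹ := by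
          rw [hu]; group
      _ = h.e zI := by rw [r1.gz, cb', r1.gbz, cz])
  have ub : u * h.e bI = h.e bI * u := mul_inv_eq_iff_eq_mul.1 (by
    calc u * h.e bI * u⁻¹ = h.e rI * (g1 * ((h.e rI)⁻¹ * (g1 * h.e bI * g1⁻¹) * h.e rI) * g1⁻¹) * (h.e rI)⁻¹ := by
          rw [hu]; group
      _ = h.e bI := by rw [r1.gb, cbz', r1.gb, cbz])
  obtain ⟨μ, hμ, hμe⟩ := h.mem_cent uz
  have hμb : com μ bI = true := (h.com_iff hμ hb0).1 (hμe ▸ ub)
  obtain ⟨hFμ, hFμb⟩ := F1_lt hμ hμb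
  have c1 : cj rI μ = mA (F1 μ) bzI := by
    refine h.inj _ (cj_lt hr hμ) _ (mA_lt hFμ (by decide)) ?_
    have key : h.e rI * u * (h.e rI)⁻¹ * (g1 * u * g1⁻¹)⁻¹ =
        h.e rI * h.e rI * (g1 * (h.e rI * h.e rI)⁻¹ * g1⁻¹) := by rw [hu]; group
    rw [rz, show g1 * (h.e zI)⁻¹ * g1⁻¹ = (g1 * h.e zI * g1⁻¹)⁻¹ by group, r1.gz] at key
    have hbb : (h.e bI)⁻¹ = h.e bI := inv_eq_of_mul_eq_one_left
      (orderOf_two_iff.1 ((h.sq_iff hb0).2 (by rw [b_ok.1]; decide))).1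
    rw [hbb, ← hμe, h.conj_e hr hμ, act1 μ hμ hμb, mul_inv_eq_iff_eq_mul, ← h.bz_eq.2] at key
    rw [key, h.mul _ hFμ _ (by decide)]
    have h1 := (h.com_iff hFμ hb0).2 hFμb
    have h2 := h.e_comm_z hFμ
    rw [h.bz_eq.2, mul_assoc (h.e zI), ← h1, ← mul_assoc, ← h2, mul_assoc]
  have c2 : ∀ i < 192, com i bI = true → cj μ i = cj rI (F1 (cj (iA rI) (F1 i))) := fun i hi hib => by
    obtain ⟨h1, h1b⟩ := F1_lt hi hib
    have h2 := cj_lt (iA_spec hr).1 h1
    have h2b : com (cj (iA rI) (F1 i)) bI = true := ((hrM _ h1).resolve_left (by simp [h1b])).2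
    obtain ⟨h3, -⟩ := F1_lt h2 h2b
    refine h.inj _ (cj_lt hμ hi) _ (cj_lt hr h3) ?_
    rw [← h.conj_e hμ hi, ← h.conj_e hr h3, ← act1 _ h2 h2b, ← h.conj_e (iA_spec hr).1 h1, ← act1 i hi hib,
      h.e_inv hr, hμe, hu]
    group
  simp only [List.all_eq_true, List.any_eq_true, List.mem_range, Bool.or_eq_true, Bool.not_eq_true',
    Bool.and_eq_false_iff, beq_iff_eq, beq_eq_false_iff_ne, List.all_eq_false] at hmu
  obtain ⟨v, hv, hve⟩ := (hmu μ hμ).resolve_left (by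
    rintro ((e | e) | ⟨i, hi, e⟩)
    · simp [hμb] at e
    · exact e c1
    · apply e
      by_cases hib : com i bI = true
      · simp [c2 i hi hib]
      · simp [hib])
  obtain ⟨⟨hvl, hvb⟩, hvc⟩ := hV v hv
  have hvz := h.e_comm_z hvl
  refine ⟨h.e v * g1 * (h.e v)⁻¹, r1.conj h hvz ((h.com_iff hvl hb0).2 hvb), fun i hi hib => ?_, ?_⟩
  · obtain ⟨h1, h1b⟩ := F1_lt hi hib
    have e1 := (h.com_iff hvl hi).2 ((hvc i hi).resolve_left (by simp [hib]))
    have e2 := (h.com_iff hvl h1).2 ((hvc _ h1).resolve_left (by simp [h1b]))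
    calc h.e v * g1 * (h.e v)⁻¹ * h.e i * (h.e v * g1 * (h.e v)⁻¹)⁻¹
        = h.e v * (g1 * ((h.e v)⁻¹ * (h.e i * h.e v)) * g1⁻¹) * (h.e v)⁻¹ := by group
      _ = h.e (F1 i) := by rw [← e1, inv_mul_cancel_left, act1 i hi hib, e2, mul_inv_cancel_right]
  · have hrv := cj_lt hr hvl
    have hrvb : com (cj rI v) bI = true := ((hrM v hvl).resolve_left (by simp [hvb])).1
    set w := mA (iA (cj rI v)) v with hw
    have hwl : w < 192 := mA_lt (iA_spec hrv).1 hvl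
    have hwe : h.e w = (h.e rI * h.e v * (h.e rI)⁻¹)⁻¹ * h.e v := by
      rw [hw, h.mul _ (iA_spec hrv).1 _ hvl, h.e_inv hrv, h.conj_e hr hvl]
    have hwb : com w bI = true := by
      rw [← h.com_iff hwl hb0, hwe]
      have a1 : Commute (h.e rI * h.e v * (h.e rI)⁻¹) (h.e bI) := by
        rw [h.conj_e hr hvl]; exact (h.com_iff hrv hb0).2 hrvb
      exact a1.inv_left.mul_left ((h.com_iff hvl hb0).2 hvb)
    obtain ⟨hw1, hw1b⟩ := F1_lt hwl hwb
    obtain ⟨hw2, -⟩ := F1_lt hw1 hw1b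
    have hgg : g1⁻¹ = g1 * g1 := inv_eq_of_mul_eq_one_left r1.g3
    rw [← hve, h.mul _ (mA_lt (mA_lt hrv hμ) hw2) _ (iA_spec hvl).1, h.mul _ (mA_lt hrv hμ) _ hw2,
      h.mul _ hrv _ hμ, ← act1 _ hw1 hw1b, ← act1 _ hwl hwb, hwe, hμe, hu, h.e_inv hvl, ← h.conj_e hr hvl]
    have hconj : ∀ W : G, g1⁻¹ * W * g1⁻¹⁻¹ = g1 * (g1 * W * g1⁻¹) * g1⁻¹ := fun W => by
      rw [show g1 * (g1 * W * g1⁻¹) * g1⁻¹ = g1 * g1 * W * (g1 * g1)⁻¹ by group, ← hgg]
    calc h.e rI * (h.e v * g1 * (h.e v)⁻¹) * (h.e rI)⁻¹ * (h.e v * g1 * (h.e v)⁻¹)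
        = (h.e rI * h.e v * (h.e rI)⁻¹) * (h.e rI * g1 * (h.e rI)⁻¹ * g1) * (g1⁻¹ *
            ((h.e rI * h.e v * (h.e rI)⁻¹)⁻¹ * h.e v) * g1⁻¹⁻¹) * (h.e v)⁻¹ := by group
      _ = _ := by rw [hconj]

theorem EI_com : ∀ i ∈ EI, i < 192 ∧ com i bI = true := by decide +kernel

theorem four_ok : (EI.all fun i => EI.contains (cj 2 (F1 i)) &&
    cj 2 (F1 (cj 2 (F1 (cj 2 (F1 (cj 2 (F1 i))))))) == i) = true ∧
    ((List.range 192).all fun j => !(EI.all (com j)) || EI.contains j) = true := by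
  decide +kernel

namespace Nm

variable {h} {g : G} (n : Nm h g)
include n

theorem g_act {i : ℕ} (hi : i ∈ EI) : g * h.e i * g⁻¹ = h.e (F1 i) := n.act i (EI_com i hi).1 (EI_com i hi).2

/-- An element acting trivially on the eight is in it. -/
theorem mem_eight {x : G} (hx : ∀ i ∈ EI, x * h.e i * x⁻¹ = h.e i) : ∃ i ∈ EI, h.e i = x := by
  obtain ⟨j, hj, rfl⟩ := h.mem_cent (mul_inv_eq_iff_eq_mul.1 (hx zI (by decide)))
  refine ⟨j, ?_, rfl⟩
  have := four_ok.2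
  simp only [List.all_eq_true, List.mem_range, Bool.or_eq_true, Bool.not_eq_true', List.contains_eq_mem,
    decide_eq_true_eq] at this
  refine (this j hj).resolve_left ?_
  rw [Bool.not_eq_false, List.all_eq_true]
  intro i hi
  exact (h.com_iff hj (EI_com i hi).1).1 (mul_inv_eq_iff_eq_mul.1 (hx i hi))

theorem four [Finite G] : (h.e 2 * g) ^ 4 = 1 := by
  set x := h.e 2 * g with hx
  have hc := four_ok.1
  simp only [List.all_eq_true, Bool.and_eq_true, List.contains_eq_mem, decide_eq_true_eq, beq_iff_eq] at hc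
  have step : ∀ i ∈ EI, x * h.e i * x⁻¹ = h.e (cj 2 (F1 i)) := fun i hi => by
    obtain ⟨h1, -⟩ := F1_lt (EI_com i hi).1 (EI_com i hi).2
    rw [← h.conj_e (by norm_num) h1, ← n.g_act hi, hx]; group
  obtain ⟨j, hj, hje⟩ := n.mem_eight (x := x ^ 4) fun i hi => by
    obtain ⟨a1, a4⟩ := hc i hi
    obtain ⟨a2, -⟩ := hc _ a1
    obtain ⟨a3, -⟩ := hc _ a2
    calc x ^ 4 * h.e i * (x ^ 4)⁻¹ = x * (x * (x * (x * h.e i * x⁻¹) * x⁻¹) * x⁻¹) * x⁻¹ := by
          simp only [pow_succ, pow_zero, one_mul]; group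
      _ = h.e i := by rw [step i hi, step _ a1, step _ a2, step _ a3, a4]
  have h8 : (x ^ 4) ^ 2 = 1 := by
    have := eight_ok.2.2.2.2.2.2.1
    simp only [List.all_eq_true, Bool.and_eq_true, beq_iff_eq] at this
    rw [← hje, pow_two, ← h.mul j (EI_com j hj).1 j (EI_com j hj).1, (this j hj).2, h.e_zero]
  haveI : Fact (Nat.Prime 2) := ⟨Nat.prime_two⟩
  obtain ⟨k, -, hk⟩ := (Nat.dvd_prime_pow Nat.prime_two).1 (show orderOf x ∣ 2 ^ 3 from
    orderOf_dvd_iff_pow_eq_one.2 (by rw [← pow_mul] at h8; exact h8))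
  obtain ⟨P, hP⟩ := h.S0_sylow
  obtain ⟨Q, hQ⟩ := (IsPGroup.of_card (n := k) (by rw [Nat.card_zpowers, hk]) :
    IsPGroup 2 (Subgroup.zpowers x)).exists_le_sylow
  obtain ⟨c, hc'⟩ := MulAction.exists_smul_eq G Q P
  have hm : c * x * c⁻¹ ∈ (P : Subgroup G) := by
    rw [← hc', Sylow.coe_subgroup_smul]
    exact ⟨_, hQ (Subgroup.mem_zpowers _), rfl⟩
  rw [hP] at hm
  obtain ⟨i, hi, hie⟩ := hm
  have hsy := sylow_ok.2.2.2.2
  simp only [List.all_eq_true, beq_iff_eq] at hsy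
  have hpw : ∀ m, pwA i m < 192 ∧ h.e (pwA i m) = h.e i ^ (m + 1) := by
    intro m
    induction m with
    | zero => exact ⟨SI_lt hi, by simp [pwA]⟩
    | succ m ih => exact ⟨mA_lt ih.1 (SI_lt hi), by rw [pwA, h.mul _ ih.1 _ (SI_lt hi), ih.2, ← pow_succ]⟩
  have e4 := (hpw 3).2
  rw [hsy i hi, h.e_zero, hie, conj_pow] at e4
  have : c * x ^ 4 * c⁻¹ = 1 := e4.symm
  rwa [conj_eq_one_iff] at this

end Nm

end Cfsg.Agent.Invol.Cen192.AP
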