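import Cfsg.Agent.Lib.Invol.Cen192.AP.Seven
import Cfsg.Agent.Lib.Invol.Cen192.AP.CaseAll

/-! Two commuting normalised rotations and their relations. -/

set_option autoImplicit false
set_option linter.unusedSectionVars false
set_option maxRecDepth 100000

namespace Cfsg.Agent.Invol.Cen192.AP

open Cfsg.Agent.Invol
open Cfsg.Agent.Spor.Coset (ev ev_append ev_map)

/-- the action of the second rotation -/
def F3 (i : ℕ) : ℕ := swbB (F1 (swbB i))

/-- halves of the action relations of the second rotation -/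
def relM3 : List (List ℕ × List ℕ) := [([2], [7, 3, 5, 3, 1]), ([4, 6], [7, 4, 3, 1, 4]), ([0, 4, 2, 5], [7, 5, 1, 1])]

/-- the moved rotation, as a multiplier -/
def d0f (a : ℕ) : ℕ := mA a (F3 a)

/-- the multiplier for `12` -/
def w12 : ℕ := mA 12 (F1 (iA 12))

/-- the multiplier of the second rotation for `12` -/
def w312 : ℕ :=
  let μ := mA (swbB 12) (iA 6)
  swbB (mA (mA μ 3) (F1 (F1 (iA μ))))

/-- the multiplier of the second rotation for `6` -/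
def w36 : ℕ := mA 6 (F3 (iA 6))

/-- the multiplier of the moved rotation for `6` -/
def d6 (a : ℕ) : ℕ := mA (mA (cj 6 (d0f a)) w36) (iA (d0f a))

/-- the multiplier of the moved rotation for `12` -/
def d12 (a : ℕ) : ℕ := mA (mA (cj 12 (d0f a)) w312) (F3 (F3 (d0f a)))

/-- the commutation tests for `6` and `12` fail -/
def failA (a : ℕ) : Bool :=
  (AI.contains 3 && AI.contains (d6 a) && !(mA 3 (F1 (F1 (d6 a))) == mA (d6 a) (F3 3))) ||
  (AI.contains w12 && AI.contains (d12 a) && !(mA w12 (F1 (d12 a)) == mA (d12 a) (F3 (F3 w12))))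

theorem pair_ok : ((List.range 192).all fun i => decide (swbB i < 192) && swbB (swbB i) == i) = true ∧
    swbB bI = BI ∧ swbB BI = bI ∧ swbB zI = zI ∧
    (AI.all fun i => com i bI && com i BI && AI.contains (F1 i) && AI.contains (F3 i) && F1 (F3 i) == F3 (F1 i)) = true ∧
    ((List.range 192).all fun j => !(AI.all (com j)) || AI.contains j) = true ∧
    (AI.all fun γ => AI.any fun a => mA (d0f a) (F1 (d0f a)) == γ) = true ∧
    (AI.all fun a => a == 0 || a == zI || failA a) = true ∧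
    (com 6 BI = true ∧ com 12 bI = true ∧ com (mA (swbB 12) (iA 6)) bI = true ∧ com 3 bI = true ∧
      com (iA 6) BI = true ∧ com (iA 12) bI = true ∧ com (iA (mA (swbB 12) (iA 6))) bI = true ∧ swbB 6 < 192) ∧
    ((List.range 8).all fun k => swbB (gi k) == gi (gswap k)) = true ∧
    (eT.rels.all fun w => rel1.contains w || w == relC || (w.all (fun s => decide (s < 8)) && evA w == 0) ||
      [[10, 10, 10], [10, 11], [11, 10], [0, 10, 1, 10, 7, 5], [4, 10, 4, 10, 4, 10, 4, 10],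
        [10, 2, 6, 10, 6, 10, 5]].contains w || relM3.any fun p => w == 10 :: (p.1 ++ 11 :: p.2)) = true ∧
    (rel1.all fun w => [[8, 9], [9, 8], [8, 8, 8], [2, 8, 3, 8, 7, 5], [4, 8, 4, 8, 4, 8, 4, 8], relD].contains w ||
      relM.any fun p => w == 8 :: (p.1 ++ 9 :: p.2)) = true ∧
    (relM3.all fun p => p.1.all (fun s => decide (s < 8)) && p.2.all (fun s => decide (s < 8)) &&
      com (evA p.1) BI && mA (F3 (evA p.1)) (evA p.2) == 0) = true := by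
  decide +kernel

theorem AI_spec {i : ℕ} (hi : i ∈ AI) : i < 192 ∧ com i bI = true ∧ com i BI = true ∧ F1 i ∈ AI ∧ F3 i ∈ AI ∧
    F1 (F3 i) = F3 (F1 i) := by
  have := pair_ok.2.2.2.2.1
  simp only [List.all_eq_true, Bool.and_eq_true, List.contains_eq_mem, decide_eq_true_eq, beq_iff_eq] at this
  obtain ⟨⟨⟨⟨h1, h2⟩, h3⟩, h4⟩, h5⟩ := this i hi
  exact ⟨sixteen_ok.2.2.1 i hi, h1, h2, h3, h4, h5⟩

theorem swbB_spec {i : ℕ} (hi : i < 192) : swbB i < 192 ∧ swbB (swbB i) = i := by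
  have := pair_ok.1
  simp only [List.all_eq_true, List.mem_range, Bool.and_eq_true, decide_eq_true_eq, beq_iff_eq] at this
  exact this i hi

variable {G : Type*} [Group G] (h : St G)

/-- The setting with `b` and `B` exchanged. -/
def St.swap : St G := h.comp swbB swbB_ok.1

theorem St.swap_e (i : ℕ) : h.swap.e i = h.e (swbB i) := rfl

theorem swap_com {i : ℕ} (hi : i < 192) (hc : com i BI = true) : com (swbB i) bI = true := by
  obtain ⟨⟨h1, -⟩, -⟩ := And.intro swbB_ok trivial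
  simp only [autTest, Bool.and_eq_true, beq_iff_eq, List.all_eq_true, List.mem_range, decide_eq_true_eq,
    List.any_eq_true] at h1
  simp only [com, beq_iff_eq] at hc ⊢
  have e1 := (h1.2 i hi).1.2 BI (by decide)
  have e2 := (h1.2 BI (by decide)).1.2 i hi
  rw [pair_ok.2.2.1] at e1 e2
  rw [← e1, ← e2, hc]

/-- The action of the second rotation. -/
theorem act3 {g : G} (n : Nm h.swap g) {i : ℕ} (hi : i < 192) (hc : com i BI = true) :
    F3 i < 192 ∧ g * h.e i * g⁻¹ = h.e (F3 i) := by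
  have h1 := n.act _ (swbB_spec hi).1 (swap_com hi hc)
  rw [St.swap_e, St.swap_e, (swbB_spec hi).2] at h1
  exact ⟨(swbB_spec (F1_lt (swbB_spec hi).1 (swap_com hi hc)).1).1, h1⟩

theorem sixteen_mul {i j : ℕ} (hi : i ∈ AI) (hj : j ∈ AI) :
    mA i j ∈ AI ∧ h.e i * h.e j = h.e j * h.e i ∧ h.e i * h.e i = 1 := by
  have ec := sixteen_ok.2.2.2.2.2.1
  simp only [List.all_eq_true, Bool.and_eq_true, List.contains_eq_mem, decide_eq_true_eq, beq_iff_eq] at ec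
  have hl := sixteen_ok.2.2.1
  have hsq : h.e i * h.e i = 1 := by rw [← h.mul _ (hl i hi) _ (hl i hi), (ec i hi).2, h.e_zero]
  refine ⟨?_, (h.com_iff (hl i hi) (hl j hj)).2 ((ec i hi).1 j hj).2, hsq⟩
  have h2 := ((ec i hi).1 _ ((ec 0 sixteen_ok.2.2.2.1).1 j hj).1).1
  have hji : iA (mA 0 (iA j)) = j := by
    refine h.inj _ (iA_spec (mA_lt (by norm_num) (iA_spec (hl j hj)).1)).1 _ (hl j hj) ?_
    rw [h.e_inv (mA_lt (by norm_num) (iA_spec (hl j hj)).1), h.mul 0 (by norm_num) _ (iA_spec (hl j hj)).1,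
      h.e_zero, one_mul, h.e_inv (hl j hj), inv_inv]
  rwa [hji] at h2

theorem sq_inv {i : ℕ} (hi : i ∈ AI) : (h.e i)⁻¹ = h.e i :=
  inv_eq_of_mul_eq_one_left (sixteen_mul h hi hi).2.2

set_option maxHeartbeats 1600000 in
theorem exists_pair [Finite G] (hb : h.Zc 3) (hB : h.Zc 4) (hq : h.Zc 6) (ha : ¬ h.Zc 2) (hp : ¬ h.Zc 5) :
    ∃ g1 g3 : G, Nm h g1 ∧ Nm h.swap g3 ∧ g1 * g3 = g3 * g1 := by
  obtain ⟨n1g, n1⟩ := exists_norm h hb hB hq ha hp
  have hperm := swbB_ok.2.1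
  have hk : ∀ k, 1 ≤ k → k ≤ 6 → ∀ m, ([0, 1, 2, 4, 3, 5, 6] : List ℕ).getD k 0 = m → 1 ≤ m → m ≤ 6 →
      (h.swap.Zc k ↔ h.Zc m) := by
    intro k h1 h6 m hm hm1 hm6
    subst hm
    exact h.zc_comp swbB_ok.1 hperm h1 h6 hm1 hm6
  obtain ⟨g, n⟩ := exists_norm h.swap
    ((hk 3 (by norm_num) (by norm_num) 4 rfl (by norm_num) (by norm_num)).2 hB)
    ((hk 4 (by norm_num) (by norm_num) 3 rfl (by norm_num) (by norm_num)).2 hb)
    ((hk 6 (by norm_num) (by norm_num) 6 rfl (by norm_num) (by norm_num)).2 hq)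
    (fun e => ha ((hk 2 (by norm_num) (by norm_num) 2 rfl (by norm_num) (by norm_num)).1 e))
    (fun e => hp ((hk 5 (by norm_num) (by norm_num) 5 rfl (by norm_num) (by norm_num)).1 e))
  obtain ⟨-, -, -, -, -, hcen, hsur, hfail, ⟨c6, c12, cμ, c3, c6i, c12i, cμi, -⟩, -⟩ := pair_ok
  simp only [List.all_eq_true, List.any_eq_true, Bool.or_eq_true, beq_iff_eq, List.mem_range, Bool.not_eq_true',
    List.contains_eq_mem, decide_eq_true_eq] at hcen hsur hfail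
  -- the commutator
  set c := n1g * g * n1g⁻¹ * g⁻¹ with hc
  have A1 : ∀ {i : ℕ}, i ∈ AI → n1g * h.e i * n1g⁻¹ = h.e (F1 i) := fun {i} hi =>
    n1.act i (AI_spec hi).1 (AI_spec hi).2.1
  have A3 : ∀ {i : ℕ}, i ∈ AI → g * h.e i * g⁻¹ = h.e (F3 i) := fun {i} hi =>
    (act3 h n (AI_spec hi).1 (AI_spec hi).2.2.1).2
  have htriv : ∀ i ∈ AI, c * h.e i = h.e i * c := by
    intro i hi
    refine mul_inv_eq_iff_eq_mul.1 ?_
    have hF : ∀ {i : ℕ}, i ∈ AI → (n1g⁻¹ * h.e i * n1g = h.e (F1 (F1 i))) ∧ g⁻¹ * h.e i * g = h.e (F3 (F3 i)) := by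
      intro i hi
      constructor
      · rw [← A1 (AI_spec hi).2.2.2.1, ← A1 hi,
          show n1g * (n1g * h.e i * n1g⁻¹) * n1g⁻¹ = n1g * n1g * h.e i * (n1g * n1g)⁻¹ by group,
          ← inv_eq_of_mul_eq_one_left n1.rot.g3, inv_inv]
      · rw [← A3 (AI_spec hi).2.2.2.2.1, ← A3 hi,
          show g * (g * h.e i * g⁻¹) * g⁻¹ = g * g * h.e i * (g * g)⁻¹ by group,
          ← inv_eq_of_mul_eq_one_left n.rot.g3, inv_inv]
    obtain ⟨-, -, -, m1, m3, -⟩ := AI_spec hi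
    have t3 := (AI_spec (AI_spec m3).2.2.2.2.1)
    obtain ⟨-, -, -, m4, -, e2⟩ := t3
    obtain ⟨-, -, -, m5, -, -⟩ := AI_spec m4
    have e1 : F1 (F3 (F3 i)) = F3 (F3 (F1 i)) := by
      rw [(AI_spec m3).2.2.2.2.2, (AI_spec hi).2.2.2.2.2]
    have i1 : ∀ {i : ℕ}, i ∈ AI → F1 (F1 (F1 i)) = i := fun {i} hi => by
      have h1 := (AI_spec hi).2.2.2.1
      have h2 := (AI_spec h1).2.2.2.1
      have h3 := (AI_spec h2).2.2.2.1
      refine h.inj _ (AI_spec h3).1 _ (AI_spec hi).1 ?_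
      rw [← A1 h2, ← A1 h1, ← A1 hi]
      calc n1g * (n1g * (n1g * h.e i * n1g⁻¹) * n1g⁻¹) * n1g⁻¹ = n1g * n1g * n1g * h.e i * (n1g * n1g * n1g)⁻¹ := by
            group
        _ = h.e i := by rw [n1.rot.g3]; group
    have i3 : ∀ {i : ℕ}, i ∈ AI → F3 (F3 (F3 i)) = i := fun {i} hi => by
      have h1 := (AI_spec hi).2.2.2.2.1
      have h2 := (AI_spec h1).2.2.2.2.1
      have h3 := (AI_spec h2).2.2.2.2.1
      refine h.inj _ (AI_spec h3).1 _ (AI_spec hi).1 ?_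
      rw [← A3 h2, ← A3 h1, ← A3 hi]
      calc g * (g * (g * h.e i * g⁻¹) * g⁻¹) * g⁻¹ = g * g * g * h.e i * (g * g * g)⁻¹ := by
            group
        _ = h.e i := by rw [n.rot.g3]; group
    have k1 : F1 (F1 (F3 (F3 i))) ∈ AI := (AI_spec (AI_spec (AI_spec m3).2.2.2.2.1).2.2.2.1).2.2.2.1
    calc c * h.e i * c⁻¹ = n1g * (g * (n1g⁻¹ * (g⁻¹ * h.e i * g) * n1g) * g⁻¹) * n1g⁻¹ := by rw [hc]; group
      _ = h.e i := by
        rw [(hF hi).2, (hF (AI_spec m3).2.2.2.2.1).1, A3 k1, A1 (AI_spec k1).2.2.2.2.1,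
          (AI_spec k1).2.2.2.2.2, i1 (AI_spec m3).2.2.2.2.1, i3 hi]
  obtain ⟨γ, hγ, hγe⟩ : ∃ γ ∈ AI, h.e γ = c := by
    obtain ⟨j, hj, hje⟩ := h.mem_cent (htriv zI sixteen_ok.2.2.2.2.1)
    refine ⟨j, (hcen j hj).resolve_left ?_, hje⟩
    rw [Bool.not_eq_false, List.all_eq_true]
    exact fun i hi => (h.com_iff hj (AI_spec hi).1).1 (hje ▸ htriv i hi)
  obtain ⟨a, haA, hae⟩ := hsur γ hγ
  set g' := h.e a * g * (h.e a)⁻¹ with hg'
  have hd0 : d0f a ∈ AI := (sixteen_mul h haA (AI_spec haA).2.2.2.2.1).1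
  have hg'2 : g' = h.e (d0f a) * g := by
    rw [d0f, h.mul _ (AI_spec haA).1 _ (AI_spec (AI_spec haA).2.2.2.2.1).1, ← A3 haA, hg', sq_inv h haA]
    group
  have hcomm : n1g * g' = g' * n1g := by
    have h1 := A1 hd0
    obtain ⟨h2, h3, h4⟩ := sixteen_mul h hd0 (AI_spec hd0).2.2.2.1
    rw [hg'2, ← mul_inv_eq_iff_eq_mul]
    calc n1g * (h.e (d0f a) * g) * n1g⁻¹ = (n1g * h.e (d0f a) * n1g⁻¹) * c * g := by rw [hc]; group
      _ = h.e (d0f a) * g := by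
        rw [h1, ← hγe, ← hae, h.mul _ (AI_spec hd0).1 _ (AI_spec (AI_spec hd0).2.2.2.1).1, h3,
          ← mul_assoc (h.e (F1 (d0f a))), (sixteen_mul h (AI_spec hd0).2.2.2.1 hd0).2.2, one_mul]
  have hact' : ∀ {i : ℕ}, i ∈ AI → g' * h.e i * g'⁻¹ = h.e (F3 i) ∧ g'⁻¹ * h.e i * g' = h.e (F3 (F3 i)) := by
    have h0 : ∀ {i : ℕ}, i ∈ AI → g' * h.e i * g'⁻¹ = h.e (F3 i) := fun {i} hi => by
      rw [hg'2, show h.e (d0f a) * g * h.e i * (h.e (d0f a) * g)⁻¹ =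
        h.e (d0f a) * (g * h.e i * g⁻¹) * (h.e (d0f a))⁻¹ by group, A3 hi,
        (sixteen_mul h hd0 (AI_spec hi).2.2.2.2.1).2.1, mul_inv_cancel_right]
    intro i hi
    refine ⟨h0 hi, ?_⟩
    have g33 : g'⁻¹ = g' * g' := inv_eq_of_mul_eq_one_left (by
      rw [hg']
      calc h.e a * g * (h.e a)⁻¹ * (h.e a * g * (h.e a)⁻¹) * (h.e a * g * (h.e a)⁻¹) =
          h.e a * (g * g * g) * (h.e a)⁻¹ := by group
        _ = 1 := by rw [n.rot.g3]; group)
    rw [← h0 (AI_spec hi).2.2.2.2.1, ← h0 hi,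
      show g' * (g' * h.e i * g'⁻¹) * g'⁻¹ = g' * g' * h.e i * (g' * g')⁻¹ by group, ← g33, inv_inv]
  have hact1 : ∀ {i : ℕ}, i ∈ AI → n1g⁻¹ * h.e i * n1g = h.e (F1 (F1 i)) := fun {i} hi => by
    rw [← A1 (AI_spec hi).2.2.2.1, ← A1 hi,
      show n1g * (n1g * h.e i * n1g⁻¹) * n1g⁻¹ = n1g * n1g * h.e i * (n1g * n1g)⁻¹ by group,
      ← inv_eq_of_mul_eq_one_left n1.rot.g3, inv_inv]
  -- only two multipliers pass
  rcases hfail a haA with h0 | hf
  · refine ⟨n1g, g', n1, ?_, hcomm⟩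
    rcases h0 with rfl | rfl
    · rw [hg', h.e_zero]; simpa using n
    · have zc : ∀ {i : ℕ}, i < 192 → (h.e zI)⁻¹ * h.e i * h.e zI = h.e i := fun hi => by
        rw [mul_assoc, h.e_comm_z hi, inv_mul_cancel_left]
      have zc' : ∀ {i : ℕ}, i < 192 → h.e zI * h.e i * (h.e zI)⁻¹ = h.e i := fun hi => by
        rw [← h.e_comm_z hi, mul_inv_cancel_right]
      refine ⟨n.rot.conj h.swap ?_ ?_, fun i hi hib => ?_, ?_⟩
      · rw [St.swap_e, pair_ok.2.2.2.1]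
      · rw [St.swap_e, pair_ok.2.1]; exact (h.e_comm_z (by decide)).symm
      · have h1 := n.act i hi hib
        simp only [St.swap_e] at h1 ⊢
        rw [hg']
        calc h.e zI * g * (h.e zI)⁻¹ * h.e (swbB i) * (h.e zI * g * (h.e zI)⁻¹)⁻¹
            = h.e zI * (g * ((h.e zI)⁻¹ * h.e (swbB i) * h.e zI) * g⁻¹) * (h.e zI)⁻¹ := by group
          _ = h.e (swbB (F1 i)) := by
            rw [zc (swbB_spec hi).1, h1, zc' (swbB_spec (F1_lt hi hib).1).1]
      · have h1 := n.inv6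
        simp only [St.swap_e] at h1 ⊢
        rw [hg']
        have e6 : h.e (swbB rI) * h.e zI = h.e zI * h.e (swbB rI) := h.e_comm_z (swbB_spec (by norm_num)).1
        calc h.e (swbB rI) * (h.e zI * g * (h.e zI)⁻¹) * (h.e (swbB rI))⁻¹ * (h.e zI * g * (h.e zI)⁻¹)
            = (h.e (swbB rI) * h.e zI) * g * ((h.e (swbB rI) * h.e zI)⁻¹ * h.e zI) * g * (h.e zI)⁻¹ := by group
          _ = h.e zI * (h.e (swbB rI) * g * (h.e (swbB rI))⁻¹ * g) * (h.e zI)⁻¹ := by rw [e6]; group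
          _ = _ := by rw [h1, zc' (swbB_spec (by norm_num)).1]
  exfalso
  simp only [failA, Bool.or_eq_true, Bool.and_eq_true, List.contains_eq_mem, decide_eq_true_eq,
    Bool.not_eq_true', beq_eq_false_iff_ne] at hf
  rcases hf with ⟨⟨h3A, hdA⟩, hne⟩ | ⟨⟨hwA, hdA⟩, hne⟩
  · apply hne
    have h6 : (6 : ℕ) < 192 := by norm_num
    obtain ⟨h36, hact6⟩ := act3 h n (iA_spec h6).1 c6i
    set d := d6 a with hd
    have hl1 : cj 6 (d0f a) < 192 := cj_lt h6 (AI_spec hd0).1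
    have hw36 : w36 < 192 := mA_lt h6 h36
    have e1 : h.e 6 * g' * (h.e 6)⁻¹ = h.e d * g' := by
      rw [hd, d6, h.mul _ (mA_lt hl1 hw36) _ (iA_spec (AI_spec hd0).1).1, h.mul _ hl1 _ hw36,
        h.e_inv (AI_spec hd0).1, ← h.conj_e h6 (AI_spec hd0).1, w36, h.mul _ h6 _ h36, ← hact6, h.e_inv h6, hg'2]
      group
    have e2 : h.e 6 * n1g * (h.e 6)⁻¹ = h.e 3 * n1g⁻¹ := by rw [← n1.inv6]; group
    obtain ⟨m1, m2⟩ : F1 (F1 d) ∈ AI ∧ F3 3 ∈ AI :=
      ⟨(AI_spec (AI_spec hdA).2.2.2.1).2.2.2.1, (AI_spec h3A).2.2.2.2.1⟩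
    refine h.inj _ (mA_lt (by norm_num) (AI_spec m1).1) _ (mA_lt (AI_spec hdA).1 (AI_spec m2).1) ?_
    rw [h.mul _ (by norm_num) _ (AI_spec m1).1, h.mul _ (AI_spec hdA).1 _ (AI_spec m2).1, ← (hact' h3A).1,
      ← hact1 hdA]
    have key : h.e 3 * n1g⁻¹ * (h.e d * g') = h.e d * g' * (h.e 3 * n1g⁻¹) := by
      rw [← e1, ← e2, ← conj_mul', ← conj_mul', hcomm]
    have hc' : n1g⁻¹ * g' = g' * n1g⁻¹ := (show Commute n1g g' from hcomm).inv_left.eq
    calc h.e 3 * (n1g⁻¹ * h.e d * n1g) = h.e 3 * n1g⁻¹ * (h.e d * g') * (n1g⁻¹ * g')⁻¹ := by group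
      _ = h.e d * (g' * h.e 3 * g'⁻¹) := by rw [key, hc']; group
  · apply hne
    have h12 : (12 : ℕ) < 192 := by norm_num
    set μ := mA (swbB 12) (iA 6) with hμ
    have hs := (swbB_spec h12)
    have hi6 := iA_spec (show (6 : ℕ) < 192 by norm_num)
    have hμl : μ < 192 := mA_lt hs.1 hi6.1
    have hμi := (iA_spec hμl).1
    obtain ⟨hF, hFb⟩ := F1_lt hμi cμi
    have hFF := (F1_lt hF hFb).1
    have e1 : h.e 12 * g * (h.e 12)⁻¹ = h.e w312 * g⁻¹ := by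
      have hh : h.swap.e (mA (mA μ 3) (F1 (F1 (iA μ)))) = h.e w312 := rfl
      have h12' : h.swap.e (swbB 12) = h.e 12 := by rw [St.swap_e, hs.2]
      rw [← hh, h.swap.mul _ (mA_lt hμl (by norm_num)) _ hFF, h.swap.mul _ hμl _ (by norm_num), ← h12',
        ← n.inv6, ← n.act _ hF hFb, ← n.act _ hμi cμi, h.swap.e_inv hμl, hμ,
        h.swap.mul _ hs.1 _ hi6.1, h.swap.e_inv (show (6 : ℕ) < 192 by norm_num)]
      set m := h.swap.e (swbB 12) * (h.swap.e 6)⁻¹ with hm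
      calc h.swap.e (swbB 12) * g * (h.swap.e (swbB 12))⁻¹
          = m * (h.swap.e rI * g * (h.swap.e rI)⁻¹ * g) * (g⁻¹ * m⁻¹ * g) * g⁻¹ := by rw [hm]; group
        _ = m * (h.swap.e rI * g * (h.swap.e rI)⁻¹ * g) * (g * (g * m⁻¹ * g⁻¹) * g⁻¹) * g⁻¹ := by
            rw [show g * (g * m⁻¹ * g⁻¹) * g⁻¹ = g * g * m⁻¹ * (g * g)⁻¹ by group,
              ← inv_eq_of_mul_eq_one_left n.rot.g3, inv_inv]
    set d := d12 a with hd
    have hl1 : cj 12 (d0f a) < 192 := cj_lt h12 (AI_spec hd0).1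
    have hd00 := (AI_spec (AI_spec hd0).2.2.2.2.1).2.2.2.2.1
    have hw : w312 < 192 := (swbB_spec (mA_lt (mA_lt hμl (by norm_num)) hFF)).1
    have e2 : h.e 12 * g' * (h.e 12)⁻¹ = h.e d * g'⁻¹ := by
      rw [hd, d12, h.mul _ (mA_lt hl1 hw) _ (AI_spec hd00).1, h.mul _ hl1 _ hw, ← (hact' hd0).2,
        ← h.conj_e h12 (AI_spec hd0).1]
      calc h.e 12 * g' * (h.e 12)⁻¹ = h.e 12 * h.e (d0f a) * (h.e 12)⁻¹ * (h.e 12 * g * (h.e 12)⁻¹) := by
            rw [hg'2]; group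
        _ = _ := by rw [e1, hg'2]; group
    obtain ⟨hF12, -⟩ := F1_lt (iA_spec h12).1 c12i
    have e3 : h.e 12 * n1g * (h.e 12)⁻¹ = h.e w12 * n1g := by
      rw [w12, h.mul _ h12 _ hF12, ← n1.act _ (iA_spec h12).1 c12i, h.e_inv h12]; group
    obtain ⟨m1, m2⟩ : F1 d ∈ AI ∧ F3 (F3 w12) ∈ AI :=
      ⟨(AI_spec hdA).2.2.2.1, (AI_spec (AI_spec hwA).2.2.2.2.1).2.2.2.2.1⟩
    refine h.inj _ (mA_lt (AI_spec hwA).1 (AI_spec m1).1) _ (mA_lt (AI_spec hdA).1 (AI_spec m2).1) ?_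
    rw [h.mul _ (AI_spec hwA).1 _ (AI_spec m1).1, h.mul _ (AI_spec hdA).1 _ (AI_spec m2).1, ← (hact' hwA).2,
      ← A1 hdA]
    have key : h.e w12 * n1g * (h.e d * g'⁻¹) = h.e d * g'⁻¹ * (h.e w12 * n1g) := by
      rw [← e2, ← e3, ← conj_mul', ← conj_mul', hcomm]
    have hc' : n1g * g'⁻¹ = g'⁻¹ * n1g := (show Commute n1g g' from hcomm).inv_right.eq
    calc h.e w12 * (n1g * h.e d * n1g⁻¹) = h.e w12 * n1g * (h.e d * g'⁻¹) * (n1g * g'⁻¹)⁻¹ := by group
      _ = h.e d * (g'⁻¹ * h.e w12 * g') := by rw [key, hc']; group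

theorem gens_swap (g1 g3 : G) {k : ℕ} (hk : k < 12) :
    gens h.swap g3 g1 k = gens h g1 g3 (gswap k) := by
  have hs := pair_ok.2.2.2.2.2.2.2.2.2.1
  simp only [List.all_eq_true, List.mem_range, beq_iff_eq] at hs
  rcases lt_or_ge k 8 with h8 | h8
  · have : gswap k < 8 := by interval_cases k <;> decide
    rw [gens, if_pos h8, gens, if_pos this, St.swap_e, hs k h8]
  · interval_cases k <;> simp [gens, gswap]

theorem ev_swap (g1 g3 : G) : ∀ {w : List ℕ}, (∀ s ∈ w, s < 12) →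
    ev (gens h g1 g3) (w.map gswap) = ev (gens h.swap g3 g1) w := by
  intro w
  induction w with
  | nil => intro _; simp [ev]
  | cons s w ih =>
    intro hw
    rw [List.map_cons, ev, ev, ih fun t ht => hw t (List.mem_cons_of_mem _ ht),
      gens_swap h g1 g3 (hw s List.mem_cons_self)]

/-- The relations of the table of 105 cosets hold. -/
theorem pair_rels [Finite G] {g1 g3 : G} (n1 : Nm h g1) (n3 : Nm h.swap g3) (hc : g1 * g3 = g3 * g1) :
    ∀ w ∈ eT.rels, ev (gens h g1 g3) w = 1 := by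
  obtain ⟨-, -, -, -, -, -, -, -, -, -, hall, h1', hM3⟩ := pair_ok
  have hM := seven_ok.2.2.2.2.2.2.2.2.2.2.1
  simp only [List.all_eq_true, Bool.or_eq_true, Bool.and_eq_true, beq_iff_eq, List.contains_eq_mem,
    decide_eq_true_eq, List.any_eq_true] at hall h1' hM3 hM
  have h4 : gi 4 = 2 := seven_ok.2.2.2.2.2.2.2.2.2.2.2.2.2.1
  intro w hw
  rcases hall w hw with (((e | e) | ⟨e1, e2⟩) | e) | ⟨p, hp, e⟩
  · rcases h1' w e with e' | ⟨p, hp, e'⟩
    · simp only [List.mem_cons, List.not_mem_nil, or_false] at e'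
      rcases e' with e' | e' | e' | e' | e' | e' <;> rw [e']
      · simp [ev, gens]
      · simp [ev, gens]
      · simpa [ev, gens, mul_assoc] using n1.rot.g3
      · exact n1.inv_rel g3
      · have := n1.four
        simp only [pow_succ, pow_zero, one_mul] at this
        simpa [ev, gens, h4, mul_assoc] using this
      · exact n1.derived g3
    · obtain ⟨⟨⟨a1, a2⟩, a3⟩, a4⟩ := hM p hp
      rw [e']; exact n1.act_rel g3 a1 a2 a3 a4
  · rw [e]
    simp only [ev, relC, gens]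
    simp only [show ¬ (8 : ℕ) < 8 by norm_num, show ¬ (10 : ℕ) < 8 by norm_num, show ¬ (9 : ℕ) < 8 by norm_num,
      show ¬ (11 : ℕ) < 8 by norm_num, if_false, if_true, show ¬ (10 : ℕ) = 8 by norm_num,
      show ¬ (9 : ℕ) = 8 by norm_num, show ¬ (10 : ℕ) = 9 by norm_num, show ¬ (11 : ℕ) = 8 by norm_num,
      show ¬ (11 : ℕ) = 9 by norm_num, show ¬ (11 : ℕ) = 10 by norm_num, mul_one]
    rw [← mul_assoc g1 g3, hc]; group
  · rw [(ev_table h g1 g3 e1).2, e2, h.e_zero]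
  · simp only [List.mem_cons, List.not_mem_nil, or_false] at e
    have hsw : ∀ v : List ℕ, (∀ s ∈ v, s < 12) → ev (gens h.swap g3 g1) v = 1 → ev (gens h g1 g3) (v.map gswap) = 1 :=
      fun v hv he => (ev_swap h g1 g3 hv).trans he
    rcases e with e | e | e | e | e | e <;> rw [e]
    · simpa [ev, gens, mul_assoc] using n3.rot.g3
    · simp [ev, gens]
    · simp [ev, gens]
    · exact hsw [2, 8, 3, 8, 7, 5] (by decide) (n3.inv_rel g1)
    · refine hsw [4, 8, 4, 8, 4, 8, 4, 8] (by decide) ?_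
      have := n3.four
      simp only [pow_succ, pow_zero, one_mul] at this
      simpa [ev, gens, h4, mul_assoc] using this
    · exact hsw relD (by decide) (n3.derived g1)
  · obtain ⟨⟨⟨a1, a2⟩, a3⟩, a4⟩ := hM3 p hp
    rw [e]
    obtain ⟨b1, b2⟩ := ev_table h g1 g3 a1
    obtain ⟨c1, c2⟩ := ev_table h g1 g3 a2
    obtain ⟨d1, d2⟩ := act3 h n3 b1 a3
    rw [ev, ev_append, ev, b2, c2, ← h.e_zero, ← a4, h.mul _ d1 _ c1, ← d2]
    show g3 * (h.e (evA p.1) * (g3⁻¹ * h.e (evA p.2))) = g3 * h.e (evA p.1) * g3⁻¹ * h.e (evA p.2)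
    group

end Cfsg.Agent.Invol.Cen192.AP
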