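import Cfsg.Agent.Lib.Invol.Cen192.AP.Base

/-! An element of order three rotating `z, b, bz`. -/

set_option autoImplicit false
set_option linter.unusedSectionVars false
set_option maxRecDepth 100000

namespace Cfsg.Agent.Invol.Cen192.AP

/-- positions of the images of the generators -/
def gimg (i0 i j : ℕ) : ℕ → ℕ
  | 0 => 2
  | 1 => 6
  | 2 => i0
  | 3 => i
  | _ => j

theorem gimg_cases : ∀ i0 i j : ℕ, gimg i0 i j 2 = i0 ∧ gimg i0 i j 3 = i ∧ gimg i0 i j 4 = j :=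
  fun _ _ _ => ⟨rfl, rfl, rfl⟩

theorem gimg_zero : ∀ i0 i j : ℕ, gimg i0 i j 0 = 2 ∧ gimg i0 i j 1 = 6 := fun _ _ _ => ⟨rfl, rfl⟩

/-- The image of an element under the map given by images of generators. -/
def img (i0 i j : ℕ) : ℕ → ℕ → ℕ
  | 0, _ => 0
  | n + 1, a => if a = 0 then 0 else mM (img i0 i j n (parM a / 5)) (gimg i0 i j (parM a % 5))

/-- The tree reaches the identity within the fuel. -/
def reach : ℕ → ℕ → Bool
  | 0, a => a == 0
  | n + 1, a => a == 0 || reach n (parM a / 5)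

/-- the involutions -/
def MInv : List ℕ := (List.range 32).filter fun a => !(a == 0) && mM a a == 0

/-- the map given by generators is an automorphism of order three -/
def autoOk (i0 i j : ℕ) : Bool :=
  let f := img i0 i j 7
  ([3, 4, 5].all fun a => f (f (f a)) == a) &&
  ((List.range 5).all fun k => (List.range 32).all fun a =>
    f (mM a (k + 1)) == mM (f a) (gimg i0 i j k)) &&
      (List.range 32).all fun a => f (f (f a)) == a

theorem m_ok : ((List.range 32).all fun a => decide (mi a < 192) && com (mi a) bI && ((List.range 32).all fun b =>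
      decide (mM a b < 32) && mi (mM a b) == mA (mi a) (mi b) && (!(mi a == mi b) || a == b)) &&
        (a == 0 || (decide (parM a / 5 < a) && mM (parM a / 5) (parM a % 5 + 1) == a)) && reach 7 a) = true ∧
    ((List.range 192).all fun i => !(com i bI) || (List.range 32).any fun a => mi a == i) = true ∧
    mi 0 = 0 ∧ mi 1 = zI ∧ mi 2 = bI ∧ mi 6 = bzI ∧ MInv.contains 3 = true ∧ MInv.contains 4 = true ∧
      MInv.contains 5 = true ∧ ((List.range 192).all fun i => !(com i bI) || pwA i 3 == 0) = true := by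
  decide +kernel

theorem cand_ok : (MInv.all fun i0 => MInv.all fun i => MInv.all fun j =>
    !(autoOk i0 i j) || rotL.contains ((List.range 32).map (img i0 i j 7))) = true := by
  decide +kernel

theorem cent_ok : ((List.range 192).all fun i =>
    !(decide (5 ≤ cl i) && decide (cl i ≤ 6)) || (List.range 192).countP (com i) == 16) = true ∧
    (List.range 192).countP (com bI) = 32 := by
  decide +kernel

theorem mi_spec {a : ℕ} (ha : a < 32) : mi a < 192 ∧ com (mi a) bI = true ∧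
    (∀ b < 32, mM a b < 32 ∧ mi (mM a b) = mA (mi a) (mi b) ∧ (mi a = mi b → a = b)) ∧
    (a ≠ 0 → parM a / 5 < a ∧ mM (parM a / 5) (parM a % 5 + 1) = a) ∧ reach 7 a = true := by
  have := m_ok.1
  simp only [List.all_eq_true, List.mem_range, Bool.and_eq_true, Bool.or_eq_true, Bool.not_eq_true',
    beq_eq_false_iff_ne, beq_iff_eq, decide_eq_true_eq] at this
  obtain ⟨⟨⟨⟨h1, h2⟩, h3⟩, h4⟩, h5⟩ := this a ha
  exact ⟨h1, h2, fun b hb => ⟨(h3 b hb).1.1, (h3 b hb).1.2, fun e => (h3 b hb).2.resolve_left fun e' => e' e⟩,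
    fun e => h4.resolve_left e, h5⟩

theorem mi_complete {i : ℕ} (hi : i < 192) (hc : com i bI = true) : ∃ a < 32, mi a = i := by
  have := m_ok.2.1
  simp only [List.all_eq_true, List.any_eq_true, List.mem_range, Bool.or_eq_true, Bool.not_eq_true',
    beq_iff_eq] at this
  exact (this i hi).resolve_left (by simp [hc])

variable {G : Type*} [Group G] (h : St G)

theorem conj_mul' (g a b : G) : g * (a * b) * g⁻¹ = g * a * g⁻¹ * (g * b * g⁻¹) := by group

theorem mi_inj {a b : ℕ} (ha : a < 32) (hb : b < 32) (e : h.e (mi a) = h.e (mi b)) : a = b :=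
  ((mi_spec ha).2.2.1 b hb).2.2 (h.inj _ (mi_spec ha).1 _ (mi_spec hb).1 e)

theorem e_mM {a b : ℕ} (ha : a < 32) (hb : b < 32) : h.e (mi (mM a b)) = h.e (mi a) * h.e (mi b) := by
  rw [((mi_spec ha).2.2.1 b hb).2.1, h.mul _ (mi_spec ha).1 _ (mi_spec hb).1]

theorem St.bz_eq : h.e bzI = h.e bI * h.e zI ∧ h.e bzI = h.e zI * h.e bI :=
  ⟨b_ok.2.2.1 ▸ h.mul _ (by decide) _ zI_lt, b_ok.2.2.2.1 ▸ h.mul _ zI_lt _ (by decide)⟩

/-- The data of a rotation. -/
structure Rot (g : G) : Prop where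
  gz : g * h.e zI * g⁻¹ = h.e bI
  gb : g * h.e bI * g⁻¹ = h.e bzI
  g3 : g * g * g = 1

/-- An element of order three rotating `z, b, bz`. -/
theorem exists_rot [Finite G] (hb : IsConj (h.e zI) (h.e bI)) : ∃ g : G, Rot h g := by
  have hb0 : bI < 192 := by decide
  obtain ⟨x, hx⟩ := isConj_iff.1 hb
  have hzb : h.e zI * h.e bI = h.e bI * h.e zI := (h.com_iff zI_lt hb0).2 b_ok.2.2.2.2
  obtain ⟨j, hj, hje⟩ := h.mem_cent (x := x⁻¹ * h.e zI * x) (by
    rw [← hx] at hzb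
    calc x⁻¹ * h.e zI * x * h.e zI = x⁻¹ * (h.e zI * (x * h.e zI * x⁻¹)) * x := by group
      _ = h.e zI * (x⁻¹ * h.e zI * x) := by rw [hzb]; group)
  have hjo : orderOf (h.e j) = 2 := by
    rw [hje]; simpa using (orderOf_conj_eq x⁻¹ (h.e zI)).trans h.ord_z
  obtain ⟨hj1, hj6⟩ := (h.sq_iff hj).1 hjo
  have hj4 : 2 ≤ cl j ∧ cl j ≤ 4 := by
    obtain ⟨c16, c32⟩ := cent_ok
    simp only [List.all_eq_true, List.mem_range, Bool.or_eq_true, Bool.not_eq_true', Bool.and_eq_false_iff,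
      decide_eq_false_iff_not, beq_iff_eq] at c16
    have hcount : (List.range 192).countP (com j) = 32 := by
      rw [← c32, ← h.card_cent hj, ← h.card_cent hb0]
      refine Nat.card_congr ((MulAut.conj x).toEquiv.subtypeEquiv fun a => ?_)
      simp only [MulEquiv.toEquiv_eq_coe, EquivLike.coe_coe, MulAut.conj_apply, hje, ← hx]
      constructor
      · rintro ⟨h1, h2⟩
        exact ⟨by
          calc x * a * x⁻¹ * h.e zI = x * (a * (x⁻¹ * h.e zI * x)) * x⁻¹ := by group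
            _ = h.e zI * (x * a * x⁻¹) := by rw [h2]; group, by
          calc x * a * x⁻¹ * (x * h.e zI * x⁻¹) = x * (a * h.e zI) * x⁻¹ := by group
            _ = x * h.e zI * x⁻¹ * (x * a * x⁻¹) := by rw [h1]; group⟩
      · rintro ⟨h1, h2⟩
        exact ⟨by
          calc a * h.e zI = x⁻¹ * (x * a * x⁻¹ * (x * h.e zI * x⁻¹)) * x := by group
            _ = h.e zI * a := by rw [h2]; group, by
          calc a * (x⁻¹ * h.e zI * x) = x⁻¹ * (x * a * x⁻¹ * h.e zI) * x := by group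
            _ = x⁻¹ * h.e zI * x * a := by rw [h1]; group⟩
    refine ⟨?_, ?_⟩
    · by_contra hlt
      have hjz : j = zI := (cl_spec hj).2.2.1 (by omega)
      have h1 : h.e bI = h.e zI := by
        rw [← hx]
        nth_rewrite 1 [show h.e zI = x⁻¹ * h.e zI * x from (congrArg h.e hjz).symm.trans hje]
        group
      exact absurd (h.inj _ hb0 _ zI_lt h1) (by decide)
    · by_contra hgt
      rcases c16 j hj with (e | e) | e <;> omega
  have hz := jz_ok
  simp only [List.all_eq_true, List.any_eq_true, List.mem_range, Bool.or_eq_true, Bool.not_eq_true',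
    Bool.and_eq_false_iff, decide_eq_false_iff_not, beq_iff_eq] at hz
  obtain ⟨t, ht, hte⟩ := (hz j hj).resolve_left (by omega)
  obtain ⟨k, hk, hk1, hk2⟩ := swapb_ok
  have htj : h.e t * h.e j * (h.e t)⁻¹ = h.e j * h.e zI := by rw [h.conj_e ht hj, hte, h.mul j hj _ zI_lt]
  have hkb : h.e k * h.e bI * (h.e k)⁻¹ = h.e bzI := by rw [h.conj_e hk hb0, hk1]
  have hkbz : h.e k * h.e bzI * (h.e k)⁻¹ = h.e bI := by rw [h.conj_e hk (by decide), hk2]
  have hkz : h.e k * h.e zI * (h.e k)⁻¹ = h.e zI := mul_inv_eq_iff_eq_mul.2 (h.e_comm_z hk)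
  have htz : h.e t * h.e zI * (h.e t)⁻¹ = h.e zI := mul_inv_eq_iff_eq_mul.2 (h.e_comm_z ht)
  set u := x * h.e t * x⁻¹ with hu
  have hu1 : u * h.e zI * u⁻¹ = h.e bzI := by
    calc u * h.e zI * u⁻¹ = x * (h.e t * (x⁻¹ * h.e zI * x) * (h.e t)⁻¹) * x⁻¹ := by rw [hu]; group
      _ = h.e bzI := by
        rw [← hje, htj, h.bz_eq.2, ← hx, hje]; group
  have hu2 : u * h.e bI * u⁻¹ = h.e bI := by
    rw [← hx]
    calc u * (x * h.e zI * x⁻¹) * u⁻¹ = x * (h.e t * h.e zI * (h.e t)⁻¹) * x⁻¹ := by rw [hu]; group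
      _ = x * h.e zI * x⁻¹ := by rw [htz]
  have hu3 : u * h.e bzI * u⁻¹ = h.e zI := by
    nth_rewrite 1 [h.bz_eq.1]
    rw [conj_mul', hu2, hu1, h.bz_eq.1, ← mul_assoc]
    have hb2 : h.e bI * h.e bI = 1 := (Cfsg.Agent.Invol.orderOf_two_iff.1 ((h.sq_iff hb0).2 (by rw [b_ok.1]; decide))).1
    rw [hb2, one_mul]
  set g0 := h.e k * u with hg0
  have e1 : g0 * h.e zI * g0⁻¹ = h.e bI := by rw [hg0, ← hkbz, ← hu1]; group
  have e2 : g0 * h.e bI * g0⁻¹ = h.e bzI := by
    calc g0 * h.e bI * g0⁻¹ = h.e k * (u * h.e bI * u⁻¹) * (h.e k)⁻¹ := by rw [hg0]; group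
      _ = h.e bzI := by rw [hu2, hkb]
  have e3 : g0 * h.e bzI * g0⁻¹ = h.e zI := by
    calc g0 * h.e bzI * g0⁻¹ = h.e k * (u * h.e bzI * u⁻¹) * (h.e k)⁻¹ := by rw [hg0]; group
      _ = h.e zI := by rw [hu3, hkz]
  have h3z : g0 ^ 3 * h.e zI = h.e zI * g0 ^ 3 := by
    refine mul_inv_eq_iff_eq_mul.1 ?_
    calc g0 ^ 3 * h.e zI * (g0 ^ 3)⁻¹ = g0 * (g0 * (g0 * h.e zI * g0⁻¹) * g0⁻¹) * g0⁻¹ := by
          rw [pow_three]; group
      _ = h.e zI := by rw [e1, e2, e3]
  have h3b : g0 ^ 3 * h.e bI = h.e bI * g0 ^ 3 := by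
    refine mul_inv_eq_iff_eq_mul.1 ?_
    calc g0 ^ 3 * h.e bI * (g0 ^ 3)⁻¹ = g0 * (g0 * (g0 * h.e bI * g0⁻¹) * g0⁻¹) * g0⁻¹ := by
          rw [pow_three]; group
      _ = h.e bI := by rw [e2, e3, e1]
  obtain ⟨i, hi, hie⟩ := h.mem_cent h3z
  have h4 := m_ok.2.2.2.2.2.2.2.2.2
  simp only [List.all_eq_true, List.mem_range, Bool.or_eq_true, Bool.not_eq_true', beq_iff_eq] at h4
  have hcom : com i bI = true := (h.com_iff hi hb0).1 (hie ▸ h3b)
  have hpw : ∀ n, pwA i n < 192 ∧ h.e (pwA i n) = h.e i ^ (n + 1) := by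
    intro n
    induction n with
    | zero => exact ⟨hi, by simp [pwA]⟩
    | succ n ih => exact ⟨mA_lt ih.1 hi, by rw [pwA, h.mul _ ih.1 _ hi, ih.2, ← pow_succ]⟩
  have h12 : g0 ^ 12 = 1 := by
    have := (hpw 3).2
    rw [(h4 i hi).resolve_left (by simp [hcom]), h.e_zero, hie, ← pow_mul] at this
    exact this.symm
  refine ⟨g0 ^ 4, ?_, ?_, ?_⟩
  · rw [pow_succ' g0 3]
    calc g0 * g0 ^ 3 * h.e zI * (g0 * g0 ^ 3)⁻¹ = g0 * (g0 ^ 3 * h.e zI) * (g0 ^ 3)⁻¹ * g0⁻¹ := by group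
      _ = g0 * h.e zI * g0⁻¹ := by rw [h3z]; group
      _ = h.e bI := e1
  · rw [pow_succ' g0 3]
    calc g0 * g0 ^ 3 * h.e bI * (g0 * g0 ^ 3)⁻¹ = g0 * (g0 ^ 3 * h.e bI) * (g0 ^ 3)⁻¹ * g0⁻¹ := by group
      _ = g0 * h.e bI * g0⁻¹ := by rw [h3b]; group
      _ = h.e bzI := e2
  · rw [← pow_add, ← pow_add]
    exact h12

namespace Rot

variable {h} {g : G} (r : Rot h g)
include r

theorem gbz : g * h.e bzI * g⁻¹ = h.e zI := by
  nth_rewrite 1 [h.bz_eq.1]
  rw [conj_mul', r.gb, r.gz, h.bz_eq.2, mul_assoc,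
    (Cfsg.Agent.Invol.orderOf_two_iff.1 ((h.sq_iff (by decide : bI < 192)).2 (by rw [b_ok.1]; decide))).1, mul_one]

/-- The rotation acts on the centraliser of `⟨z, b⟩`. -/
theorem map_M {a : ℕ} (ha : a < 32) : ∃ b < 32, h.e (mi b) = g * h.e (mi a) * g⁻¹ := by
  obtain ⟨hl, hc, -, -⟩ := mi_spec ha
  have h1 := h.e_comm_z hl
  have h2 := (h.com_iff hl (by decide : bI < 192)).2 hc
  have h3 : h.e (mi a) * h.e bzI = h.e bzI * h.e (mi a) := by
    rw [h.bz_eq.1, ← mul_assoc, h2, mul_assoc, h1, mul_assoc]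
  obtain ⟨i, hi, hie⟩ := h.mem_cent (x := g * h.e (mi a) * g⁻¹) (by
    rw [← r.gbz, ← conj_mul', ← conj_mul', h3])
  have hib : com i bI = true := by
    rw [← h.com_iff hi (by decide : bI < 192), hie, ← r.gz, ← conj_mul', ← conj_mul', h1]
  obtain ⟨b, hb, rfl⟩ := mi_complete hi hib
  exact ⟨b, hb, hie⟩

/-- The rotation is one of the maps of the table. -/
theorem exists_img : ∃ f ∈ rotL, ∀ a < 32, f.getD a 0 < 32 ∧ h.e (mi (f.getD a 0)) = g * h.e (mi a) * g⁻¹ := by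
  choose f hf hfe using fun a : Fin 32 => r.map_M a.2
  let F : ℕ → ℕ := fun a => if ha : a < 32 then f ⟨a, ha⟩ else 0
  have hF : ∀ {a : ℕ}, a < 32 → F a < 32 ∧ h.e (mi (F a)) = g * h.e (mi a) * g⁻¹ := fun {a} ha => by
    simp only [F, dif_pos ha]; exact ⟨hf _, hfe _⟩
  clear_value F
  have hFm : ∀ {a b : ℕ}, a < 32 → b < 32 → F (mM a b) = mM (F a) (F b) := fun {a b} ha hb => by
    have hab := ((mi_spec ha).2.2.1 b hb).1
    refine mi_inj h (hF hab).1 ((mi_spec (hF ha).1).2.2.1 _ (hF hb).1).1 ?_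
    rw [(hF hab).2, e_mM h ha hb, e_mM h (hF ha).1 (hF hb).1, (hF ha).2, (hF hb).2, conj_mul']
  obtain ⟨k0, k1, k2, k3, g3, g4, g5, -⟩ := m_ok.2.2
  have h12 : (6 : ℕ) < 32 := by norm_num
  have hF0 : F 0 = 0 := mi_inj h (hF (by norm_num)).1 (by norm_num) (by
    rw [(hF (by norm_num)).2, k0, h.e_zero]; group)
  have hF1 : F 1 = 2 := mi_inj h (hF (by norm_num)).1 (by norm_num) (by rw [(hF (by norm_num)).2, k1, k2, r.gz])
  have hF2 : F 2 = 6 := mi_inj h (hF (by norm_num)).1 h12 (by rw [(hF (by norm_num)).2, k2, k3, r.gb])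
  have hMInv : ∀ {a : ℕ}, MInv.contains a = true → F a ∈ MInv := fun {a} hm => by
    simp only [MInv, List.contains_eq_mem, decide_eq_true_eq, List.mem_filter, List.mem_range, Bool.and_eq_true,
      beq_iff_eq, Bool.not_eq_true', beq_eq_false_iff_ne] at hm ⊢
    obtain ⟨ha, hne, hsq⟩ := hm
    refine ⟨(hF ha).1, fun e => hne (mi_inj h ha (by norm_num) ?_), by rw [← hFm ha ha, hsq, hF0]⟩
    have := (hF ha).2
    rw [e, k0, h.e_zero, eq_comm, conj_eq_one_iff] at this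
    rw [this, k0, h.e_zero]
  have hgi : ∀ k < 5, gimg (F 3) (F 4) (F 5) k = F (k + 1) := by
    intro k hk
    obtain ⟨e2, e3, e4⟩ := gimg_cases (F 3) (F 4) (F 5)
    obtain ⟨e0, e1⟩ := gimg_zero (F 3) (F 4) (F 5)
    interval_cases k
    · rw [e0, show (0 : ℕ) + 1 = 1 from rfl, hF1]
    · rw [e1, show (1 : ℕ) + 1 = 2 from rfl, hF2]
    · exact e2
    · exact e3
    · exact e4
  have himg : ∀ n a, a < 32 → reach n a = true → img (F 3) (F 4) (F 5) n a = F a := by
    intro n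
    induction n with
    | zero =>
      intro a ha hr
      simp only [reach, beq_iff_eq] at hr
      simp [hr, img, hF0]
    | succ n ih =>
      intro a ha hr
      by_cases h0 : a = 0
      · simp [h0, img, hF0]
      simp only [reach, Bool.or_eq_true, beq_iff_eq] at hr
      obtain ⟨hp, hpe⟩ := (mi_spec ha).2.2.2.1 h0
      rw [img, if_neg h0, ih _ (by omega) (hr.resolve_left h0)]
      conv_rhs => rw [← hpe]
      have hk : parM a % 5 < 5 := Nat.mod_lt _ (by norm_num)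
      rw [hFm (by omega) (by omega), hgi _ hk]
  have himg7 : ∀ {a : ℕ}, a < 32 → img (F 3) (F 4) (F 5) 7 a = F a := fun {a} ha =>
    himg 7 a ha (mi_spec ha).2.2.2.2
  have hget : ∀ {a : ℕ}, a < 32 → ((List.range 32).map (img (F 3) (F 4) (F 5) 7)).getD a 0 = F a := fun {a} ha => by
    rw [List.getD_eq_getElem _ _ (by simpa using ha), List.getElem_map, List.getElem_range, himg7 ha]
  refine ⟨(List.range 32).map (img (F 3) (F 4) (F 5) 7), ?_, fun a ha => by rw [hget ha]; exact hF ha⟩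
  have hc := cand_ok
  simp only [List.all_eq_true, Bool.or_eq_true, Bool.not_eq_true', List.contains_eq_mem, decide_eq_true_eq] at hc
  refine (hc _ (hMInv g3) _ (hMInv g4) _ (hMInv g5)).resolve_left ?_
  rw [Bool.not_eq_false]
  simp only [autoOk, Bool.and_eq_true, List.all_eq_true, List.mem_range, beq_iff_eq]
  have hcube : ∀ a < 32, F (F (F a)) = a := fun a ha => by
    refine mi_inj h (hF (hF (hF ha).1).1).1 ha ?_
    rw [(hF (hF (hF ha).1).1).2, (hF (hF ha).1).2, (hF ha).2]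
    calc g * (g * (g * h.e (mi a) * g⁻¹) * g⁻¹) * g⁻¹ = (g * g * g) * h.e (mi a) * (g * g * g)⁻¹ := by group
      _ = h.e (mi a) := by rw [r.g3]; group

  have h3 : ∀ a < 32, img (F 3) (F 4) (F 5) 7 (img (F 3) (F 4) (F 5) 7 (img (F 3) (F 4) (F 5) 7 a)) = a :=
    fun a ha => by rw [himg7 ha, himg7 (hF ha).1, himg7 (hF (hF ha).1).1, hcube a ha]
  refine ⟨⟨fun a ha => h3 a ?_, fun k hk a ha => ?_⟩, h3⟩
  · simp only [List.mem_cons, List.not_mem_nil, or_false] at ha; omega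
  · rw [himg7 ((mi_spec ha).2.2.1 _ (by omega)).1, himg7 ha, hgi k hk, hFm ha (by omega)]

end Rot

end Cfsg.Agent.Invol.Cen192.AP
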