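import Cfsg.Agent.Lib.Invol.Cen192.AP.Norm

/-! The derived relation of a normalised rotation, by a labelled table. -/

set_option autoImplicit false
set_option linter.unusedSectionVars false
set_option maxRecDepth 100000

namespace Cfsg.Agent.Invol.Cen192.AP

open Cfsg.Agent.Invol
open Cfsg.Agent.Spor.Coset (ev ev_append)

/-- the value of a word of table generators -/
def evA : List ℕ → ℕ
  | [] => 0
  | s :: w => mA (gi s) (evA w)

/-- the action of a generator on the eight -/
def sAct (s i : ℕ) : ℕ := if s < 8 then cj (gi s) i else if s == 8 then F1 i else F1 (F1 i)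

/-- the action of a word on the eight -/
def wAct : List ℕ → ℕ → ℕ
  | [], i => i
  | s :: w, i => sAct s (wAct w i)

/-- the action of a representative on the eight -/
def repAct : ℕ → ℕ → ℕ → ℕ
  | 0, _, i => i
  | f + 1, b, i => if b = 0 then i else repAct f (tT7.par b / 10) (sAct (tT7.par b % 10) i)

/-- the value of a relation at a coset -/
def val7 (t j a0 : ℕ) : ℕ :=
  if j < 24 then 0 else if j == 24 then repAct a0 a0 (eps.getD t 0) else gi (j - 25)

/-- Labelled walk by edges of rank below `r`. -/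
def lwalk (t r : ℕ) : ℕ → List ℕ → ℕ × ℕ
  | a, [] => (a, 0)
  | a, s :: w =>
    if decide (a < 7) && decide (s < 10) && decide (tT7.rank a s < r) then
      ((lwalk t r (tT7.tgt a s) w).1, mA (lb t a s) (lwalk t r (tT7.tgt a s) w).2)
    else (7, 0)

/-- Check of a labelled edge. -/
def edge7 (t a s : ℕ) : Bool :=
  decide (tT7.tgt a s < 7) && decide (lb t a s < 192) &&
    if tT7.wit a s == 0 then !(tT7.tgt a s == 0) && tT7.par (tT7.tgt a s) == a * 10 + s && lb t a s == 0
    else if tT7.wit a s == 1 then decide (tT7.rank (tT7.tgt a s) (giv s) < tT7.rank a s) &&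
      tT7.tgt (tT7.tgt a s) (giv s) == a && lb t a s == iA (lb t (tT7.tgt a s) (giv s))
    else
      let c := tT7.wit a s - 2
      let k := c % 64
      let j := c / 64 % 33
      let a0 := c / 64 / 33
      let w := (tT7.rels ++ tT7.sub).getD j []
      decide (a0 < 7) && (decide (j < 25) || a0 == 0) && decide (k < w.length) && w.getD k 10 == s &&
        (lwalk t (tT7.rank a s) a0 (w.take k)).1 == a &&
        (lwalk t (tT7.rank a s) (tT7.tgt a s) (w.drop (k + 1))).1 == a0 &&
        mA (mA (lwalk t (tT7.rank a s) a0 (w.take k)).2 (lb t a s))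
          (lwalk t (tT7.rank a s) (tT7.tgt a s) (w.drop (k + 1))).2 == val7 t j a0

theorem seven_ok : ((List.range 7).all fun t => (List.range 7).all fun a => (List.range 10).all fun s =>
      edge7 t a s) = true ∧
    ((List.range 7).all fun t => let p := bad7.getD t (0, 0)
      decide (p.1 < 7) && decide (p.2 < 24) && (lwalk t 1000 p.1 (tT7.rels.getD p.2 [])).1 == p.1 &&
        !((lwalk t 1000 p.1 (tT7.rels.getD p.2 [])).2 == 0)) = true ∧
    ((List.range 7).all fun b => b == 0 || decide (tT7.par b / 10 < b)) = true ∧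
    eps.length = 7 ∧ (EI.all fun i => i == 0 || eps.contains i) = true ∧ (eps.all fun i => EI.contains i) = true ∧
    ((List.range 10).all fun s => EI.all fun i => EI.contains (sAct s i)) = true ∧
    (EI.all fun i => wAct relD i == i) = true ∧
    (tT7.rels.length = 25 ∧ tT7.sub = (List.range 8).map (fun k => [k]) ∧ tT7.rels.getD 24 [] = relD) ∧
    ((List.range 24).all fun j => let w := tT7.rels.getD j []
      (w.all (fun s => decide (s < 8)) && evA w == 0) || [[8, 8, 8], [8, 9], [9, 8], [2, 8, 3, 8, 7, 5],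
        [4, 8, 4, 8, 4, 8, 4, 8]].contains w || relM.any fun p => w == 8 :: (p.1 ++ 9 :: p.2)) = true ∧
    (relM.all fun p => p.1.all (fun s => decide (s < 8)) && p.2.all (fun s => decide (s < 8)) &&
      com (evA p.1) bI && mA (F1 (evA p.1)) (evA p.2) == 0) = true ∧
    ((List.range 8).all fun k => decide (gi k < 192) && iA (gi k) == gi (giv k)) = true ∧
    (gi 2 = 6 ∧ gi 4 = 2 ∧ gi 3 = iA 6 ∧ mA (gi 7) (gi 5) = iA 3) := by
  decide +kernel

variable {G : Type*} [Group G] (h : St G)

/-- the generators -/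
def gens (g g' : G) (k : ℕ) : G :=
  if k < 8 then h.e (gi k) else if k = 8 then g else if k = 9 then g⁻¹ else if k = 10 then g' else g'⁻¹

theorem gi_lt {k : ℕ} (hk : k < 8) : gi k < 192 := by
  have := seven_ok.2.2.2.2.2.2.2.2.2.2.2.1
  simp only [List.all_eq_true, List.mem_range, Bool.and_eq_true, decide_eq_true_eq] at this
  exact (this k hk).1

theorem ev_table (g g' : G) : ∀ {w : List ℕ}, (∀ s ∈ w, s < 8) → evA w < 192 ∧ ev (gens h g g') w = h.e (evA w) := by
  intro w
  induction w with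
  | nil => intro _; exact ⟨by norm_num [evA], by simp [ev, evA, h.e_zero]⟩
  | cons s w ih =>
    intro hw
    have hs := hw s List.mem_cons_self
    obtain ⟨h1, h2⟩ := ih fun t ht => hw t (List.mem_cons_of_mem _ ht)
    exact ⟨mA_lt (gi_lt hs) h1, by rw [ev, evA, h2, h.mul _ (gi_lt hs) _ h1, gens, if_pos hs]⟩

theorem gens_inv (g g' : G) {s : ℕ} (hs : s < 12) : gens h g g' s * gens h g g' (giv s) = 1 := by
  have hk := seven_ok.2.2.2.2.2.2.2.2.2.2.2.1
  simp only [List.all_eq_true, List.mem_range, Bool.and_eq_true, decide_eq_true_eq, beq_iff_eq] at hk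
  rcases lt_or_ge s 8 with h8 | h8
  · have hg : giv s < 8 := by interval_cases s <;> decide
    rw [gens, if_pos h8, gens, if_pos hg, ← (hk s h8).2, h.e_inv (gi_lt h8), mul_inv_cancel]
  · interval_cases s <;> simp [gens, giv]

namespace Nm

variable {h} {g : G} (n : Nm h g)
include n

theorem sAct_eq {s i : ℕ} (hs : s < 10) (hi : i ∈ EI) (g' : G) :
    sAct s i ∈ EI ∧ gens h g g' s * h.e i * (gens h g g' s)⁻¹ = h.e (sAct s i) := by
  have hE := seven_ok.2.2.2.2.2.2.1
  simp only [List.all_eq_true, List.mem_range, List.contains_eq_mem, decide_eq_true_eq] at hE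
  refine ⟨hE s hs i hi, ?_⟩
  rcases lt_or_ge s 8 with h8 | h8
  · rw [gens, if_pos h8, sAct, if_pos h8, h.conj_e (gi_lt h8) (EI_com i hi).1]
  interval_cases s
  · simpa [gens, sAct] using n.g_act hi
  · have h1 : F1 i ∈ EI := by simpa [sAct] using hE 8 (by norm_num) i hi
    show g⁻¹ * h.e i * g⁻¹⁻¹ = h.e (F1 (F1 i))
    rw [show g⁻¹ = g * g from inv_eq_of_mul_eq_one_left n.rot.g3, ← n.g_act h1, ← n.g_act hi]
    group

theorem wAct_eq (g' : G) : ∀ (w : List ℕ), (∀ s ∈ w, s < 10) → ∀ i ∈ EI,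
    wAct w i ∈ EI ∧ ev (gens h g g') w * h.e i * (ev (gens h g g') w)⁻¹ = h.e (wAct w i)
  | [], _, i, hi => ⟨hi, by simp [ev, wAct]⟩
  | s :: w, hw, i, hi => by
    obtain ⟨h1, h2⟩ := wAct_eq g' w (fun t ht => hw t (List.mem_cons_of_mem _ ht)) i hi
    obtain ⟨h3, h4⟩ := n.sAct_eq (hw s List.mem_cons_self) h1 g'
    exact ⟨h3, by rw [ev, wAct, ← h4, ← h2]; group⟩

theorem repAct_eq : ∀ (f b i : ℕ), b < 7 → i ∈ EI → repAct f b i ∈ EI ∧
    tT7.repAux (gens h g 1) f b * h.e i * (tT7.repAux (gens h g 1) f b)⁻¹ = h.e (repAct f b i)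
  | 0, b, i, _, hi => ⟨hi, by simp [repAct, HJ.Uniq.Tab.repAux]⟩
  | f + 1, b, i, hb, hi => by
    rw [repAct, HJ.Uniq.Tab.repAux]
    by_cases h0 : b = 0
    · simp [h0, hi]
    have hp := seven_ok.2.2.1
    simp only [List.all_eq_true, List.mem_range, Bool.or_eq_true, beq_iff_eq, decide_eq_true_eq] at hp
    have hlt := (hp b hb).resolve_left h0
    rw [if_neg h0, if_neg h0]
    obtain ⟨h1, h2⟩ := n.sAct_eq (s := tT7.par b % 10) (Nat.mod_lt _ (by norm_num)) hi 1
    obtain ⟨h3, h4⟩ := repAct_eq f (tT7.par b / 10) _ (by omega) h1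
    refine ⟨h3, ?_⟩
    rw [← h4, ← h2]
    show tT7.repAux _ f (tT7.par b / 10) * gens h g 1 (tT7.par b % 10) * _ *
      (tT7.repAux _ f (tT7.par b / 10) * gens h g 1 (tT7.par b % 10))⁻¹ = _
    group

/-- A relation with a table word and the action. -/
theorem act_rel (g' : G) {a b : List ℕ} (ha : ∀ s ∈ a, s < 8) (hb : ∀ s ∈ b, s < 8) (hc : com (evA a) bI = true)
    (he : mA (F1 (evA a)) (evA b) = 0) : ev (gens h g g') (8 :: (a ++ 9 :: b)) = 1 := by
  obtain ⟨ha1, ha2⟩ := ev_table h g g' ha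
  obtain ⟨hb1, hb2⟩ := ev_table h g g' hb
  obtain ⟨hF, -⟩ := F1_lt ha1 hc
  rw [ev, ev_append, ev, ha2, hb2, ← h.e_zero, ← he, h.mul _ hF _ hb1, ← n.act _ ha1 hc]
  show g * (h.e (evA a) * (g⁻¹ * h.e (evA b))) = g * h.e (evA a) * g⁻¹ * h.e (evA b)
  group

/-- The inversion relation. -/
theorem inv_rel (g' : G) : ev (gens h g g') [2, 8, 3, 8, 7, 5] = 1 := by
  obtain ⟨a2, -, a3, a75⟩ := seven_ok.2.2.2.2.2.2.2.2.2.2.2.2
  have h75 : h.e (gi 7) * h.e (gi 5) = (h.e 3)⁻¹ := by
    rw [← h.mul _ (gi_lt (by norm_num)) _ (gi_lt (by norm_num)), a75, h.e_inv (by norm_num)]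
  show h.e (gi 2) * (g * (h.e (gi 3) * (g * (h.e (gi 7) * (h.e (gi 5) * 1))))) = 1
  rw [mul_one, h75, a2, a3, h.e_inv (by norm_num)]
  calc h.e 6 * (g * ((h.e 6)⁻¹ * (g * (h.e 3)⁻¹))) = h.e 6 * g * (h.e 6)⁻¹ * g * (h.e 3)⁻¹ := by group
    _ = 1 := by rw [show h.e 6 * g * (h.e 6)⁻¹ * g = h.e 3 from n.inv6, mul_inv_cancel]

/-- The derived relation. -/
theorem derived [Finite G] (g' : G) : ev (gens h g g') relD = 1 := by
  obtain ⟨hedge, hbad, hpar, he7, heI, heE, -, hD, ⟨hrl, hsub, h24⟩, hrel, hM, -⟩ := seven_ok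
  simp only [List.all_eq_true, List.mem_range, Bool.or_eq_true, Bool.and_eq_true, beq_iff_eq,
    decide_eq_true_eq, List.contains_eq_mem, List.any_eq_true] at hedge hbad hpar heI heE hD hrel hM
  have hsame : ev (gens h g g') relD = ev (gens h g 1) relD := by simp [ev, relD, gens]
  rw [hsame]
  have hD10 : ∀ s ∈ relD, s < 10 := by decide
  obtain ⟨ε, hε, hεe⟩ := n.mem_eight (x := ev (gens h g 1) relD) fun i hi => by
    rw [(n.wAct_eq 1 relD hD10 i hi).2, hD i hi]
  rcases heI ε hε with h0 | h0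
  · rw [← hεe, h0, h.e_zero]
  exfalso
  obtain ⟨t, ht0, htε⟩ := List.getElem_of_mem h0
  have ht : t < 7 := he7 ▸ ht0
  have hget : eps.getD t 0 = ε := (List.getD_eq_getElem _ _ ht0).trans htε
  -- values of the relations
  have hrels : ∀ j < 24, ev (gens h g 1) (tT7.rels.getD j []) = 1 := by
    intro j hj
    rcases hrel j hj with (⟨hw, he⟩ | hw) | ⟨p, hp, hw⟩
    · rw [(ev_table h g 1 hw).2, he, h.e_zero]
    · simp only [List.mem_cons, List.not_mem_nil, or_false] at hw
      rcases hw with e | e | e | e | e <;> rw [e]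
      · simpa [ev, gens, mul_assoc] using n.rot.g3
      · simp [ev, gens]
      · simp [ev, gens]
      · exact n.inv_rel 1
      · have := n.four
        simp only [pow_succ, pow_zero, one_mul] at this
        simpa [ev, gens, seven_ok.2.2.2.2.2.2.2.2.2.2.2.2.2.1, mul_assoc] using this
    · obtain ⟨⟨⟨h1, h2⟩, h3⟩, h4⟩ := hM p hp
      rw [hw]; exact n.act_rel 1 h1 h2 h3 h4
  have hval : ∀ j a0, j < 33 → a0 < 7 → (j < 25 ∨ a0 = 0) → val7 t j a0 < 192 ∧
      tT7.rep (gens h g 1) a0 * ev (gens h g 1) ((tT7.rels ++ tT7.sub).getD j []) =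
        h.e (val7 t j a0) * tT7.rep (gens h g 1) a0 := by
    intro j a0 hj ha0 hor
    rcases lt_or_ge j 25 with h25 | h25
    · rw [List.getD_append _ _ _ _ (by omega)]
      rcases lt_or_ge j 24 with hlt | hge
      · rw [hrels j hlt, val7, if_pos hlt, h.e_zero]
        exact ⟨by norm_num, by group⟩
      · obtain rfl : j = 24 := by omega
        obtain ⟨h1, h2⟩ := n.repAct_eq a0 a0 _ ha0 (heE _ h0)
        rw [h24, ← hεe, val7, if_neg (by norm_num), if_pos (by rfl), hget, ← h2]
        exact ⟨(EI_com _ h1).1, by rw [HJ.Uniq.Tab.rep]; group⟩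
    · obtain rfl : a0 = 0 := hor.resolve_left (by omega)
      obtain ⟨k, hk, rfl⟩ : ∃ k < 8, j = k + 25 := ⟨j - 25, by omega, by omega⟩
      rw [List.getD_append_right _ _ _ _ (by omega), hrl, show k + 25 - 25 = k by omega, hsub,
        List.getD_eq_getElem _ _ (by simpa using hk), List.getElem_map, List.getElem_range, val7,
        if_neg (by omega), if_neg (by simp), show k + 25 - 25 = k by omega]
      exact ⟨gi_lt hk, by simp [ev, gens, hk, HJ.Uniq.Tab.rep_zero]⟩
  let Holds : ℕ → ℕ → Prop := fun a s =>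
    tT7.rep (gens h g 1) a * gens h g 1 s = h.e (lb t a s) * tT7.rep (gens h g 1) (tT7.tgt a s)
  have walk : ∀ {r : ℕ}, (∀ a < 7, ∀ s < 10, tT7.rank a s < r → Holds a s) → ∀ (w : List ℕ) (a : ℕ),
      (lwalk t r a w).1 < 7 → (lwalk t r a w).2 < 192 ∧ tT7.rep (gens h g 1) a * ev (gens h g 1) w =
        h.e (lwalk t r a w).2 * tT7.rep (gens h g 1) (lwalk t r a w).1 := by
    intro r hr w
    induction w with
    | nil => intro a _; simp [lwalk, ev, h.e_zero]
    | cons s w ih =>
      intro a hlt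
      rw [lwalk] at hlt ⊢
      split_ifs at hlt ⊢ with hc
      · simp only [Bool.and_eq_true, decide_eq_true_eq] at hc
        obtain ⟨h1, h2⟩ := ih _ hlt
        have hl := (hedge t ht a hc.1.1 s hc.1.2)
        simp only [edge7, Bool.and_eq_true, decide_eq_true_eq] at hl
        refine ⟨mA_lt hl.1.2 h1, ?_⟩
        rw [h.mul _ hl.1.2 _ h1, ev, ← mul_assoc, hr a hc.1.1 s hc.1.2 hc.2, mul_assoc, h2, mul_assoc]
      · exact absurd hlt (lt_irrefl _)
  have hold : ∀ r, ∀ a < 7, ∀ s < 10, tT7.rank a s = r → Holds a s := by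
    intro r
    induction r using Nat.strong_induction_on with
    | _ r ih =>
      intro a ha s hs hr
      have hlow : ∀ a' < 7, ∀ s' < 10, tT7.rank a' s' < tT7.rank a s → Holds a' s' :=
        fun a' ha' s' hs' hlt => ih _ (hr ▸ hlt) a' ha' s' hs' rfl
      have he := hedge t ht a ha s hs
      simp only [edge7, Bool.and_eq_true, decide_eq_true_eq] at he
      obtain ⟨⟨htg, hlb⟩, he⟩ := he
      show _ = _
      split_ifs at he with w0 w1
      · simp only [Bool.and_eq_true, Bool.not_eq_true', beq_eq_false_iff_ne, beq_iff_eq] at he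
        obtain ⟨⟨hne, hp⟩, hl⟩ := he
        rw [hl, h.e_zero, one_mul]
        obtain ⟨c, hc⟩ : ∃ c, tT7.tgt a s = c + 1 := ⟨tT7.tgt a s - 1, by omega⟩
        rw [hc] at hp htg ⊢
        show _ = tT7.repAux (gens h g 1) (c + 1) (c + 1)
        rw [HJ.Uniq.Tab.repAux, if_neg (by omega)]
        show _ = tT7.repAux _ c (tT7.par (c + 1) / tT7.n) * gens h g 1 (tT7.par (c + 1) % tT7.n)
        rw [show tT7.par (c + 1) / tT7.n = a by show _ / 10 = a; omega,
          show tT7.par (c + 1) % tT7.n = s by show _ % 10 = s; omega]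
        congr 1
        have hmono : ∀ (f b : ℕ), b < 7 → b ≤ f →
            tT7.repAux (gens h g 1) f b = tT7.repAux (gens h g 1) b b := by
          intro f
          induction f using Nat.strong_induction_on with
          | _ f ihf =>
            intro b hb hbf
            rcases f with _ | f
            · rw [Nat.le_zero.mp hbf]
            rcases b with _ | b
            · simp [HJ.Uniq.Tab.repAux]
            have hp' := (hpar (b + 1) hb).resolve_left (by omega)
            simp only [HJ.Uniq.Tab.repAux, Nat.add_one_ne_zero, if_false]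
            congr 1
            have hn : tT7.n = 10 := rfl
            rw [ihf f (Nat.lt_succ_self f) _ (by rw [hn]; omega) (by rw [hn]; omega)]
            rcases Nat.lt_or_ge b f with hlt | hge
            · rw [ihf b (by omega) _ (by rw [hn]; omega) (by rw [hn]; omega)]
            · rw [show b = f by omega]
              rw [show b = f by omega] at hp' hb
              rw [ihf f (Nat.lt_succ_self f) _ (by rw [hn]; omega) (by rw [hn]; omega)]
        have hp' := (hpar (c + 1) htg).resolve_left (by omega)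
        rw [HJ.Uniq.Tab.rep, hmono c a ha (by omega)]
      · simp only [Bool.and_eq_true, decide_eq_true_eq, beq_iff_eq] at he
        obtain ⟨⟨hrk, hback⟩, hl⟩ := he
        have hiv : giv s < 10 := by interval_cases s <;> decide
        have h1 : tT7.rep (gens h g 1) (tT7.tgt a s) * gens h g 1 (giv s) =
            h.e (lb t (tT7.tgt a s) (giv s)) * tT7.rep (gens h g 1) (tT7.tgt (tT7.tgt a s) (giv s)) :=
          hlow _ htg _ hiv hrk
        rw [hback] at h1
        have hl' := hedge t ht _ htg _ hiv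
        simp only [edge7, Bool.and_eq_true, decide_eq_true_eq] at hl'
        rw [hl, h.e_inv hl'.1.2, eq_inv_mul_iff_mul_eq, ← mul_assoc, ← h1,
          mul_assoc, mul_eq_one_comm.1 (gens_inv h g 1 (show s < 12 by omega)), mul_one]
      · simp only [Bool.and_eq_true, decide_eq_true_eq, Bool.or_eq_true, beq_iff_eq] at he
        obtain ⟨⟨⟨⟨⟨⟨ha0, hj⟩, hk⟩, hs'⟩, hw1⟩, hw2⟩, hv⟩ := he
        generalize tT7.wit a s - 2 = code at *
        have hj33 : code / 64 % 33 < 33 := Nat.mod_lt _ (by norm_num)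
        generalize code / 64 / 33 = a0 at *
        generalize code / 64 % 33 = j at *
        generalize code % 64 = k at *
        obtain ⟨l1, e1⟩ := walk hlow ((tT7.rels ++ tT7.sub).getD j [] |>.take k) a0 (by rw [hw1]; exact ha)
        obtain ⟨l2, e2⟩ := walk hlow ((tT7.rels ++ tT7.sub).getD j [] |>.drop (k + 1)) (tT7.tgt a s)
          (by rw [hw2]; exact ha0)
        obtain ⟨-, e3⟩ := hval j a0 hj33 ha0 hj
        rw [hw1] at e1; rw [hw2] at e2
        generalize hW : (tT7.rels ++ tT7.sub).getD j [] = W at *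
        have hdec : W = W.take k ++ s :: W.drop (k + 1) := by
          rw [List.getD_eq_getElem _ _ hk] at hs'
          rw [← hs', List.getElem_cons_drop, List.take_append_drop]
        rw [hdec, ev_append, ev, ← mul_assoc, e1, ← hv, h.mul _ (mA_lt l1 hlb) _ l2, h.mul _ l1 _ hlb] at e3
        simp only [mul_assoc, mul_right_inj] at e3
        rw [← e2] at e3
        simp only [← mul_assoc, mul_left_inj] at e3
        exact e3
  obtain ⟨⟨⟨hp1, hp2⟩, hpe⟩, hne⟩ := hbad t ht
  obtain ⟨l1, e1⟩ := walk (r := 1000) (fun a ha s hs _ => hold _ a ha s hs rfl)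
    (tT7.rels.getD (bad7.getD t (0, 0)).2 []) _ (by rw [hpe]; exact hp1)
  rw [hpe, hrels _ hp2, mul_one, eq_comm, mul_eq_right, h.e_eq_one l1] at e1
  rw [e1] at hne
  simp at hne

end Nm

end Cfsg.Agent.Invol.Cen192.AP
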