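import Cfsg.Agent.Lib.Invol.Cen192.AP.Halve
import Cfsg.Agent.Lib.Invol.StronglyEmbeddedCount

/-! A subgroup containing the table, the rotations and the centraliser of `a` is everything. -/

set_option autoImplicit false
set_option linter.unusedSectionVars false
set_option maxRecDepth 100000

namespace Cfsg.Agent.Invol.Cen192.AP

open Cfsg.Agent.Invol

theorem link_ok : ((List.range 192).any fun i => com i bI && cl i == 5 && cl (F1 i) == 2) = true ∧
    ((List.range 192).any fun i => com i bI && cl i == 6 && cl (F1 i) == 4) = true := by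
  decide +kernel

variable {G : Type*} [Group G] {h : St G} {g1 g3 : G} (c : Cfg h g1 g3)
include c

/-- A subgroup with the table, the rotations and the centraliser of `a` is everything. -/
theorem Cfg.top_of_XC [Finite G] {H : Subgroup G} (hL : ∀ i < 192, h.e i ∈ H) (hg1 : g1 ∈ H) (hg3 : g3 ∈ H)
    (hX : XC h ≤ H) : H = ⊤ := by
  classical
  have toRp : ∀ {i : ℕ}, i < 192 → 1 ≤ cl i → cl i ≤ 6 → ∃ d ∈ H, d * h.e i * d⁻¹ = h.e (rp (cl i)) := by
    intro i hi h1 h6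
    have := rep_ok
    simp only [List.all_eq_true, List.any_eq_true, List.mem_range, Bool.or_eq_true, Bool.not_eq_true',
      Bool.and_eq_false_iff, decide_eq_false_iff_not, beq_iff_eq] at this
    obtain ⟨k, hk, e⟩ := (this i hi).resolve_left (by omega)
    exact ⟨h.e k, hL k hk, by rw [h.conj_e hk hi, e]⟩
  have via : ∀ {k l : ℕ}, ((List.range 192).any fun i => com i bI && cl i == k && cl (F1 i) == l) = true →
      1 ≤ k → k ≤ 6 → 1 ≤ l → l ≤ 6 → ∃ d ∈ H, d * h.e (rp k) * d⁻¹ = h.e (rp l) := by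
    intro k l e hk1 hk6 hl1 hl6
    simp only [List.any_eq_true, List.mem_range, Bool.and_eq_true, beq_iff_eq] at e
    obtain ⟨i, hi, ⟨hib, hik⟩, hil⟩ := e
    obtain ⟨hF, -⟩ := F1_lt hi hib
    obtain ⟨d, hd, hde⟩ := toRp hi (by omega) (by omega)
    obtain ⟨d', hd', hde'⟩ := toRp hF (by omega) (by omega)
    rw [hik] at hde; rw [hil] at hde'
    refine ⟨d' * g1 * d⁻¹, mul_mem (mul_mem hd' hg1) (inv_mem hd), ?_⟩
    rw [← hde, show d' * g1 * d⁻¹ * (d * h.e i * d⁻¹) * (d' * g1 * d⁻¹)⁻¹ =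
      d' * (g1 * h.e i * g1⁻¹) * d'⁻¹ by group, c.n1.act i hi hib, hde']
  have h3 : ∃ d ∈ H, d * h.e (rp 3) * d⁻¹ = h.e zI := by
    refine ⟨g1⁻¹, inv_mem hg1, ?_⟩
    show g1⁻¹ * h.e bI * g1⁻¹⁻¹ = h.e zI
    rw [← c.n1.rot.gz]; group
  have h4 : ∃ d ∈ H, d * h.e (rp 4) * d⁻¹ = h.e zI := by
    refine ⟨g3⁻¹, inv_mem hg3, ?_⟩
    have := c.n3.rot.gz
    rw [St.swap_e, St.swap_e, pair_ok.2.1, pair_ok.2.2.2.1] at this
    show g3⁻¹ * h.e BI * g3⁻¹⁻¹ = h.e zI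
    rw [← this]; group
  have hrep : ∀ t ∈ H, orderOf t = 2 → ∃ d ∈ H, d * t * d⁻¹ = h.e zI ∨ d * t * d⁻¹ = h.e aI := by
    intro t ht ht2
    have hS0 : S0 h ≤ H := by rintro x ⟨i, hi, rfl⟩; exact hL i (SI_lt hi)
    obtain ⟨i, hi, ⟨hi1, hi6⟩, k, hk, hke⟩ := h.invol_conj_in hS0 ht2 ht
    obtain ⟨d, hd, hde⟩ := toRp (SI_lt hi) hi1 hi6
    have base : d * k * t * (d * k)⁻¹ = h.e (rp (cl i)) := by
      rw [show d * k * t * (d * k)⁻¹ = d * (k * t * k⁻¹) * d⁻¹ by group, hke, hde]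
    have comb : ∀ {r : G}, (∃ d' ∈ H, d' * h.e (rp (cl i)) * d'⁻¹ = r) → ∃ d ∈ H, d * t * d⁻¹ = r := by
      rintro r ⟨d', hd', e⟩
      exact ⟨d' * (d * k), mul_mem hd' (mul_mem hd hk), by rw [← e, ← base]; group⟩
    have : cl i = 1 ∨ cl i = 2 ∨ cl i = 3 ∨ cl i = 4 ∨ cl i = 5 ∨ cl i = 6 := by omega
    rcases this with e | e | e | e | e | e
    · exact ⟨d * k, mul_mem hd hk, Or.inl (by rw [base, e]; rfl)⟩
    · exact ⟨d * k, mul_mem hd hk, Or.inr (by rw [base, e]; rfl)⟩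
    · obtain ⟨x, hx, hxe⟩ := comb (by rw [e]; exact h3)
      exact ⟨x, hx, Or.inl hxe⟩
    · obtain ⟨x, hx, hxe⟩ := comb (by rw [e]; exact h4)
      exact ⟨x, hx, Or.inl hxe⟩
    · obtain ⟨x, hx, hxe⟩ := comb (by
        rw [e]; exact via link_ok.1 (by norm_num) (by norm_num) (by norm_num) (by norm_num))
      exact ⟨x, hx, Or.inr hxe⟩
    · obtain ⟨d1, hd1, e1⟩ := via link_ok.2 (by norm_num) (by norm_num) (by norm_num) (by norm_num)
      obtain ⟨d2, hd2, e2⟩ := h4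
      obtain ⟨x, hx, hxe⟩ := comb (r := h.e zI) ⟨d2 * d1, mul_mem hd2 hd1, by
        rw [e, ← e2, ← e1]; group⟩
      exact ⟨x, hx, Or.inl hxe⟩
  have hza : ¬ IsConj (h.e zI) (h.e aI) := c.na
  by_contra htop
  have hev : Even (Nat.card H) := by
    rw [even_iff_two_dvd]
    have := Subgroup.orderOf_dvd_natCard H (hL zI zI_lt)
    rwa [h.ord_z] at this
  have hse : Cfsg.IsStronglyEmbedded H := by
    refine (isStronglyEmbedded_iff htop hev).2 fun t ht ht2 a ha' => ?_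
    obtain ⟨k, hk, hke⟩ := hrep t ht ht2
    obtain ⟨k', hk', hke'⟩ := hrep _ ha' (by
      have := orderOf_conj_eq a⁻¹ t
      rw [inv_inv] at this
      rw [this, ht2])
    have hback : k' * a⁻¹ * k⁻¹ ∈ H → a ∈ H := fun e => by
      have := mul_mem (mul_mem (inv_mem hk') e) hk
      rwa [show k'⁻¹ * (k' * a⁻¹ * k⁻¹) * k = a⁻¹ by group, inv_mem_iff] at this
    have mix : ∀ {u v : G}, k * t * k⁻¹ = u → k' * (a⁻¹ * t * a) * k'⁻¹ = v →
        k' * a⁻¹ * k⁻¹ * u * (k' * a⁻¹ * k⁻¹)⁻¹ = v := fun e1 e2 => by rw [← e1, ← e2]; group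
    refine hback ?_
    rcases hke with e | e <;> rcases hke' with e' | e'
    · obtain ⟨i, hi, hie⟩ := h.mem_cent (mul_inv_eq_iff_eq_mul.1 (mix e e'))
      exact hie ▸ hL i hi
    · exact absurd (isConj_iff.2 ⟨_, mix e e'⟩) hza
    · exact absurd (isConj_iff.2 ⟨_, mix e e'⟩ : IsConj _ _).symm hza
    · exact hX ((mem_XC h).2 (mul_inv_eq_iff_eq_mul.1 (mix e e')))
  exact hza (isConj_involutions hse h.ord_z ((h.sq_iff (by decide : aI < 192)).2 (by decide +kernel)))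

end Cfsg.Agent.Invol.Cen192.AP
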