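import Cfsg.Agent.Lib.Invol.Cen192.AP.Top
import Cfsg.Agent.Lib.Invol.Cen192.AP.Alt8
import Cfsg.Agent.Lib.Invol.V4Simple

/-! The subgroup of index eight in the centraliser of `a`, acting on five points. -/

set_option autoImplicit false
set_option linter.unusedSectionVars false
set_option linter.style.haveILetI false
set_option maxRecDepth 100000

namespace Cfsg.Agent.Invol.Cen192.AP

open Cfsg.Agent.Invol
open scoped Pointwise

/-- the elements attached to the points -/
def vPt : List ℕ := [39, 57, 186, 0]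

/-- the rotation on the four-group -/
def c13 (i : ℕ) : ℕ := F1 (F3 (F3 i))

/-- the code of `g₁g₃⁻¹` -/
def d13 (k : Fin 8) : Fin 8 := wdig [8, 11] k

/-- the model relation between an element and the rotation -/
def twOk (x w0 : ℕ) (e : Bool) : Bool :=
  (List.finRange 8).all fun k => dig (pCode x) (d13 k) ==
    (if e then dig (pCode w0) (d13 (dig (pCode x) k)) else dig (pCode w0) (d13 (d13 (dig (pCode x) k))))

/-- the fixed element of the twisted rotation -/
def fixOf (w0 : ℕ) (e : Bool) (u : ℕ) : Bool := mA w0 (if e then c13 u else c13 (c13 u)) == u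

/-- the element attached to the image of the fixed point -/
def wOf (x : ℕ) : ℕ :=
  (V2I.find? fun u => V2I.any fun w0 => [true, false].any fun e => twOk x w0 e && fixOf w0 e u).getD 0

/-- the image of a point under an element of the table -/
def thP (x : ℕ) (i : Fin 5) : Fin 5 :=
  if i.val = 4 then 4 else ⟨vPt.idxOf (mA (cj x (vPt.getD i.val 0)) (wOf x)) % 5, Nat.mod_lt _ (by norm_num)⟩

/-- the image of the rotation -/
def th13 : Equiv.Perm (Fin 5) := Equiv.swap 0 1 * Equiv.swap 0 2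

/-- the image of the last generator -/
def thq : Equiv.Perm (Fin 5) := Equiv.swap 0 4 * Equiv.swap 0 1

theorem xk_ok : (PI.all fun x => V2I.any fun w0 => [true, false].any fun e => twOk x w0 e &&
      V2I.all fun u => !(fixOf w0 e u) || u == wOf x) = true ∧
    (PI.all fun x => V2I.all fun v => V2I.contains (cj x v) && V2I.contains (mA (cj x v) (wOf x))) = true ∧
    (V2I.all fun v => AI.contains v && V2I.contains (c13 v) && V2I.contains (mA v v) && PI.contains v &&
      V2I.any fun u => mA v (c13 u) == u) = true ∧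
    (∀ i : Fin 4, (th13 i.castSucc).val = vPt.idxOf (c13 (vPt.getD i.val 0))) ∧
    (th13 4 = 4 ∧ Equiv.Perm.sign thq = 1 ∧ Equiv.Perm.sign th13 = 1 ∧ thq 4 ≠ 4) ∧
    (mA 186 aI = zI ∧ cl 186 = 2 ∧ c13 39 = 186 ∧ c13 186 = 57 ∧ (V2I.all fun v => c13 v == v → v == 0) = true) ∧
    ((List.range 192).all fun x => !(com x zI && com x aI) || PI.contains x) = true ∧
    (vPt.Nodup ∧ (∀ u ∈ V2I, u ∈ vPt) ∧ (∀ u ∈ vPt, u ∈ V2I) ∧ mA 39 39 = 0 ∧ mA 186 186 = 0) := by
  decide +kernel

variable {G : Type*} [Group G] (h : St G)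

/-- the four-group -/
def V2S : Subgroup G := lS h V2I (by simp)

theorem mem_V2S {x : G} : x ∈ V2S h ↔ ∃ i ∈ V2I, h.e i = x := Iff.rfl

theorem V2_spec {v : ℕ} (hv : v ∈ V2I) :
    v < 192 ∧ v ∈ AI ∧ v ∈ PI ∧ c13 v ∈ V2I ∧ ∃ u ∈ V2I, mA v (c13 u) = u := by
  have := xk_ok.2.2.1
  simp only [List.all_eq_true, List.any_eq_true, Bool.and_eq_true, List.contains_eq_mem, decide_eq_true_eq,
    beq_iff_eq] at this
  obtain ⟨⟨⟨⟨h1, h2⟩, -⟩, h3⟩, h4⟩ := this v hv
  exact ⟨(PI_spec h3).1, h1, h3, h2, h4⟩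

theorem vPt_spec {i : ℕ} (hi : i < 4) : vPt.getD i 0 ∈ V2I := by
  refine xk_ok.2.2.2.2.2.2.2.2.2.1 _ ?_
  have hl : vPt.length = 4 := rfl
  rw [List.getD_eq_getElem _ _ (by omega)]
  exact List.getElem_mem _

variable {h} {g1 g3 : G}

/-- The subgroup of index eight is of order twelve or sixty. -/
structure Big (c : Cfg h g1 g3) (m : ℕ) (K : Subgroup G) : Prop where
  odd : Odd m
  cardX : Nat.card (XC h) = 32 * m
  lv : Lvl h g1 g3 m K V2I

namespace Big

variable {c : Cfg h g1 g3} {m : ℕ} {K : Subgroup G} (B : Big c m K)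
include B

theorem vK {v : ℕ} (hv : v ∈ V2I) : h.e v ∈ K := (B.lv.mem v (V2_spec hv).2.2.1).2 hv

theorem rot_e {v : ℕ} (hv : v ∈ V2I) : g1 * g3⁻¹ * h.e v * (g1 * g3⁻¹)⁻¹ = h.e (c13 v) :=
  (c.act13 (V2_spec hv).2.1).2

theorem cent186 {x : G} (hx : x ∈ K) (hc : x * h.e 186 = h.e 186 * x) : x ∈ V2S h := by
  obtain ⟨⟨e186, -⟩, hP, -⟩ := xk_ok.2.2.2.2.2
  have hz : x * h.e zI = h.e zI * x := by
    rw [← e186, h.mul 186 (by norm_num) aI (by decide), ← mul_assoc, hc, mul_assoc, (mem_XC h).1 (B.lv.le hx),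
      mul_assoc]
  obtain ⟨i, hi, rfl⟩ := h.mem_cent hz
  simp only [List.all_eq_true, List.mem_range, Bool.or_eq_true, Bool.not_eq_true', Bool.and_eq_false_iff,
    List.contains_eq_mem, decide_eq_true_eq] at hP
  have hiP : i ∈ PI := by
    refine (hP i hi).resolve_left ?_
    rintro (e | e)
    · rw [(h.com_iff hi zI_lt).1 hz] at e; exact Bool.noConfusion e
    · rw [(h.com_iff hi (by decide)).1 ((mem_XC h).1 (B.lv.le hx))] at e; exact Bool.noConfusion e
  exact ⟨i, (B.lv.mem i hiP).1 hx, rfl⟩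

variable [Finite G]

theorem sylowK : ∃ P : Sylow 2 K, (P : Subgroup K) = (V2S h).subgroupOf K := by
  refine M12.sylow_of (fun x ⟨i, hi, e⟩ => e ▸ B.vK hi) (n := 2) ?_ ?_ B.odd
  · rw [V2S, card_lS]; rfl
  · rw [V2S, card_lS]; exact B.lv.card

theorem card_C : Nat.card (Subgroup.centralizer ({(⟨h.e 186, B.vK (by decide)⟩ : K)} : Set K)) = 4 := by
  refine Eq.trans ?_ ((card_lS h (l := V2I) (by simp)).trans (rfl : V2I.length = 4))
  exact Nat.card_congr
    { toFun := fun x => ⟨((x : K) : G), B.cent186 (x : K).2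
        (congrArg Subtype.val (Subgroup.mem_centralizer_singleton_iff.1 x.2))⟩
      invFun := fun x => ⟨⟨x.1, by obtain ⟨i, hi, e⟩ := x.2; exact e ▸ B.vK hi⟩,
        Subgroup.mem_centralizer_singleton_iff.2 (Subtype.ext (by
          obtain ⟨i, hi, e⟩ := x.2
          show x.1 * h.e 186 = h.e 186 * x.1
          rw [← e]
          exact (sixteen_mul h (V2_spec hi).2.1 (V2_spec (by decide : 186 ∈ V2I)).2.1).2.1))⟩
      left_inv := fun _ => rfl
      right_inv := fun _ => rfl }

theorem exp_two : ∀ x ∈ Subgroup.centralizer ({(⟨h.e 186, B.vK (by decide)⟩ : K)} : Set K), x * x = 1 := by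
  intro x hx
  obtain ⟨i, hi, e⟩ := B.cent186 x.2 (congrArg Subtype.val (Subgroup.mem_centralizer_singleton_iff.1 hx))
  refine Subtype.ext ?_
  show (x : G) * x = 1
  rw [← e]
  exact (sixteen_mul h (V2_spec hi).2.1 (V2_spec hi).2.1).2.2

theorem one_class (u : K) (hu : orderOf u = 2) : IsConj (⟨h.e 186, B.vK (by decide)⟩ : K) u := by
  haveI : Fact (Nat.Prime 2) := ⟨Nat.prime_two⟩
  obtain ⟨P2, hP2⟩ := B.sylowK
  obtain ⟨Q, hQ⟩ := (IsPGroup.of_card (n := 1) (by rw [Nat.card_zpowers, hu, pow_one]) :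
    IsPGroup 2 (Subgroup.zpowers u)).exists_le_sylow
  obtain ⟨a, ha⟩ := MulAction.exists_smul_eq K Q P2
  have hmem : a * u * a⁻¹ ∈ (P2 : Subgroup K) := by
    rw [← ha, Sylow.coe_subgroup_smul]; exact ⟨u, hQ (Subgroup.mem_zpowers u), rfl⟩
  rw [hP2, Subgroup.mem_subgroupOf, mem_V2S] at hmem
  obtain ⟨i, hi, hie⟩ := hmem
  obtain ⟨⟨-, -, e39, e186, -⟩, -⟩ := xk_ok.2.2.2.2.2
  have hgK := B.lv.g13
  obtain ⟨k, hk, hke⟩ : ∃ k ∈ K, k * h.e 186 * k⁻¹ = h.e i := by
    have h1 := B.rot_e (v := 186) (by decide)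
    rw [e186] at h1
    have h2 := B.rot_e (v := 39) (by decide)
    rw [e39] at h2
    simp only [V2I, List.mem_cons, List.not_mem_nil, or_false] at hi
    rcases hi with rfl | rfl | rfl | rfl
    · exfalso
      rw [h.e_zero] at hie
      have e' : a * u * a⁻¹ = 1 := Subtype.ext hie.symm
      rw [conj_eq_one_iff] at e'
      rw [e', orderOf_one] at hu; omega
    · exact ⟨(g1 * g3⁻¹)⁻¹, inv_mem hgK, by rw [← h2]; group⟩
    · exact ⟨g1 * g3⁻¹, hgK, h1⟩
    · exact ⟨1, one_mem _, by group⟩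
  refine (isConj_iff.2 ⟨⟨k, hk⟩, ?_⟩).trans (isConj_iff.2 ⟨a⁻¹, ?_⟩ : IsConj (a * u * a⁻¹) u)
  · exact Subtype.ext (hke.trans hie)
  · group

theorem ord186 : orderOf (⟨h.e 186, B.vK (by decide)⟩ : K) = 2 := by
  rw [← Subgroup.orderOf_coe]
  exact (h.sq_iff (by norm_num)).2 (by rw [xk_ok.2.2.2.2.2.1.2.1]; decide)

theorem cases : Nat.card K = 12 ∨ Nat.card K = 60 :=
  Cfsg.Agent.Invol.V4Order.order_eq _ B.ord186 B.card_C B.exp_two B.one_class

theorem simple (h60 : Nat.card K = 60) : IsSimpleGroup K :=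
  Cfsg.Agent.Invol.V4Order.simple_of_sixty B.ord186 B.card_C B.exp_two B.one_class h60

theorem rot_ne : g1 * g3⁻¹ ≠ 1 := fun e => by
  have h1 := B.rot_e (v := 39) (by decide)
  rw [e, one_mul, inv_one, mul_one, xk_ok.2.2.2.2.2.1.2.2.1] at h1
  exact absurd (h.inj 39 (by norm_num) 186 (by norm_num) h1) (by norm_num)

theorem rot_order : orderOf (g1 * g3⁻¹) = 3 := by
  haveI : Fact (Nat.Prime 3) := ⟨Nat.prime_three⟩
  exact orderOf_eq_prime (by rw [pow_succ, pow_two]; exact c.g13_cube) B.rot_ne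

/-- In the small case the centraliser of `a` is generated by known elements. -/
theorem small (h12 : Nat.card K = 12) {H : Subgroup G} (hL : ∀ i < 192, h.e i ∈ H) (hg1 : g1 ∈ H) (hg3 : g3 ∈ H) :
    XC h ≤ H := by
  have hm : m = 3 := by
    have := B.lv.card
    rw [h12, show V2I.length = 4 from rfl] at this
    omega
  have hX : Nat.card (XC h) = 96 := by rw [B.cardX, hm]
  have hP : lS h PI (by simp) ≤ XC h ⊓ H := by
    rintro x ⟨i, hi, rfl⟩
    exact Subgroup.mem_inf.2 ⟨(mem_XC h).2 ((h.com_iff (PI_spec hi).1 (by decide)).2 (PI_spec hi).2), hL i (PI_spec hi).1⟩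
  have hg : g1 * g3⁻¹ ∈ XC h ⊓ H := Subgroup.mem_inf.2 ⟨c.g13_XC, mul_mem hg1 (inv_mem hg3)⟩
  have h32 : 32 ∣ Nat.card (XC h ⊓ H : Subgroup G) := by
    have := Subgroup.card_dvd_of_le hP
    rwa [card_lS, halve_ok.2.2.2.2.1.1] at this
  have h3 : 3 ∣ Nat.card (XC h ⊓ H : Subgroup G) := B.rot_order ▸ Subgroup.orderOf_dvd_natCard _ hg
  have h96 : 96 ∣ Nat.card (XC h ⊓ H : Subgroup G) :=
    (Nat.Coprime.mul_dvd_of_dvd_of_dvd (by norm_num : Nat.Coprime 32 3) h32 h3)
  have heq := Subgroup.eq_of_le_of_card_ge (inf_le_left : XC h ⊓ H ≤ XC h)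
    (by rw [hX]; exact Nat.le_of_dvd Nat.card_pos h96)
  exact heq ▸ inf_le_right

theorem norm (h60 : Nat.card K = 60) {x k : G} (hx : x ∈ XC h) (hk : k ∈ K) : x * k * x⁻¹ ∈ K := by
  haveI := B.simple h60
  set K0 := Subgroup.closure {y : G | y ∈ XC h ∧ y * y * y = 1} with hK0
  have hle : K0 ≤ K := (Subgroup.closure_le _).2 fun y hy => B.lv.three y hy.1 hy.2
  have hconj : ∀ y ∈ XC h, ∀ k ∈ K0, y * k * y⁻¹ ∈ K0 := by
    intro y hy k hk
    induction hk using Subgroup.closure_induction with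
    | mem z hz =>
      refine Subgroup.subset_closure ⟨mul_mem (mul_mem hy hz.1) (inv_mem hy), ?_⟩
      calc y * z * y⁻¹ * (y * z * y⁻¹) * (y * z * y⁻¹) = y * (z * z * z) * y⁻¹ := by group
        _ = 1 := by rw [hz.2]; group
    | one => simp
    | mul a b _ _ ha hb => rw [conj_mul']; exact mul_mem ha hb
    | inv a _ ha => rw [show y * a⁻¹ * y⁻¹ = (y * a * y⁻¹)⁻¹ by group]; exact inv_mem ha
  have hn : (K0.subgroupOf K).Normal := ⟨fun a ha y => hconj y (B.lv.le y.2) a ha⟩
  have hKK : K ≤ K0 := by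
    rcases hn.eq_bot_or_eq_top with e | e
    · exfalso
      have : (⟨g1 * g3⁻¹, B.lv.g13⟩ : K) ∈ K0.subgroupOf K := Subgroup.subset_closure ⟨c.g13_XC, c.g13_cube⟩
      rw [e, Subgroup.mem_bot] at this
      exact B.rot_ne (congrArg Subtype.val this)
    · exact Subgroup.subgroupOf_eq_top.1 e
  exact hle (hconj x hx k (hKK hk))

/-- The action on five points. -/
theorem exists_theta (h60 : Nat.card K = 60) {φ : alternatingGroup (Fin 8) →* G}
    (hφ : ∀ k < 12, φ (m8 k) = gens h g1 g3 k) (hφL : ∀ i < 192, φ (p8 i) = h.e i) :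
    ∃ θ : XC h →* Equiv.Perm (Fin 5), (∀ k : XC h, (k : G) ∈ K → θ k = 1 → k = 1) ∧
      (∀ i ∈ PI, ∃ hx : h.e i ∈ XC h, ∀ p, θ ⟨h.e i, hx⟩ p = thP i p) ∧ θ ⟨g1 * g3⁻¹, c.g13_XC⟩ = th13 ∧
      ∀ σ : Equiv.Perm (Fin 5), Equiv.Perm.sign σ = 1 → ∃ k : XC h, (k : G) ∈ K ∧ θ k = σ := by
  classical
  haveI : Fact (Nat.Prime 2) := ⟨Nat.prime_two⟩
  haveI := B.simple h60
  obtain ⟨h1, h2, -, hth, ⟨hth4, -, -, -⟩, -, -, hnd, hmV, -, -⟩ := xk_ok
  simp only [List.all_eq_true, List.any_eq_true, Bool.and_eq_true, Bool.or_eq_true, Bool.not_eq_true',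
    List.contains_eq_mem, decide_eq_true_eq, beq_iff_eq] at h1 h2
  let cX : XC h →* MulAut K :=
    { toFun := fun x =>
        { toFun := fun k => ⟨(x : G) * k * (x : G)⁻¹, B.norm h60 x.2 k.2⟩
          invFun := fun k => ⟨(x : G)⁻¹ * k * x, by simpa using B.norm h60 (inv_mem x.2) k.2⟩
          left_inv := fun k => Subtype.ext (by simp [mul_assoc])
          right_inv := fun k => Subtype.ext (by simp [mul_assoc])
          map_mul' := fun k l => Subtype.ext (conj_mul' (x : G) k l) }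
      map_one' := by ext k; simp
      map_mul' := fun x y => by ext k; simp [mul_assoc] }
  have hcX : ∀ (x : XC h) (k : K), ((cX x k : K) : G) = (x : G) * k * (x : G)⁻¹ := fun _ _ => rfl
  obtain ⟨U0, hU0⟩ := B.sylowK
  have hV4 : Nat.card (V2S h) = 4 := by rw [V2S, card_lS]; rfl
  have hVK : V2S h ≤ K := fun x ⟨i, hi, e⟩ => e ▸ B.vK hi
  let act : XC h → Sylow 2 K → Sylow 2 K := fun x Q => cX x • Q
  have amul : ∀ x y Q, act (x * y) Q = act x (act y Q) := fun x y Q => by
    show cX (x * y) • Q = _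
    rw [map_mul, mul_smul]
  have aone : ∀ Q, act 1 Q = Q := fun Q => by
    show cX 1 • Q = Q
    rw [map_one, one_smul]
  have amem : ∀ (x : XC h) (Q : Sylow 2 K) (k : K), k ∈ (Q : Subgroup K) → cX x k ∈ (act x Q : Subgroup K) :=
    fun x Q k hk => ⟨k, hk, rfl⟩
  -- normalisers of the four-group fix its point
  have fix0 : ∀ x : XC h, (∀ v ∈ V2I, (x : G) * h.e v * (x : G)⁻¹ ∈ V2S h) → act x U0 = U0 := by
    intro x hx
    refine Sylow.ext (Subgroup.eq_of_le_of_card_ge ?_ (le_of_eq ?_))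
    · rintro _ ⟨k, hk, rfl⟩
      have hk' : k ∈ (V2S h).subgroupOf K := hU0 ▸ hk
      obtain ⟨v, hv, e⟩ := Subgroup.mem_subgroupOf.1 hk'
      show _ ∈ (U0 : Subgroup K)
      rw [hU0, Subgroup.mem_subgroupOf]
      show (x : G) * k * (x : G)⁻¹ ∈ V2S h
      rw [← e]; exact hx v hv
    · exact Nat.card_congr ((U0 : Subgroup K).equivMapOfInjective _ (cX x).injective).toEquiv
  have hPX : ∀ {i : ℕ}, i ∈ PI → h.e i ∈ XC h := fun hi =>
    (mem_XC h).2 ((h.com_iff (PI_spec hi).1 (by decide)).2 (PI_spec hi).2)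
  let ve : ℕ → XC h := fun v => if hv : v ∈ PI then ⟨h.e v, hPX hv⟩ else 1
  have hve : ∀ {v : ℕ}, v ∈ PI → (ve v : G) = h.e v := fun hv => by simp [ve, hv]
  let g : XC h := ⟨g1 * g3⁻¹, c.g13_XC⟩
  have ve_mul : ∀ {v w : ℕ}, v ∈ PI → w ∈ PI → mA v w ∈ PI → ve (mA v w) = ve v * ve w := fun hv hw hvw =>
    Subtype.ext (by rw [hve hvw, Subgroup.coe_mul, hve hv, hve hw, h.mul _ (PI_spec hv).1 _ (PI_spec hw).1])
  have hV2mul : ∀ {v w : ℕ}, v ∈ V2I → w ∈ V2I → mA v w ∈ V2I := by
    have : ∀ v ∈ V2I, ∀ w ∈ V2I, mA v w ∈ V2I := by decide +kernel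
    exact fun {v w} hv hw => this v hv w hw
  have g0 : act g U0 = U0 := fix0 g fun v hv => ⟨_, (V2_spec hv).2.2.2.1, (B.rot_e hv).symm⟩
  have v0 : ∀ {v : ℕ}, v ∈ PI → act (ve v) U0 = U0 := fun {v} hv => fix0 _ fun w hw => by
    rw [hve hv, h.conj_e (PI_spec hv).1 (V2_spec hw).1]
    exact ⟨_, (h2 v hv w hw).1, rfl⟩
  -- a nontrivial element of the four-group fixes one point
  have free : ∀ {v : ℕ}, v ∈ V2I → v ≠ 0 → ∀ Q, act (ve v) Q = Q → Q = U0 := by
    intro v hv hv0 Q hQ
    set k : K := ⟨h.e v, B.vK hv⟩ with hk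
    have hn : k ∈ Subgroup.normalizer (Q : Set K) := by
      rw [← Sylow.smul_eq_iff_mem_normalizer]
      refine Eq.trans ?_ hQ
      refine Sylow.ext ?_
      show (Q : Subgroup K).map (MulAut.conj k).toMonoidHom = (Q : Subgroup K).map (cX (ve v)).toMonoidHom
      congr 1
      ext y
      show h.e v * y * (h.e v)⁻¹ = (ve v : G) * y * (ve v : G)⁻¹
      rw [hve (V2_spec hv).2.2.1]
    have hk2 : orderOf k = 2 := by
      rw [← Subgroup.orderOf_coe]
      refine orderOf_two_iff.2 ⟨(sixteen_mul h (V2_spec hv).2.1 (V2_spec hv).2.1).2.2, fun e => hv0 ?_⟩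
      exact (h.e_eq_one (V2_spec hv).1).1 e
    have hkQ : k ∈ (Q : Subgroup K) := by
      have := (IsPGroup.of_card (n := 1) (by rw [Nat.card_zpowers, hk2, pow_one]) :
        IsPGroup 2 (Subgroup.zpowers k)).inf_normalizer_sylow Q
      have hm : k ∈ Subgroup.zpowers k ⊓ Subgroup.normalizer (Q : Set K) :=
        ⟨Subgroup.mem_zpowers k, hn⟩
      rw [this] at hm
      exact hm.2
    obtain ⟨a, ha⟩ := MulAction.exists_smul_eq K U0 Q
    have hQc : Nat.card (Q : Subgroup K) = 4 := by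
      have e : Nat.card (U0 : Subgroup K) = 4 := by
        rw [hU0, Nat.card_congr (Subgroup.subgroupOfEquivOfLe hVK).toEquiv, hV4]
      rw [← e, ← ha, Sylow.coe_subgroup_smul]
      exact (Nat.card_congr ((U0 : Subgroup K).equivMapOfInjective _ (MulAut.conj a).injective).toEquiv).symm
    have hQV : ∀ y ∈ (Q : Subgroup K), (y : G) ∈ V2S h := by
      intro y hy
      have hcomm : y * k = k * y := by
        haveI : IsMulCommutative (Q : Subgroup K) :=
          IsPGroup.isMulCommutative_of_card_eq_prime_sq (p := 2) (by rw [hQc]; rfl)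
        exact congrArg Subtype.val (mul_comm' (⟨y, hy⟩ : (Q : Subgroup K)) ⟨k, hkQ⟩)
      obtain ⟨kk, hkk, hkke⟩ : ∃ kk ∈ K, kk * h.e v * kk⁻¹ = h.e 186 := by
        obtain ⟨w, hw⟩ := isConj_iff.1 (B.one_class k hk2)
        exact ⟨(w : G)⁻¹, inv_mem w.2, by
          rw [show h.e v = (w : G) * h.e 186 * (w : G)⁻¹ from (congrArg Subtype.val hw).symm]; group⟩
      obtain ⟨j, hj, hje⟩ := B.cent186 (mul_mem (mul_mem hkk y.2) (inv_mem hkk)) (by
        rw [← hkke, ← conj_mul', ← conj_mul', show (y : G) * h.e v = h.e v * y from congrArg Subtype.val hcomm])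
      -- conjugation into the four-group
      have hcent : ∀ z : K, z * k = k * z → (z : G) ∈ V2S h := by
        intro z hz
        have hC : Nat.card (Subgroup.centralizer ({k} : Set K)) = 4 := by
          rw [← B.card_C]
          obtain ⟨w, hw⟩ := isConj_iff.1 (B.one_class k hk2)
          rw [← hw]
          exact (Nat.card_congr ((MulAut.conj w).toEquiv.subtypeEquiv fun a => by
            simp only [Subgroup.mem_centralizer_singleton_iff, MulEquiv.toEquiv_eq_coe, EquivLike.coe_coe,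
              ← MulAut.conj_apply, ← map_mul, (MulAut.conj w).injective.eq_iff])).symm
        have hle : (V2S h).subgroupOf K ≤ Subgroup.centralizer ({k} : Set K) := by
          intro z hz
          obtain ⟨j, hj, e⟩ := Subgroup.mem_subgroupOf.1 hz
          refine Subgroup.mem_centralizer_singleton_iff.2 (Subtype.ext ?_)
          show (z : G) * h.e v = h.e v * (z : G)
          rw [← e]
          exact (sixteen_mul h (V2_spec hj).2.1 (V2_spec hv).2.1).2.1
        have heq := Subgroup.eq_of_le_of_card_ge hle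
          (by rw [hC, Nat.card_congr (Subgroup.subgroupOfEquivOfLe hVK).toEquiv, hV4])
        have : z ∈ Subgroup.centralizer ({k} : Set K) := Subgroup.mem_centralizer_singleton_iff.2 hz
        rw [← heq] at this
        exact Subgroup.mem_subgroupOf.1 this
      exact hcent y hcomm
    refine Sylow.ext (Subgroup.eq_of_le_of_card_ge (fun y hy => ?_) ?_)
    · rw [hU0]; exact Subgroup.mem_subgroupOf.2 (hQV y hy)
    · rw [hU0, Nat.card_congr (Subgroup.subgroupOfEquivOfLe hVK).toEquiv, hV4, hQc]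
  -- five points
  have hcard5 : Nat.card (Sylow 2 K) = 5 := by
    set N := Subgroup.normalizer (U0 : Set K) with hN
    have hidx : Nat.card (Sylow 2 K) = N.index := U0.card_eq_index_normalizer
    have hg : (⟨g1 * g3⁻¹, B.lv.g13⟩ : K) ∈ N := by
      rw [hN, ← Sylow.smul_eq_iff_mem_normalizer]
      refine Eq.trans (Sylow.ext ?_) g0
      show (U0 : Subgroup K).map (MulAut.conj (⟨g1 * g3⁻¹, B.lv.g13⟩ : K)).toMonoidHom =
        (U0 : Subgroup K).map (cX g).toMonoidHom
      congr 1
    have hd3 : 3 ∣ Nat.card N := by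
      have := Subgroup.orderOf_dvd_natCard _ hg
      rwa [Subgroup.orderOf_mk, B.rot_order] at this
    have hd4 : 4 ∣ Nat.card N := by
      have := Subgroup.card_dvd_of_le (Subgroup.le_normalizer (H := (U0 : Subgroup K)))
      rwa [show Nat.card (U0 : Subgroup K) = 4 by
        rw [hU0, Nat.card_congr (Subgroup.subgroupOfEquivOfLe hVK).toEquiv, hV4]] at this
    obtain ⟨q, hq⟩ := Nat.Coprime.mul_dvd_of_dvd_of_dvd (by norm_num : Nat.Coprime 4 3) hd4 hd3
    have hmul := N.card_mul_index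
    rw [h60, hq, mul_assoc] at hmul
    have hq5 : q * N.index = 5 := by omega
    have hne : N.index ≠ 1 := fun e => by
      rw [Subgroup.index_eq_one] at e
      haveI : (U0 : Subgroup K).Normal := Subgroup.normalizer_eq_top_iff.1 e
      have hc : Nat.card (U0 : Subgroup K) = 4 := by
        rw [hU0, Nat.card_congr (Subgroup.subgroupOfEquivOfLe hVK).toEquiv, hV4]
      rcases (inferInstance : (U0 : Subgroup K).Normal).eq_bot_or_eq_top with e' | e'
      · rw [e', Subgroup.card_bot] at hc; omega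
      · rw [e', Subgroup.card_top, h60] at hc; omega
    rw [hidx]
    exact ((Nat.dvd_prime (by norm_num : Nat.Prime 5)).1 ⟨q, by rw [mul_comm]; exact hq5.symm⟩).resolve_left hne
  have amulV : ∀ {v w : ℕ}, v ∈ V2I → w ∈ V2I → ∀ Q, act (ve v) (act (ve w) Q) = act (ve (mA v w)) Q :=
    fun {v w} hv hw Q => by
      rw [← amul, ← ve_mul (V2_spec hv).2.2.1 (V2_spec hw).2.2.1 (V2_spec (hV2mul hv hw)).2.2.1]
  have ve0 : ve 0 = 1 := Subtype.ext (by rw [hve (by decide +kernel), h.e_zero]; rfl)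
  let pts : Sylow 2 K → Fin 5 → Sylow 2 K := fun P i => if i.val = 4 then U0 else act (ve (vPt.getD i.val 0)) P
  have hpts : ∀ P, P ≠ U0 → Function.Bijective (pts P) := by
    intro P hP
    have hinj : Function.Injective (pts P) := by
      intro i j e
      simp only [pts] at e
      have hne : ∀ {v : ℕ}, v ∈ V2I → act (ve v) P ≠ U0 := fun {v} hv e' => hP (by
        have := congrArg (act (ve v)⁻¹) e'
        rw [← amul, inv_mul_cancel, aone, ← v0 (V2_spec hv).2.2.1, ← amul, inv_mul_cancel, aone] at this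
        exact this)
      by_cases hi : i.val = 4 <;> by_cases hj : j.val = 4
      · exact Fin.ext (hi.trans hj.symm)
      · rw [if_pos hi, if_neg hj] at e; exact absurd e.symm (hne (vPt_spec (by omega)))
      · rw [if_neg hi, if_pos hj] at e; exact absurd e (hne (vPt_spec (by omega)))
      · rw [if_neg hi, if_neg hj] at e
        have hvi := vPt_spec (show i.val < 4 by omega)
        have hvj := vPt_spec (show j.val < 4 by omega)
        have e2 := congrArg (act (ve (vPt.getD j.val 0))) e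
        rw [amulV hvj hvi, amulV hvj hvj] at e2
        have hsq : ∀ v ∈ V2I, mA v v = 0 := by decide +kernel
        rw [hsq _ hvj, ve0, aone] at e2
        have h0 : mA (vPt.getD j.val 0) (vPt.getD i.val 0) = 0 := by
          by_contra hne0
          exact hP (free (hV2mul hvj hvi) hne0 P e2)
        have hlen : vPt.length = 4 := rfl
        have hinjV : ∀ v ∈ V2I, ∀ w ∈ V2I, mA v w = 0 → v = w := by decide +kernel
        have := hinjV _ hvj _ hvi h0
        rw [List.getD_eq_getElem _ _ (by omega), List.getD_eq_getElem _ _ (by omega)] at this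
        exact Fin.ext (hnd.getElem_inj_iff.1 this).symm
    exact hinj.bijective_of_nat_card_le (by rw [hcard5, Nat.card_fin])
  -- the point fixed by the rotation
  obtain ⟨P, hP, hgP⟩ : ∃ P, P ≠ U0 ∧ act g P = P := by
    obtain ⟨P, hP⟩ : ∃ P : Sylow 2 K, P ≠ U0 := by
      by_contra hc
      push Not at hc
      haveI : Subsingleton (Sylow 2 K) := ⟨fun a b => (hc a).trans (hc b).symm⟩
      have := Finite.card_le_one_iff_subsingleton.2 (inferInstance : Subsingleton (Sylow 2 K))
      omega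
    obtain ⟨i, hi⟩ := (hpts P hP).2 (act g P)
    have hi4 : i.val ≠ 4 := fun e => hP (by
      simp only [pts, if_pos e] at hi
      have := congrArg (act g⁻¹) hi
      rw [← amul g⁻¹ g P, inv_mul_cancel, aone] at this
      rw [← this]
      nth_rewrite 1 [← g0]
      rw [← amul, inv_mul_cancel, aone])
    simp only [pts, if_neg hi4] at hi
    obtain ⟨-, -, -, -, u, hu, hue⟩ := V2_spec (vPt_spec (show i.val < 4 by omega))
    refine ⟨act (ve u) P, fun e => hP ?_, ?_⟩
    · have := congrArg (act (ve u)⁻¹) e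
      rw [← amul, inv_mul_cancel, aone, ← v0 (V2_spec hu).2.2.1, ← amul, inv_mul_cancel, aone] at this
      exact this
    · have hconj : g * ve u = ve (c13 u) * g := Subtype.ext (by
        show g1 * g3⁻¹ * (ve u : G) = (ve (c13 u) : G) * (g1 * g3⁻¹)
        rw [hve (V2_spec hu).2.2.1, hve (V2_spec (V2_spec hu).2.2.2.1).2.2.1, ← B.rot_e hu]
        group)
      have hcomm : mA (c13 u) (vPt.getD i.val 0) = u := by
        have : ∀ v ∈ V2I, ∀ w ∈ V2I, mA v w = mA w v := by decide +kernel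
        rw [this _ (V2_spec hu).2.2.2.1 _ (vPt_spec (by omega)), hue]
      rw [← amul, hconj, amul, ← hi, amulV (V2_spec hu).2.2.2.1 (vPt_spec (by omega)), hcomm]
  have hf := hpts P hP
  let ι := Equiv.ofBijective (pts P) hf
  let T : XC h →* Equiv.Perm (Fin 5) :=
    ι.symm.permCongrHom.toMonoidHom.comp ((MulAction.toPermHom (MulAut K) (Sylow 2 K)).comp cX)
  have hT : ∀ (x : XC h) (π : Fin 5 → Fin 5), (∀ i, act x (pts P i) = pts P (π i)) → ∀ i, T x i = π i :=
    fun x π hh i => ι.injective (by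
      show ι (ι.symm (act x (ι i))) = ι (π i)
      rw [Equiv.apply_symm_apply]
      exact hh i)
  have pts_idx : ∀ {v : ℕ}, v ∈ V2I → ∀ j : Fin 5, j.val = vPt.idxOf v → pts P j = act (ve v) P := fun {v} hv j hj => by
    have hlt : vPt.idxOf v < 4 := List.idxOf_lt_length_of_mem (hmV v hv)
    simp only [pts]
    rw [if_neg (by omega), hj, List.getD_eq_getElem _ _ (List.idxOf_lt_length_of_mem (hmV v hv)),
      List.getElem_idxOf]
  have tg : T g = th13 := by
    refine Equiv.ext (hT g _ fun i => ?_)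
    by_cases hi : i.val = 4
    · rw [show i = 4 from Fin.ext hi, hth4]
      exact g0
    · have hv := vPt_spec (show i.val < 4 by omega)
      have hidx : (th13 i).val = vPt.idxOf (c13 (vPt.getD i.val 0)) := hth ⟨i.val, by omega⟩
      rw [pts_idx (V2_spec hv).2.2.2.1 _ hidx]
      simp only [pts, if_neg hi]
      rw [← amul, show g * ve (vPt.getD i.val 0) = ve (c13 (vPt.getD i.val 0)) * g from Subtype.ext (by
        show g1 * g3⁻¹ * (ve _ : G) = (ve _ : G) * (g1 * g3⁻¹)
        rw [hve (V2_spec hv).2.2.1, hve (V2_spec (V2_spec hv).2.2.2.1).2.2.1, ← B.rot_e hv]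
        group), amul, hgP]
  refine ⟨T, fun k hk hk1 => ?_, fun x hx => ⟨hPX hx, ?_⟩, tg, fun σ hσ => ?_⟩
  · have hn : (T.ker.comap (Subgroup.inclusion B.lv.le)).Normal := inferInstance
    rcases hn.eq_bot_or_eq_top with e | e
    · have hm : (⟨k, hk⟩ : K) ∈ T.ker.comap (Subgroup.inclusion B.lv.le) := hk1
      rw [e, Subgroup.mem_bot] at hm
      exact Subtype.ext (congrArg (fun t : K => (t : G)) hm)
    · exfalso
      have hm : (⟨g1 * g3⁻¹, B.lv.g13⟩ : K) ∈ T.ker.comap (Subgroup.inclusion B.lv.le) := e ▸ Subgroup.mem_top _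
      have : T g = 1 := hm
      rw [tg] at this
      exact absurd this (by decide)
  · have hxe : ve x = ⟨h.e x, hPX hx⟩ := Subtype.ext (hve hx)
    obtain ⟨w0, hw0, e, -, htw, huniq⟩ := h1 x hx
    -- the image of the fixed point
    obtain ⟨j, hj⟩ := hf.2 (act (ve x) P)
    have hj4 : j.val ≠ 4 := fun e' => hP (by
      simp only [pts, if_pos e'] at hj
      have := congrArg (act (ve x)⁻¹) hj
      rw [← amul (ve x)⁻¹ (ve x) P, inv_mul_cancel, aone] at this
      rw [← this]
      nth_rewrite 1 [← v0 hx]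
      rw [← amul, inv_mul_cancel, aone])
    simp only [pts, if_neg hj4] at hj
    have hu := vPt_spec (show j.val < 4 by omega)
    set u := vPt.getD j.val 0 with hudef
    simp only [twOk, List.all_eq_true, beq_iff_eq] at htw
    have hp : p8 x * (m8 8 * m8 11) = p8 w0 * (if e then m8 8 * m8 11 else m8 8 * m8 11 * (m8 8 * m8 11)) * p8 x := by
      refine Subtype.ext (Equiv.ext fun k => ?_)
      have e13 : ∀ k, ((m8 8 * m8 11 : alternatingGroup (Fin 8)) : Equiv.Perm (Fin 8)) k = d13 k := fun k => by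
        rw [Subgroup.coe_mul, Equiv.Perm.mul_apply, m8_spec (by norm_num), m8_spec (by norm_num)]; rfl
      rw [Subgroup.coe_mul, Equiv.Perm.mul_apply, e13, p8_spec (PI_spec hx).1, htw k (List.mem_finRange k)]
      cases e <;> simp only [Bool.false_eq_true, if_false, if_true] <;>
        simp only [Subgroup.coe_mul, Equiv.Perm.mul_apply, p8_spec (PI_spec hx).1, p8_spec (V2_spec hw0).1,
          m8_spec (show 8 < 12 by norm_num), m8_spec (show 11 < 12 by norm_num)] <;> rfl
    have e13 : φ (m8 8 * m8 11) = g1 * g3⁻¹ := by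
      rw [map_mul, hφ 8 (by norm_num), hφ 11 (by norm_num)]; simp [gens]
    have hrel : ve x * g = ve w0 * (if e then g else g * g) * ve x := by
      refine Subtype.ext ?_
      have := congrArg φ hp
      rw [map_mul, hφL x (PI_spec hx).1, e13, map_mul, map_mul, hφL w0 (V2_spec hw0).1, hφL x (PI_spec hx).1] at this
      rw [Subgroup.coe_mul, Subgroup.coe_mul, Subgroup.coe_mul, hve hx, hve (V2_spec hw0).2.2.1]
      show h.e x * (g1 * g3⁻¹) = _
      rw [this]
      cases e
      · simp only [Bool.false_eq_true, if_false, map_mul φ (m8 8 * m8 11), e13]; rfl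
      · simp only [if_true, e13]; rfl
    have hmove : ∀ {v : ℕ}, v ∈ V2I → act g (act (ve v) P) = act (ve (c13 v)) P := fun {v} hv => by
      rw [← amul, show g * ve v = ve (c13 v) * g from Subtype.ext (by
        show g1 * g3⁻¹ * (ve _ : G) = (ve _ : G) * (g1 * g3⁻¹)
        rw [hve (V2_spec hv).2.2.1, hve (V2_spec (V2_spec hv).2.2.2.1).2.2.1, ← B.rot_e hv]
        group), amul, hgP]
    have hwu : u = wOf x := by
      refine (huniq u hu).resolve_left ?_
      rw [Bool.not_eq_false, fixOf, beq_iff_eq]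
      have e1 := congrArg (fun y => act y P) hrel
      simp only [amul] at e1
      rw [hgP, ← hj] at e1
      have key : ∀ {v : ℕ}, v ∈ V2I → act (ve u) P = act (ve v) P → v = u := fun {v} hv e' => by
        have hi2 : vPt.idxOf v < 4 := List.idxOf_lt_length_of_mem (hmV v hv)
        have h1' : pts P ⟨vPt.idxOf v, by omega⟩ = act (ve v) P := pts_idx hv _ rfl
        have h2' : pts P j = act (ve u) P := by simp only [pts, if_neg hj4]; rfl
        have h3' := hf.1 (h2'.trans (e'.trans h1'.symm))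
        have h4' : j.val = vPt.idxOf v := congrArg Fin.val h3'
        rw [hudef, h4', List.getD_eq_getElem _ _ (List.idxOf_lt_length_of_mem (hmV v hv)), List.getElem_idxOf]
      cases e
      · simp only [Bool.false_eq_true, if_false, amul, hmove hu, hmove (V2_spec hu).2.2.2.1] at e1
        rw [amulV hw0 (V2_spec (V2_spec hu).2.2.2.1).2.2.2.1] at e1
        exact key (hV2mul hw0 (V2_spec (V2_spec hu).2.2.2.1).2.2.2.1) e1
      · simp only [if_true, hmove hu] at e1
        rw [amulV hw0 (V2_spec hu).2.2.2.1] at e1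
        exact key (hV2mul hw0 (V2_spec hu).2.2.2.1) e1
    refine hT _ _ fun i => ?_
    rw [← hxe]
    by_cases hi : i.val = 4
    · rw [thP, if_pos hi]
      simp only [pts, if_pos hi, show ((4 : Fin 5) : ℕ) = 4 from rfl, if_true]
      exact v0 hx
    · have hv := vPt_spec (show i.val < 4 by omega)
      obtain ⟨hcv, hcvw⟩ := h2 x hx _ hv
      rw [thP, if_neg hi]
      have hlt : vPt.idxOf (mA (cj x (vPt.getD i.val 0)) (wOf x)) < 4 := List.idxOf_lt_length_of_mem (hmV _ hcvw)
      rw [pts_idx hcvw ⟨_, Nat.mod_lt _ (by norm_num)⟩ (Nat.mod_eq_of_lt (by omega))]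
      simp only [pts, if_neg hi]
      rw [← hwu, ← amulV hcv hu, hj, ← amul, ← amul]
      refine congrArg (fun y => act y P) ?_
      refine Subtype.ext ?_
      rw [Subgroup.coe_mul, Subgroup.coe_mul, hve hx, hve (V2_spec hv).2.2.1, hve (V2_spec hcv).2.2.1,
        ← h.conj_e (PI_spec hx).1 (V2_spec hv).1]
      group
  · set θK := T.comp (Subgroup.inclusion B.lv.le) with hθK
    have hinj : Function.Injective θK := by
      rcases (inferInstance : θK.ker.Normal).eq_bot_or_eq_top with e | e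
      · exact (MonoidHom.ker_eq_bot_iff θK).1 e
      · exfalso
        have : T g = 1 := (MonoidHom.mem_ker (f := θK) (x := ⟨g1 * g3⁻¹, B.lv.g13⟩)).1 (by rw [e]; exact Subgroup.mem_top _)
        rw [tg] at this
        exact absurd this (by decide)
    have hr : θK.range = alternatingGroup (Fin 5) := by
      refine Equiv.Perm.eq_alternatingGroup_of_index_eq_two ?_
      have h1 : Nat.card θK.range = 60 := by
        rw [← h60]; exact (Nat.card_congr (MonoidHom.ofInjective hinj).toEquiv).symm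
      have := θK.range.card_mul_index
      rw [h1, Nat.card_perm, Nat.card_fin, show Nat.factorial 5 = 60 * 2 by rfl] at this
      omega
    have : σ ∈ θK.range := hr ▸ Equiv.Perm.mem_alternatingGroup.2 hσ
    obtain ⟨k, hk⟩ := this
    exact ⟨⟨k, B.lv.le k.2⟩, k.2, hk⟩

end Big

end Cfsg.Agent.Invol.Cen192.AP
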